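import Groth.Agent.CohCore23.GodComp
import Groth.Agent.QCoh.GodBC

/-!
# Flat base change for sections of Godement cokernels modulo boundaries
-/

universe u

set_option backward.isDefEq.respectTransparency false
set_option backward.isDefEq.respectTransparency.types false
set_option linter.style.haveILetI false

open CategoryTheory CategoryTheory.Limits AlgebraicGeometry TopologicalSpace Opposite TensorProduct

namespace Groth.Agent.CohCore23

open Groth.Agent.QCoh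

/-- What a quasi-isomorphism says about cycles. -/
theorem cycles_of_quasiIsoAt {R : Type u} [CommRing R] {K L : CochainComplex (ModuleCat.{u} R) ℕ} (f : K ⟶ L)
    (n : ℕ) [hf : QuasiIsoAt f (n + 1)] :
    (∀ y : L.X (n + 1), L.d (n + 1) (n + 2) y = 0 → ∃ (x : K.X (n + 1)) (b : L.X n),
      K.d (n + 1) (n + 2) x = 0 ∧ f.f (n + 1) x + L.d n (n + 1) b = y) ∧
    ∀ x : K.X (n + 1), K.d (n + 1) (n + 2) x = 0 → ∀ b : L.X n, f.f (n + 1) x = L.d n (n + 1) b →
      ∃ a : K.X n, K.d n (n + 1) a = x := by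
  let S₁ := K.sc' n (n + 1) (n + 2)
  let S₂ := L.sc' n (n + 1) (n + 2)
  let φ : S₁ ⟶ S₂ := (HomologicalComplex.shortComplexFunctor' _ _ n (n + 1) (n + 2)).map f
  haveI : ShortComplex.QuasiIso φ :=
    (quasiIsoAt_iff' f n (n + 1) (n + 2) (by simp) (by simp)).1 hf
  let γ : ShortComplex.LeftHomologyMapData φ S₁.moduleCatLeftHomologyData S₂.moduleCatLeftHomologyData := default
  have hbij : Function.Bijective γ.φH :=
    haveI := γ.quasiIso_iff.1 this
    ConcreteCategory.bijective_of_isIso γ.φH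
  have hi : ∀ k, (γ.φK k).1 = f.f (n + 1) k.1 := fun k => congr($(γ.commi) k)
  have hπ : ∀ k, γ.φH (Submodule.Quotient.mk k) = Submodule.Quotient.mk (γ.φK k) := fun k => congr($(γ.commπ) k)
  refine ⟨fun y hy => ?_, fun x hx b hb => ?_⟩
  · obtain ⟨c, hc⟩ := hbij.2 (Submodule.Quotient.mk (⟨y, hy⟩ : LinearMap.ker S₂.g.hom))
    obtain ⟨k, rfl⟩ := Submodule.Quotient.mk_surjective _ c
    rw [hπ] at hc
    obtain ⟨b, hb⟩ := (Submodule.Quotient.eq _).1 hc.symm
    refine ⟨k.1, b, k.2, ?_⟩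
    have e : L.d n (n + 1) b = y - f.f (n + 1) k.1 := by
      refine (congrArg Subtype.val hb : _).trans ?_
      rw [← hi]
      rfl
    rw [e, add_sub_cancel]
  · have h0 : γ.φH (Submodule.Quotient.mk (⟨x, hx⟩ : LinearMap.ker S₁.g.hom)) = 0 := by
      rw [hπ]
      exact (Submodule.Quotient.mk_eq_zero _).2 ⟨b, Subtype.ext (hb.symm.trans (hi ⟨x, hx⟩).symm)⟩
    obtain ⟨a, ha⟩ := (Submodule.Quotient.mk_eq_zero _).1 (hbij.1 (h0.trans (map_zero _).symm))
    exact ⟨a, congrArg Subtype.val ha⟩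

variable {X X' : Scheme.{u}} (φ : X' ⟶ X) {A B : Type u} [CommRing A] [CommRing B] [Algebra A B]
  (ρ : A →+* Coh.Γtop X) (ρ' : B →+* Coh.Γtop X') (hρ : ∀ a, ρ' (algebraMap A B a) = φ.appTop (ρ a))
  {M : X.Modules} {M' : X'.Modules} (η : M ⟶ (Scheme.Modules.pushforward φ).obj M')
  [Module.Flat A B] [IsAffineHom φ] [CompactSpace X] [QuasiSeparatedSpace X]
  (hM : Coh.IsQCoh M) (hM' : Coh.IsQCoh M') (hbc : IsAffineBC φ ρ ρ' hρ η)

include hρ hM hM' hbc in
theorem quot_baseChange (n : ℕ) :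
    letI := secModule ρ (godQ M (n + 1)) ⊤
    letI := secModule ρ (God (godQ M n)) ⊤
    letI := secModule ρ' (godQ M' (n + 1)) (φ ⁻¹ᵁ ⊤)
    ∀ (Λ : B ⊗[A] Γ(godQ M (n + 1), ⊤) →ₗ[B] Γ(godQ M' (n + 1), φ ⁻¹ᵁ ⊤)),
      (∀ x, Λ (1 ⊗ₜ x) = secMap φ (godQMap φ η (n + 1)) (le_rfl : φ ⁻¹ᵁ ⊤ ≤ φ ⁻¹ᵁ ⊤) x) →
      (∀ z', ∃ w b', Λ w + (godπ M' n).app (φ ⁻¹ᵁ ⊤) b' = z') ∧
        ∀ w b', Λ w = (godπ M' n).app (φ ⁻¹ᵁ ⊤) b' →
          ∃ v, (appHom ρ (godπ M n) ⊤).baseChange B v = w := by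
  letI := secModule ρ (godQ M (n + 1)) ⊤
  letI := secModule ρ (God (godQ M n)) ⊤
  letI := secModule ρ' (godQ M' (n + 1)) (φ ⁻¹ᵁ ⊤)
  intro Λ hΛ
  obtain ⟨s, hs, hcov⟩ := isCompact_iff_finite_and_eq_biUnion_affineOpens.mp
    (show IsCompact ((⊤ : X.Opens) : Set X) from isCompact_univ)
  let U : Fin hs.toFinset.card → X.Opens := fun i => (hs.toFinset.equivFin.symm i).1.1
  have hU : (⨆ i, U i) = ⊤ := by
    rw [hcov]
    refine le_antisymm (iSup_le fun i => ?_) (iSup₂_le fun W hW => ?_)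
    · exact le_iSup₂ (f := fun (W : X.affineOpens) (_ : W ∈ s) => W.1) _
        (hs.mem_toFinset.1 (hs.toFinset.equivFin.symm i).2)
    · refine le_trans ?_ (le_iSup U (hs.toFinset.equivFin ⟨W, hs.mem_toFinset.2 hW⟩))
      simp [U]
  have hq : QuasiIso (godPsi ρ M φ η ρ' hρ ⊤) := by
    rw [← hU]
    exact quasiIso_godPsi_qc φ ρ ρ' hρ η hM hM' hbc _ U fun i => (hs.toFinset.equivFin.symm i).1.2
  obtain ⟨hS, hI⟩ := cycles_of_quasiIsoAt (godPsi ρ M φ η ρ' hρ ⊤) n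
  let K := godCx ρ ⊤ M
  let a : Γ(godQ M (n + 1), ⊤) →ₗ[A] K.X (n + 1) := appHom ρ (toGod (godQ M (n + 1))) ⊤
  have ha : Function.Injective a := toGod_app_injective (godQ M (n + 1)) ⊤
  have hd : ∀ y : Γ(God (godQ M n), ⊤), (K.d n (n + 1)).hom y = a (appHom ρ (godπ M n) ⊤ y) := fun y =>
    godCx_d_apply ρ ⊤ M n y
  have hex : Function.Exact a (K.d (n + 1) (n + 2)).hom := fun y => by
    constructor
    · intro hy
      replace hy := (godCx_d_apply ρ ⊤ M (n + 1) y).symm.trans hy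
      exact exists_of_godπ_app_eq_zero (n + 1) y
        ((toGod_app_injective (godQ M (n + 2)) ⊤) (hy.trans (map_zero _).symm))
    · rintro ⟨x, rfl⟩
      refine (godCx_d_apply ρ ⊤ M (n + 1) _).trans ?_
      exact (congrArg ((toGod (godQ M (n + 2))).app ⊤) (godπ_toGod_app M (n + 1) x)).trans (map_zero _)
  have key : ∀ w, ((godPsi ρ M φ η ρ' hρ ⊤).f (n + 1)).hom (a.baseChange B w) =
      (toGod (godQ M' (n + 1))).app (φ ⁻¹ᵁ ⊤) (Λ w) := fun w => by
    induction w using TensorProduct.induction_on with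
    | zero => rw [map_zero, map_zero, map_zero, map_zero]
    | tmul b x =>
      rw [LinearMap.baseChange_tmul]
      refine (adjunct_tmul ((godCxMap φ η ρ ρ' hρ le_rfl).f (n + 1)) b (a x)).trans ?_
      rw [show (b ⊗ₜ[A] x : B ⊗[A] _) = b • ((1 : B) ⊗ₜ x) by simp [TensorProduct.smul_tmul'], map_smul, hΛ]
      refine Eq.trans ?_ (Scheme.Modules.Hom.app_smul (toGod (godQ M' (n + 1))) _ _).symm
      exact congrArg (b • ·) (secMap_toGod φ η (n + 1) le_rfl x)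
    | add v w hv hw => rw [map_add, map_add, hv, hw, map_add, map_add]
  refine ⟨fun z' => ?_, fun w b' hw => ?_⟩
  · obtain ⟨x, b, hx, hxb⟩ := hS ((toGod (godQ M' (n + 1))).app (φ ⁻¹ᵁ ⊤) z')
      ((godCx_d_apply ρ' (φ ⁻¹ᵁ ⊤) M' (n + 1) _).trans ((congrArg ((toGod (godQ M' (n + 2))).app _)
        (godπ_toGod_app M' (n + 1) z')).trans (map_zero _)))
    obtain ⟨w, rfl⟩ := (Module.Flat.lTensor_exact B hex x).1 hx
    refine ⟨w, b, toGod_app_injective (godQ M' (n + 1)) _ ?_⟩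
    refine (map_add _ _ _).trans (Eq.trans ?_ hxb)
    exact congrArg₂ (· + ·) (key w).symm (godCx_d_apply ρ' (φ ⁻¹ᵁ ⊤) M' n b).symm
  · have hx : (((bcFunctor A B).mapHomologicalComplex _).obj K).d (n + 1) (n + 2) (a.baseChange B w) = 0 :=
      (Module.Flat.lTensor_exact B hex _).2 ⟨w, rfl⟩
    obtain ⟨v, hv⟩ := hI _ hx b' ((key w).trans ((congrArg ((toGod (godQ M' (n + 1))).app _) hw).trans
      (godCx_d_apply ρ' (φ ⁻¹ᵁ ⊤) M' n b').symm))
    refine ⟨v, Module.Flat.lTensor_preserves_injective_linearMap (M := B) a ha ?_⟩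
    refine Eq.trans ?_ hv
    show (a.baseChange B) ((appHom ρ (godπ M n) ⊤).baseChange B v) = (K.d n (n + 1)).hom.baseChange B v
    rw [show (K.d n (n + 1)).hom = a.comp (appHom ρ (godπ M n) ⊤) from LinearMap.ext hd,
      LinearMap.baseChange_comp]
    rfl

end Groth.Agent.CohCore23
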