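import Groth.Agent.CohCore23.FlatPushBC
import Groth.Agent.CohCore23.GodQuot
import Groth.Agent.QCoh.RpushModel

/-! # Flat base change for higher direct images -/

set_option backward.isDefEq.respectTransparency false
set_option backward.isDefEq.respectTransparency.types false
set_option linter.style.haveILetI false

universe u

open CategoryTheory CategoryTheory.Limits AlgebraicGeometry TopologicalSpace Opposite
open scoped TensorProduct

noncomputable section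

namespace Groth.Agent.CohCore23.RBC

open Groth.Agent.QCoh Groth.Agent.CohCore23.BC

section general

variable {X X' : Scheme.{u}} (φ : X' ⟶ X) {M : X.Modules} {M' : X'.Modules}
  (η : M ⟶ (Scheme.Modules.pushforward φ).obj M')

theorem secMap_smul'' {V : X.Opens} {W : X'.Opens} (h : W ≤ φ ⁻¹ᵁ V) (r : Γ(X, V)) (x : Γ(M, V)) :
    secMap φ η h (r • x) = φ.appLE V W h r • secMap φ η h x := by
  unfold secMap
  rw [η.app_smul]
  exact map_smul' (M := M') (homOfLE h) _ _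

theorem secMap_zero' {V : X.Opens} {W : X'.Opens} (h : W ≤ φ ⁻¹ᵁ V) : secMap φ η h 0 = 0 :=
  map_zero (AddMonoidHom.mk' (secMap φ η h) (secMap_add φ η h))

theorem bijective_secMap [IsOpenImmersion φ] (hη : BijOn φ η) {V : X.Opens} {W : X'.Opens}
    (h : W ≤ φ ⁻¹ᵁ V) (he : W = φ ⁻¹ᵁ V) (hV : V ≤ φ.opensRange) : Function.Bijective (secMap φ η h) :=
  Function.Bijective.comp (bijective_rs_of_eq M' he.symm h) (hη V hV)

theorem homEquiv_symm_app_pullSec {N : X.Modules} {P : X'.Modules}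
    (μ : N ⟶ (Scheme.Modules.pushforward φ).obj P) {V : X.Opens} {W : X'.Opens} (e : W ≤ φ ⁻¹ᵁ V) (c : Γ(N, V)) :
    (((Scheme.Modules.pullbackPushforwardAdjunction φ).homEquiv N P).symm μ).app W (pullSec φ N e c) =
      secMap φ μ e c := by
  have h1 : (Scheme.Modules.pullbackPushforwardAdjunction φ).unit.app N ≫
      (Scheme.Modules.pushforward φ).map (((Scheme.Modules.pullbackPushforwardAdjunction φ).homEquiv N P).symm μ) = μ :=
    ((Scheme.Modules.pullbackPushforwardAdjunction φ).homEquiv_unit _ _ _).symm.trans (Equiv.apply_symm_apply _ μ)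
  refine (map_app_comm _ (homOfLE e) _).trans (congrArg (rs P e) ?_)
  exact congr(($h1).app V c)

end general

variable {X Y X' Y' : Scheme.{u}} {f : X ⟶ Y} {g : Y' ⟶ Y} {g' : X' ⟶ X} {f' : X' ⟶ Y'}
  (H : IsPullback g' f' f g) (M : X.Modules)

/-- The unit of the inverse image. -/
abbrev unitPull (g' : X' ⟶ X) (M : X.Modules) :
    M ⟶ (Scheme.Modules.pushforward g').obj ((Scheme.Modules.pullback g').obj M) :=
  (Scheme.Modules.pullbackPushforwardAdjunction g').unit.app M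

/-- Comparison of Godement cokernels. -/
abbrev qη (g' : X' ⟶ X) (M : X.Modules) (n : ℕ) :
    godQ M n ⟶ (Scheme.Modules.pushforward g').obj (godQ ((Scheme.Modules.pullback g').obj M) n) :=
  godQMap g' (unitPull g' M) n

/-- Comparison of direct images of Godement cokernels. -/
def pushQ (n : ℕ) : (Scheme.Modules.pushforward f).obj (godQ M n) ⟶ (Scheme.Modules.pushforward g).obj
    ((Scheme.Modules.pushforward f').obj (godQ ((Scheme.Modules.pullback g').obj M) n)) :=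
  (Scheme.Modules.pushforward f).map (qη g' M n) ≫
    (Scheme.Modules.pushforwardComp g' f).hom.app _ ≫
    (Scheme.Modules.pushforwardCongr H.w).hom.app _ ≫
    (Scheme.Modules.pushforwardComp f' g).inv.app _

theorem pushQ_app (n : ℕ) (V : Y.Opens) (m : Γ(godQ M n, f ⁻¹ᵁ V)) :
    (pushQ H M n).app V (show Γ((Scheme.Modules.pushforward f).obj (godQ M n), V) from m) =
      (show Γ((Scheme.Modules.pushforward g).obj ((Scheme.Modules.pushforward f').obj
          (godQ ((Scheme.Modules.pullback g').obj M) n)), V) from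
        secMap g' (qη g' M n) (le_up H (le_refl (g ⁻¹ᵁ V))) m) := by
  have he : g' ⁻¹ᵁ (f ⁻¹ᵁ V) = f' ⁻¹ᵁ (g ⁻¹ᵁ V) := by
    rw [← Scheme.Hom.comp_preimage, ← Scheme.Hom.comp_preimage, H.w]
  show (godQ ((Scheme.Modules.pullback g').obj M) n).presheaf.map (eqToHom he.symm).op _ = _
  exact congrArg (fun i => (godQ ((Scheme.Modules.pullback g').obj M) n).presheaf.map (Quiver.Hom.op i)
    ((qη g' M n).app (f ⁻¹ᵁ V) m)) (Subsingleton.elim _ _)

/-- Comparison of the models of higher direct images. -/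
def μ (q : ℕ) : rpushModel f M q ⟶
    (Scheme.Modules.pushforward g).obj (rpushModel f' ((Scheme.Modules.pullback g').obj M) q) :=
  cokernel.desc _ (pushQ H M (q + 1) ≫ (Scheme.Modules.pushforward g).map (cokernel.π _)) (by
    refine Scheme.Modules.hom_ext _ _ fun U => ?_
    ext a
    show (cokernel.π ((Scheme.Modules.pushforward f').map (godπ ((Scheme.Modules.pullback g').obj M) q))).app (g ⁻¹ᵁ U)
      ((pushQ H M (q + 1)).app U ((godπ M q).app (f ⁻¹ᵁ U) a)) = 0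
    rw [pushQ_app H M (q + 1) U ((godπ M q).app (f ⁻¹ᵁ U) a)]
    erw [secMap_godπ]
    exact cokernel_π_app_app (α := (Scheme.Modules.pushforward f').map (godπ ((Scheme.Modules.pullback g').obj M) q))
      (U := g ⁻¹ᵁ U) _)

section local_

variable {V : Y.Opens} {W : Y'.Opens} (e : W ≤ g ⁻¹ᵁ V)

/-- The map of open subschemes. -/
abbrev resMap : ((f' ⁻¹ᵁ W : X'.Opens) : Scheme.{u}) ⟶ ((f ⁻¹ᵁ V : X.Opens) : Scheme.{u}) :=
  g'.resLE (f ⁻¹ᵁ V) (f' ⁻¹ᵁ W) (le_up H e)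

/-- The unit of restriction. -/
abbrev uT {Z : Scheme.{u}} (N : Z.Modules) (T : Z.Opens) :
    N ⟶ (Scheme.Modules.pushforward T.ι).obj (N.restrict T.ι) :=
  (Scheme.Modules.restrictAdjunction T.ι).unit.app N

/-- The comparison on the open subschemes. -/
def ηT : M.restrict (f ⁻¹ᵁ V).ι ⟶ (Scheme.Modules.pushforward (resMap H e)).obj
    (((Scheme.Modules.pullback g').obj M).restrict (f' ⁻¹ᵁ W).ι) :=
  ((Scheme.Modules.restrictAdjunction (f ⁻¹ᵁ V).ι).homEquiv M _).symm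
    (unitPull g' M ≫ (Scheme.Modules.pushforward g').map (uT _ (f' ⁻¹ᵁ W)) ≫
      (Scheme.Modules.pushforwardComp (f' ⁻¹ᵁ W).ι g').hom.app _ ≫
      (Scheme.Modules.pushforwardCongr (g'.resLE_comp_ι (le_up H e)).symm).hom.app _ ≫
      (Scheme.Modules.pushforwardComp (resMap H e) (f ⁻¹ᵁ V).ι).inv.app _)

theorem comm_base : Comm (unitPull g' M) (uT ((Scheme.Modules.pullback g').obj M) (f' ⁻¹ᵁ W))
    (uT M (f ⁻¹ᵁ V)) (ηT H M e) := by
  intro U U₁ U₂ Z h₁ h₂ k₁ k₂ x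
  let j := (f ⁻¹ᵁ V).ι
  let j' := (f' ⁻¹ᵁ W).ι
  let P := ((Scheme.Modules.pullback g').obj M).restrict j'
  have h0 := ((Scheme.Modules.restrictAdjunction j).homEquiv_unit _ _ (ηT H M e)).symm.trans
    (Equiv.apply_symm_apply _ _)
  have h1 := congr(($h0).app U x)
  refine Eq.trans ?_ (Eq.trans (congrArg (rs P (k₂.trans ((resMap H e).preimage_mono h₂))) h1.symm) ?_)
  · refine Eq.trans ?_ (congrArg (rs P _) (show _ = P.presheaf.map (eqToHom (by
        rw [← Scheme.Hom.comp_preimage, ← Scheme.Hom.comp_preimage, g'.resLE_comp_ι])).op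
      ((uT ((Scheme.Modules.pullback g').obj M) (f' ⁻¹ᵁ W)).app (g' ⁻¹ᵁ U) ((unitPull g' M).app U x)) from rfl)).symm
    refine (secMap_map j' (uT _ (f' ⁻¹ᵁ W)) h₁ k₁ ((unitPull g' M).app U x)).trans ?_
    exact (map_map (M := P) _ _ _).symm
  · refine Eq.trans ?_ (secMap_map (resMap H e) (ηT H M e) h₂ k₂ ((uT M (f ⁻¹ᵁ V)).app U x)).symm
    rfl

variable {M}

theorem rhoV_comm :
    letI := (g.appLE V W e).hom.toAlgebra
    ∀ a, rhoV f' W (algebraMap Γ(Y, V) Γ(Y', W) a) = (resMap H e).appTop (rhoV f V a) := by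
  letI := (g.appLE V W e).hom.toAlgebra
  intro a
  show (f' ⁻¹ᵁ W).ι.appLE (f' ⁻¹ᵁ W) ⊤ _ (f'.app W (g.appLE V W e a)) =
    (resMap H e).app ⊤ ((f ⁻¹ᵁ V).ι.appLE (f ⁻¹ᵁ V) ⊤ _ (f.app V a))
  rw [f.app_eq_appLE, f'.app_eq_appLE, (resMap H e).app_eq_appLE]
  simp only [← CommRingCat.comp_apply, Scheme.Hom.appLE_comp_appLE]
  simp only [Scheme.Hom.resLE_comp_ι_assoc, H.w]
  rfl

theorem image_resMap_preimage (U : ((f ⁻¹ᵁ V : X.Opens) : Scheme.{u}).Opens) :
    (f' ⁻¹ᵁ W).ι ''ᵁ (resMap H e ⁻¹ᵁ U) = g' ⁻¹ᵁ ((f ⁻¹ᵁ V).ι ''ᵁ U) ⊓ f' ⁻¹ᵁ W := by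
  rw [Scheme.Hom.resLE_preimage, Scheme.Hom.image_preimage_eq_opensRange_inf, Scheme.Opens.opensRange_ι,
    inf_comm]

theorem isAffineHom_resMap (hV : IsAffineOpen V) (hW : IsAffineOpen W) : IsAffineHom (resMap H e) := by
  refine ⟨fun U hU => ?_⟩
  rw [← (f' ⁻¹ᵁ W).ι.isAffineOpen_iff_of_isOpenImmersion, image_resMap_preimage]
  have hP : IsAffineOpen ((f ⁻¹ᵁ V).ι ''ᵁ U) := hU.image_of_isOpenImmersion _
  haveI : IsAffine _ := hV
  haveI : IsAffine _ := hW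
  haveI : IsAffine _ := hP
  exact .of_isIso (Scheme.Hom.isPullback_resLE H e ((f ⁻¹ᵁ V).ι_image_le U) rfl).isoPullback.hom

theorem sc_res {Z S : Scheme.{u}} (p : Z ⟶ S) (V : S.Opens) (P : Z.Opens) (hP : P ≤ p ⁻¹ᵁ V)
    (U : ((p ⁻¹ᵁ V : Z.Opens) : Scheme.{u}).Opens) (h : U ≤ (p ⁻¹ᵁ V).ι ⁻¹ᵁ P) (a : Γ(S, V)) :
    (p ⁻¹ᵁ V).ι.appLE P U h (sc (scX p V) hP a) =
      (((p ⁻¹ᵁ V : Z.Opens) : Scheme.{u}).presheaf.map (homOfLE (le_top : U ≤ ⊤)).op).hom (rhoV p V a) := by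
  show (p ⁻¹ᵁ V).ι.appLE P U h (Z.presheaf.map (homOfLE hP).op (p.app V a)) =
    (((p ⁻¹ᵁ V : Z.Opens) : Scheme.{u}).presheaf.map (homOfLE (le_top : U ≤ ⊤)).op)
      ((p ⁻¹ᵁ V).ι.appLE (p ⁻¹ᵁ V) ⊤ _ (p.app V a))
  simp only [← CommRingCat.comp_apply, Scheme.Hom.map_appLE, Scheme.Hom.appLE_map, Category.assoc]

variable [IsAffineHom (resMap H e)]

theorem isAffineBC_resMap (hV : IsAffineOpen V) (hW : IsAffineOpen W) (hM : Coh.IsQCoh M) :
    letI := (g.appLE V W e).hom.toAlgebra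
    IsAffineBC (resMap H e) (rhoV f V) (rhoV f' W) (rhoV_comm H e) (ηT H M e) := by
  letI := (g.appLE V W e).hom.toAlgebra
  intro U hU
  let T := f ⁻¹ᵁ V
  let T' := f' ⁻¹ᵁ W
  let U' := resMap H e ⁻¹ᵁ U
  let P := T.ι ''ᵁ U
  let M' := (Scheme.Modules.pullback g').obj M
  have hPT : P ≤ T := T.ι_image_le U
  have hP : IsAffineOpen P := hU.image_of_isOpenImmersion _
  letI := secModule (rhoV f V) (M.restrict T.ι) U
  letI := secModule (rhoV f' W) (M'.restrict T'.ι) U'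
  letI := secModule ((rhoV f' W).comp (algebraMap Γ(Y, V) Γ(Y', W))) (M'.restrict T'.ι) U'
  haveI : IsScalarTower Γ(Y, V) Γ(Y', W) Γ(M'.restrict T'.ι, U') := .of_algebraMap_smul fun _ _ => rfl
  have hψ := affBC_square H e hV hW hM P hPT hP
  have hUP : U = T.ι ⁻¹ᵁ P := (T.ι.preimage_image_eq U).symm
  have hU'P : U' = T'.ι ⁻¹ᵁ up g' T' P := by
    rw [← T'.ι.preimage_image_eq U']
    exact congrArg (T'.ι ⁻¹ᵁ ·) (image_resMap_preimage H e U)
  let eS : S M (scX f V) P hPT ≃ₗ[Γ(Y, V)] Γ(M.restrict T.ι, U) := LinearEquiv.ofBijective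
    ({ toFun := fun x => secMap T.ι (uT M T) hUP.le (show Γ(M, P) from x)
       map_add' := secMap_add _ _ _
       map_smul' := fun a x => (secMap_smul'' T.ι (uT M T) hUP.le (sc (scX f V) hPT a) (show Γ(M, P) from x)).trans
         (congrArg (fun r : Γ((T : Scheme.{u}), U) => r • secMap T.ι (uT M T) hUP.le (show Γ(M, P) from x))
           (sc_res f V P hPT U hUP.le a)) } : S M (scX f V) P hPT →ₗ[Γ(Y, V)] Γ(M.restrict T.ι, U))
    (bijective_secMap T.ι (uT M T) (bijOn_unit T.ι M) hUP.le hUP (hPT.trans T.opensRange_ι.ge))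
  let eN : N g' (Q := T') (scX f' W) M P ≃ₗ[Γ(Y', W)] Γ(M'.restrict T'.ι, U') := LinearEquiv.ofBijective
    ({ toFun := fun x => secMap T'.ι (uT M' T') hU'P.le (show Γ(M', up g' T' P) from x)
       map_add' := secMap_add _ _ _
       map_smul' := fun a x => (secMap_smul'' T'.ι (uT M' T') hU'P.le (sc (scX f' W) inf_le_right a)
           (show Γ(M', up g' T' P) from x)).trans
         (congrArg (fun r : Γ((T' : Scheme.{u}), U') => r • secMap T'.ι (uT M' T') hU'P.le (show Γ(M', up g' T' P) from x))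
           (sc_res f' W (up g' T' P) inf_le_right U' hU'P.le a)) } :
      N g' (Q := T') (scX f' W) M P →ₗ[Γ(Y', W)] Γ(M'.restrict T'.ι, U'))
    (bijective_secMap T'.ι (uT M' T') (bijOn_unit T'.ι M') hU'P.le hU'P (inf_le_right.trans T'.opensRange_ι.ge))
  refine IsBaseChange.of_equiv ((LinearEquiv.baseChange Γ(Y, V) Γ(Y', W) _ _ eS.symm).trans
    ((LinearEquiv.ofBijective (psi M (compat_square H e) P hPT) hψ).trans eN)) fun y => ?_
  obtain ⟨x, rfl⟩ := eS.surjective y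
  rw [LinearEquiv.trans_apply, LinearEquiv.trans_apply, LinearEquiv.baseChange_tmul, LinearEquiv.symm_apply_apply]
  refine (congrArg eN ((LinearMap.liftBaseChange_one_tmul Γ(Y', W)
    (alpha M (compat_square H e) P hPT) x : _))).trans ?_
  exact comm_base H M e P (up g' T' P) U U' inf_le_left hUP.le hU'P.le le_rfl (show Γ(M, P) from x)

theorem sc_top {Z S : Scheme.{u}} (p : Z ⟶ S) (V : S.Opens) (U : ((p ⁻¹ᵁ V : Z.Opens) : Scheme.{u}).Opens)
    (h : U ≤ (p ⁻¹ᵁ V).ι ⁻¹ᵁ (p ⁻¹ᵁ V)) (a : Γ(S, V)) :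
    (p ⁻¹ᵁ V).ι.appLE (p ⁻¹ᵁ V) U h (p.app V a) =
      (((p ⁻¹ᵁ V : Z.Opens) : Scheme.{u}).presheaf.map (homOfLE (le_top : U ≤ ⊤)).op).hom (rhoV p V a) :=
  (congr($((p ⁻¹ᵁ V).ι.appLE_map (p ⁻¹ᵁ V).ι_preimage_self.ge (homOfLE (le_top : U ≤ ⊤)).op) (p.app V a))).symm

theorem secMap_rhoV {Z S : Scheme.{u}} (p : Z ⟶ S) (V : S.Opens) (U : ((p ⁻¹ᵁ V : Z.Opens) : Scheme.{u}).Opens)
    (h : U ≤ (p ⁻¹ᵁ V).ι ⁻¹ᵁ (p ⁻¹ᵁ V)) {N : Z.Modules} {N' : ((p ⁻¹ᵁ V : Z.Opens) : Scheme.{u}).Modules}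
    (θ : N ⟶ (Scheme.Modules.pushforward (p ⁻¹ᵁ V).ι).obj N') (a : Γ(S, V)) (m : Γ(N, p ⁻¹ᵁ V)) :
    letI := secModule (rhoV p V) N' U
    secMap (p ⁻¹ᵁ V).ι θ h (p.app V a • m) = a • secMap (p ⁻¹ᵁ V).ι θ h m := by
  rw [secMap_smul'', sc_top]
  rfl

/-- Transfer of sections over an open to the open subscheme. -/
def transEquiv {Z S : Scheme.{u}} (p : Z ⟶ S) (V : S.Opens) (U : ((p ⁻¹ᵁ V : Z.Opens) : Scheme.{u}).Opens)
    (hU : U = (p ⁻¹ᵁ V).ι ⁻¹ᵁ (p ⁻¹ᵁ V)) {N : Z.Modules} {N' : ((p ⁻¹ᵁ V : Z.Opens) : Scheme.{u}).Modules}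
    (θ : N ⟶ (Scheme.Modules.pushforward (p ⁻¹ᵁ V).ι).obj N') (hθ : BijOn (p ⁻¹ᵁ V).ι θ) :
    letI := secModule (rhoV p V) N' U
    Γ((Scheme.Modules.pushforward p).obj N, V) ≃ₗ[Γ(S, V)] Γ(N', U) :=
  letI := secModule (rhoV p V) N' U
  let l : Γ((Scheme.Modules.pushforward p).obj N, V) →ₗ[Γ(S, V)] Γ(N', U) :=
    { toFun := fun m => secMap (p ⁻¹ᵁ V).ι θ hU.le (show Γ(N, p ⁻¹ᵁ V) from m)
      map_add' := fun m m' => secMap_add _ θ hU.le (show Γ(N, p ⁻¹ᵁ V) from m) (show Γ(N, p ⁻¹ᵁ V) from m')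
      map_smul' := fun a m => secMap_rhoV p V U hU.le θ a (show Γ(N, p ⁻¹ᵁ V) from m) }
  LinearEquiv.ofBijective l
    (bijective_secMap (p ⁻¹ᵁ V).ι θ hθ hU.le hU (p ⁻¹ᵁ V).opensRange_ι.ge)

theorem transEquiv_apply {Z S : Scheme.{u}} (p : Z ⟶ S) (V : S.Opens) (U : ((p ⁻¹ᵁ V : Z.Opens) : Scheme.{u}).Opens)
    (hU : U = (p ⁻¹ᵁ V).ι ⁻¹ᵁ (p ⁻¹ᵁ V)) {N : Z.Modules} {N' : ((p ⁻¹ᵁ V : Z.Opens) : Scheme.{u}).Modules}
    (θ : N ⟶ (Scheme.Modules.pushforward (p ⁻¹ᵁ V).ι).obj N') (hθ : BijOn (p ⁻¹ᵁ V).ι θ)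
    (m : Γ(N, p ⁻¹ᵁ V)) :
    transEquiv p V U hU θ hθ (show Γ((Scheme.Modules.pushforward p).obj N, V) from m) =
      secMap (p ⁻¹ᵁ V).ι θ hU.le m := rfl

theorem quot_baseChange_square [Flat g] [QuasiCompact f] [QuasiSeparated f] (hV : IsAffineOpen V)
    (hW : IsAffineOpen W) (hM : Coh.IsQCoh M) (q : ℕ) :
    letI := (g.appLE V W e).hom.toAlgebra
    ∀ (Λ : Γ(Y', W) ⊗[Γ(Y, V)] Γ((Scheme.Modules.pushforward f).obj (godQ M (q + 1)), V) →ₗ[Γ(Y', W)]
        Γ((Scheme.Modules.pushforward f').obj (godQ ((Scheme.Modules.pullback g').obj M) (q + 1)), W)),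
      (∀ m : Γ(godQ M (q + 1), f ⁻¹ᵁ V),
        Λ ((1 : Γ(Y', W)) ⊗ₜ (show Γ((Scheme.Modules.pushforward f).obj (godQ M (q + 1)), V) from m)) =
          (show Γ((Scheme.Modules.pushforward f').obj (godQ ((Scheme.Modules.pullback g').obj M) (q + 1)), W) from
            secMap g' (qη g' M (q + 1)) (le_up H e) m)) →
      (∀ z', ∃ w b', Λ w + ((Scheme.Modules.pushforward f').map (godπ ((Scheme.Modules.pullback g').obj M) q)).app W b' = z') ∧
        ∀ w b', Λ w = ((Scheme.Modules.pushforward f').map (godπ ((Scheme.Modules.pullback g').obj M) q)).app W b' →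
          ∃ v, (appLin ((Scheme.Modules.pushforward f).map (godπ M q)) V).baseChange Γ(Y', W) v = w := by
  letI := (g.appLE V W e).hom.toAlgebra
  haveI : Module.Flat Γ(Y, V) Γ(Y', W) := g.flat_appLE hV hW e
  intro Λ hΛ
  let T := f ⁻¹ᵁ V
  let T' := f' ⁻¹ᵁ W
  let φ := resMap H e
  let M' := (Scheme.Modules.pullback g').obj M
  let MT := M.restrict T.ι
  let MT' := M'.restrict T'.ι
  haveI : CompactSpace (T : Scheme.{u}) := isCompact_iff_compactSpace.1 (f.isCompact_preimage hV.isCompact)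
  haveI : QuasiSeparatedSpace (T : Scheme.{u}) :=
    (isQuasiSeparated_iff_quasiSeparatedSpace _ T.2).1 (f.isQuasiSeparated_preimage hV.isQuasiSeparated)
  letI := secModule (rhoV f V) (godQ MT (q + 1)) ⊤
  letI := secModule (rhoV f V) (God (godQ MT q)) ⊤
  letI := secModule (rhoV f' W) (godQ MT' (q + 1)) (φ ⁻¹ᵁ ⊤)
  let h₁ := T.ι_preimage_self.symm
  have h₂ : φ ⁻¹ᵁ ⊤ = T'.ι ⁻¹ᵁ T' := T'.ι_preimage_self.symm
  have hG' := bijOn_godMap T'.ι (bijOn_godQMap T'.ι (bijOn_unit T'.ι M') q)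
  let tQ := transEquiv f V ⊤ h₁ (godQMap T.ι (uT M T) (q + 1)) (bijOn_godQMap T.ι (bijOn_unit T.ι M) _)
  let tG := transEquiv f V ⊤ h₁ (godMap T.ι (godQMap T.ι (uT M T) q))
    (bijOn_godMap T.ι (bijOn_godQMap T.ι (bijOn_unit T.ι M) _))
  let tQ' := transEquiv f' W (φ ⁻¹ᵁ ⊤) h₂ (godQMap T'.ι (uT M' T') (q + 1)) (bijOn_godQMap T'.ι (bijOn_unit T'.ι M') _)
  have hπ : (appHom (rhoV f V) (godπ MT q) ⊤).comp tG.toLinearMap =
      tQ.toLinearMap.comp (appLin ((Scheme.Modules.pushforward f).map (godπ M q)) V) :=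
    LinearMap.ext fun b => (secMap_godπ T.ι (uT M T) q h₁.le (show Γ(God (godQ M q), T) from b)).symm
  let ΛT := tQ'.toLinearMap.comp (Λ.comp (LinearEquiv.baseChange Γ(Y, V) Γ(Y', W) _ _ tQ.symm).toLinearMap)
  obtain ⟨hS, hI⟩ := quot_baseChange φ (rhoV f V) (rhoV f' W) (rhoV_comm H e) (ηT H M e)
    (isQCoh_restrict T.ι hM) (isQCoh_restrict T'.ι (isQCoh_pullback g' hM)) (isAffineBC_resMap H e hV hW hM) q ΛT
    (fun x => by
      obtain ⟨m, rfl⟩ := tQ.surjective x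
      show tQ' (Λ (LinearEquiv.baseChange Γ(Y, V) Γ(Y', W) _ _ tQ.symm (1 ⊗ₜ tQ m))) = _
      rw [LinearEquiv.baseChange_tmul, LinearEquiv.symm_apply_apply]
      refine (congrArg tQ' (hΛ (show Γ(godQ M (q + 1), T) from m))).trans ?_
      exact comm_godQMap (g'.resLE_comp_ι (le_up H e)).symm (comm_base H M e) (q + 1) T T' ⊤ (φ ⁻¹ᵁ ⊤) (le_up H e) h₁.le h₂.le
        le_rfl (show Γ(godQ M (q + 1), T) from m))
  have htG' : Function.Surjective (secMap T'.ι (godMap T'.ι (godQMap T'.ι (uT M' T') q)) h₂.le) :=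
    (bijective_secMap T'.ι _ hG' h₂.le h₂ T'.opensRange_ι.ge).2
  refine ⟨fun z' => ?_, fun w b' hw => ?_⟩
  · obtain ⟨w, b, hwb⟩ := hS (tQ' z')
    obtain ⟨b', rfl⟩ := htG' b
    refine ⟨(LinearEquiv.baseChange Γ(Y, V) Γ(Y', W) _ _ tQ.symm) w,
      (show Γ((Scheme.Modules.pushforward f').obj (God (godQ M' q)), W) from b'), tQ'.injective ?_⟩
    rw [map_add]
    refine Eq.trans ?_ hwb
    exact congrArg (ΛT w + ·) (secMap_godπ T'.ι (uT M' T') q h₂.le b')
  · obtain ⟨v, hv⟩ := hI ((LinearEquiv.baseChange Γ(Y, V) Γ(Y', W) _ _ tQ) w)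
      (secMap T'.ι (godMap T'.ι (godQMap T'.ι (uT M' T') q)) h₂.le (show Γ(God (godQ M' q), T') from b')) (by
        refine Eq.trans ?_ (secMap_godπ T'.ι (uT M' T') q h₂.le (show Γ(God (godQ M' q), T') from b'))
        show tQ' (Λ _) = tQ' _
        refine congrArg tQ' ((congrArg Λ ?_).trans hw)
        exact (LinearEquiv.baseChange Γ(Y, V) Γ(Y', W) _ _ tQ).symm_apply_apply w)
    obtain ⟨v', rfl⟩ := (LinearEquiv.baseChange Γ(Y, V) Γ(Y', W) _ _ tG).surjective v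
    refine ⟨v', (LinearEquiv.baseChange Γ(Y, V) Γ(Y', W) _ _ tQ).injective (Eq.trans ?_ hv)⟩
    show (tQ.toLinearMap.baseChange Γ(Y', W)) _ =
      ((appHom (rhoV f V) (godπ MT q) ⊤).baseChange Γ(Y', W)) ((tG.toLinearMap.baseChange Γ(Y', W)) v')
    rw [← LinearMap.comp_apply, ← LinearMap.baseChange_comp, ← hπ, LinearMap.baseChange_comp]
    rfl

end local_

/-- Flat base change for the models of higher direct images. -/
theorem isIso_transpose [Flat g] [QuasiCompact f] [QuasiSeparated f] [QuasiCompact f'] [QuasiSeparated f']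
    {M : X.Modules} (hM : Coh.IsQCoh M) (q : ℕ) :
    IsIso (((Scheme.Modules.pullbackPushforwardAdjunction g).homEquiv _ _).symm (μ H M q)) := by
  let α := (Scheme.Modules.pushforward f).map (godπ M q)
  let M' := (Scheme.Modules.pullback g').obj M
  let α' := (Scheme.Modules.pushforward f').map (godπ M' q)
  have hq : LocRange α := locRange_rpushModel f hM q
  have hq' : LocRange α' := locRange_rpushModel f' (isQCoh_pullback g' hM) q
  let β := ((Scheme.Modules.pullbackPushforwardAdjunction g).homEquiv _ _).symm (μ H M q)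
  refine isIso_of_isBasis β
    (B := {W | IsAffineOpen W ∧ ∃ V : Y.Opens, IsAffineOpen V ∧ W ≤ g ⁻¹ᵁ V}) ?_ ?_
  · refine TopologicalSpace.Opens.isBasis_iff_nbhd.2 fun {U} x hx => ?_
    obtain ⟨_, ⟨V, hV, rfl⟩, hxV, -⟩ :=
      Y.isBasis_affineOpens.exists_subset_of_mem_open (Set.mem_univ (g x)) isOpen_univ
    obtain ⟨_, ⟨W, hW, rfl⟩, hxW, hle⟩ := Y'.isBasis_affineOpens.exists_subset_of_mem_open
      (show x ∈ U ⊓ g ⁻¹ᵁ V from ⟨hx, hxV⟩) (U ⊓ g ⁻¹ᵁ V).isOpen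
    exact ⟨W, ⟨hW, V, hV, fun y hy => (hle hy).2⟩, hxW, fun y hy => (hle hy).1⟩
  rintro W ⟨hW, V, hV, e⟩
  letI : Algebra Γ(Y, V) Γ(Y', W) := (g.appLE V W e).hom.toAlgebra
  haveI := isAffineHom_resMap H e hV hW
  let C := rpushModel f M q
  let P := (Scheme.Modules.pushforward f).obj (godQ M (q + 1))
  let P' := (Scheme.Modules.pushforward f').obj (godQ M' (q + 1))
  let N₁ := Γ((Scheme.Modules.pullback g).obj C, W)
  letI : Module Γ(Y, V) N₁ := Module.compHom N₁ (g.appLE V W e).hom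
  haveI : IsScalarTower Γ(Y, V) Γ(Y', W) N₁ := .of_algebraMap_smul fun _ _ => rfl
  letI : Module Γ(Y, V) Γ(P', W) := Module.compHom _ (g.appLE V W e).hom
  haveI : IsScalarTower Γ(Y, V) Γ(Y', W) Γ(P', W) := .of_algebraMap_smul fun _ _ => rfl
  let l₁ : Γ(C, V) →ₗ[Γ(Y, V)] N₁ :=
    { toFun := pullSec g C e
      map_add' := pullSec_add g C e
      map_smul' := fun r x => pullSec_smul g C e r x }
  have hb₁ : IsBaseChange Γ(Y', W) l₁ := isBaseChange_pullback hV g hW hq.isQCoh e (fun _ => rfl) l₁ fun _ => rfl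
  let ν : P ⟶ (Scheme.Modules.pushforward g).obj P' := pushQ H M (q + 1)
  let l₂ : Γ(P, V) →ₗ[Γ(Y, V)] Γ(P', W) :=
    { toFun := secMap g ν e
      map_add' := secMap_add g ν e
      map_smul' := fun r x => secMap_smul'' g ν e r x }
  let Λ := LinearMap.liftBaseChange Γ(Y', W) l₂
  obtain ⟨hS, hI⟩ := quot_baseChange_square H e hV hW hM q Λ (fun m => by
    refine (LinearMap.liftBaseChange_one_tmul Γ(Y', W) l₂ _).trans ?_
    show rs P' e ((pushQ H M (q + 1)).app V _) = _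
    rw [pushQ_app H M (q + 1) V m]
    exact map_secMap g' (qη g' M (q + 1)) _ _ m)
  let p := (appLin (cokernel.π α) V).baseChange Γ(Y', W)
  have hp : Function.Surjective p := LinearMap.lTensor_surjective _ (hq.surjective hV)
  have hev : ∀ w, β.app W (hb₁.equiv (p w)) = (cokernel.π α').app W (Λ w) := fun w => by
    induction w using TensorProduct.induction_on with
    | zero => simp only [map_zero]
    | tmul b m =>
      rw [show p (b ⊗ₜ m) = b ⊗ₜ (appLin (cokernel.π α) V m) from LinearMap.baseChange_tmul _ _ _,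
        IsBaseChange.equiv_tmul, Scheme.Modules.Hom.app_smul]
      refine Eq.trans ?_ ((Scheme.Modules.Hom.app_smul _ b (l₂ m)).symm.trans
        (congrArg ((cokernel.π α').app W) (LinearMap.liftBaseChange_tmul Γ(Y', W) l₂ b m).symm))
      refine congrArg (b • ·) ((homEquiv_symm_app_pullSec g (μ H M q) e _).trans ?_)
      unfold secMap
      have hμ : cokernel.π α ≫ μ H M q = ν ≫ (Scheme.Modules.pushforward g).map (cokernel.π α') := cokernel.π_desc _ _ _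
      refine (congrArg (rs _ e) (congr(($hμ).app V m))).trans ?_
      exact (map_app_comm (cokernel.π α') (homOfLE e) _).symm
    | add v w hv hw => simp only [map_add, hv, hw]
  refine ⟨(injective_iff_map_eq_zero (β.app W).hom).2 fun y hy => ?_, fun y => ?_⟩
  · obtain ⟨t, rfl⟩ := hb₁.equiv.surjective y
    obtain ⟨w, rfl⟩ := hp t
    obtain ⟨b', hb'⟩ := hq'.mem_range hW (Λ w) ((hev w).symm.trans hy)
    obtain ⟨v, rfl⟩ := hI w b' hb'.symm
    refine (congrArg hb₁.equiv ?_).trans (map_zero _)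
    show ((appLin (cokernel.π α) V).baseChange Γ(Y', W)) ((appLin α V).baseChange Γ(Y', W) v) = 0
    rw [← LinearMap.comp_apply, ← LinearMap.baseChange_comp,
      show (appLin (cokernel.π α) V).comp (appLin α V) = 0 from LinearMap.ext fun a => cokernel_π_app_app a,
      LinearMap.baseChange_zero, LinearMap.zero_apply]
  · obtain ⟨z', rfl⟩ := hq'.surjective hW y
    obtain ⟨w, b', hwb⟩ := hS z'
    refine ⟨hb₁.equiv (p w), (hev w).trans ?_⟩
    rw [← hwb, map_add]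
    exact (add_eq_left.2 (cokernel_π_app_app b')).symm

end Groth.Agent.CohCore23.RBC
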