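import Groth.Agent.RPSM.AffineCrit

/-!
# Affineness from exactness of global sections on sub-modules of finite free modules
-/

universe u

open CategoryTheory CategoryTheory.Limits AlgebraicGeometry TopologicalSpace Opposite
open scoped ZeroObject

namespace Groth.Agent.CohCore23.AffCrit

open Groth.Agent.QCoh Groth.Agent.RPSM

/-- Global sections are exact on quasi-coherent sequences whose first term embeds in a finite free module. -/
def SectionsExactFin (X : Scheme.{u}) : Prop :=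
  ∀ (S : ShortComplex X.Modules) (n : ℕ) (j : S.X₁ ⟶ ∏ᶜ (fun _ : Fin n => Coh.structureModule X)),
    S.ShortExact → Mono j → Coh.IsQCoh S.X₁ → Coh.IsQCoh S.X₂ → Coh.IsQCoh S.X₃ →
      Function.Surjective (S.g.app ⊤)

variable {X : Scheme.{u}}

theorem exists_mono_biprod {M : X.Modules} {n : ℕ} (u : M ⟶ ∏ᶜ (fun _ : Fin n => Coh.structureModule X))
    [Mono u] : ∃ w : Coh.structureModule X ⊞ M ⟶ ∏ᶜ (fun _ : Fin (n + 1) => Coh.structureModule X), Mono w := by
  let c : Fin (n + 1) → (Coh.structureModule X ⊞ M ⟶ Coh.structureModule X) :=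
    Fin.cases biprod.fst fun i => biprod.snd ≫ u ≫ Pi.π (fun _ : Fin n => Coh.structureModule X) i
  refine ⟨Pi.lift c, ⟨fun {Z} a b hab => ?_⟩⟩
  have key : ∀ i, a ≫ c i = b ≫ c i := fun i => by
    have h := hab =≫ Pi.π (fun _ : Fin (n + 1) => Coh.structureModule X) i
    simpa [Category.assoc, Pi.lift_π] using h
  refine biprod.hom_ext a b (key 0) ((cancel_mono u).1 (Pi.hom_ext _ _ fun i => ?_))
  simpa [c] using key i.succ

theorem exists_mono_rowHom : ∀ l : List Γ(X, ⊤),
    ∃ (n : ℕ) (u : (rowHom l).1 ⟶ ∏ᶜ (fun _ : Fin n => Coh.structureModule X)), Mono u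
  | [] => ⟨0, 0, ⟨fun a b _ => (isZero_zero _ : IsZero (rowHom ([] : List Γ(X, ⊤))).1).eq_of_tgt a b⟩⟩
  | f :: l => by
    obtain ⟨n, u, hu⟩ := exists_mono_rowHom l
    exact ⟨n + 1, exists_mono_biprod u⟩

/-- Every closed point has an affine neighbourhood cut out by a global function. -/
theorem exists_basicOpen_affine_of_lift' (h : SectionsExactFin X)
    {x : X} (hx : IsClosed ({x} : Set X)) :
    ∃ f : Γ(X, ⊤), x ∈ X.basicOpen f ∧ IsAffineOpen (X.basicOpen f) := by
  obtain ⟨_, ⟨U, hU₀, rfl⟩, hxU, -⟩ :=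
    X.isBasis_affineOpens.exists_subset_of_mem_open (Set.mem_univ x) isOpen_univ
  have hU : IsAffineOpen U := hU₀
  let Z : Set X := (U : Set X)ᶜ
  let Z' : Set X := insert x Z
  let j := SubMod.homOfLE (N := vanIdeal Z') (N' := vanIdeal Z)
    (vanIdeal_mono (Set.subset_insert x Z))
  let S : ShortComplex X.Modules := ShortComplex.mk j (cokernel.π j) (cokernel.condition j)
  have hS : S.ShortExact := { exact := ShortComplex.exact_of_g_is_cokernel _ (cokernelIsCokernel j) }
  let V : X.Opens := ⟨{x}ᶜ, hx.isOpen_compl⟩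
  have hone : (show Γ(Coh.structureModule X, U) from (1 : Γ(X, U))) ∈ (vanIdeal Z).mem U :=
    fun z hz hzb => hz (X.basicOpen_le _ hzb)
  obtain ⟨e₁, he₁⟩ := (vanIdeal Z).exists_app_eq hone
  let q₁ : Γ(S.X₃, U) := S.g.app U e₁
  have hcomp : S.X₃.presheaf.map (homOfLE (inf_le_left : U ⊓ V ≤ U)).op q₁ = 0 := by
    have hone' : (show Γ(Coh.structureModule X, U ⊓ V) from (1 : Γ(X, U ⊓ V))) ∈
        (vanIdeal Z').mem (U ⊓ V) := fun z hz hzb => by
      rcases hz with rfl | hz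
      · exact (X.basicOpen_le _ hzb).2 rfl
      · exact hz (X.basicOpen_le _ hzb).1
    obtain ⟨e₂, he₂⟩ := (vanIdeal Z').exists_app_eq hone'
    have : S.X₂.presheaf.map (homOfLE (inf_le_left : U ⊓ V ≤ U)).op e₁ = S.f.app (U ⊓ V) e₂ := by
      refine (vanIdeal Z).ι_app_injective _ ?_
      rw [map_app_comm, he₁]
      exact ((map_one (X.presheaf.map (homOfLE (inf_le_left : U ⊓ V ≤ U)).op).hom).trans he₂.symm :)
    rw [← map_app_comm, this, app_g_f]
  have hcov : (⊤ : X.Opens) ≤ iSup fun b : ULift.{u} Bool => cond b.down U V := fun z _ => by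
    by_cases hz : z = x
    · exact Opens.mem_iSup.2 ⟨⟨true⟩, hz ▸ hxU⟩
    · exact Opens.mem_iSup.2 ⟨⟨false⟩, hz⟩
  have hcompat : TopCat.Presheaf.IsCompatible (X := X.toPresheafedSpace.carrier) S.X₃.presheaf
      (fun b : ULift.{u} Bool => cond b.down U V)
      (fun b => match b with
        | ⟨true⟩ => q₁
        | ⟨false⟩ => (0 : Γ(S.X₃, V))) := by
    rintro ⟨_ | _⟩ ⟨_ | _⟩
    · rfl
    · refine (map_zero (S.X₃.presheaf.map _).hom).trans ?_
      have h' := congrArg (S.X₃.presheaf.map (homOfLE (le_of_eq (inf_comm V U))).op) hcomp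
      rw [map_zero, map_map] at h'
      exact h'.symm
    · exact hcomp.trans (map_zero (S.X₃.presheaf.map _).hom).symm
    · rfl
  obtain ⟨q, hq, -⟩ := TopCat.Sheaf.existsUnique_gluing' (X := X.toPresheafedSpace.carrier)
    (⟨S.X₃.presheaf, S.X₃.isSheaf⟩ : TopCat.Sheaf AddCommGrpCat.{u} X.toPresheafedSpace.carrier)
    _ ⊤ (fun _ => homOfLE le_top) hcov _ hcompat
  obtain ⟨e, he⟩ := h S 1 (Pi.lift fun _ => (vanIdeal Z').ι) hS (mono_of_mono_fac (Pi.lift_π (fun _ : Fin 1 => (vanIdeal Z').ι) 0)) (isQCoh_vanIdeal _) (isQCoh_vanIdeal _) (isQCoh_cokernel (isQCoh_vanIdeal _) (isQCoh_vanIdeal _) j) q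
  let f : Γ(X, ⊤) := toFn ((vanIdeal Z).ι.app ⊤ e)
  have hfU : X.basicOpen f ≤ U := fun z hz => by
    by_contra hzU
    exact (vanIdeal Z).ι_app_mem ⊤ e z hzU hz
  refine ⟨f, ?_, ?_⟩
  · have hd : S.g.app U (S.X₂.presheaf.map (homOfLE (le_top : U ≤ ⊤)).op e - e₁) = 0 := by
      rw [map_sub, map_app_comm, he, sub_eq_zero]
      exact hq ⟨true⟩
    obtain ⟨a, ha⟩ := exists_app_f_eq hS U _ hd
    by_contra hxf
    have hxU' : x ∉ X.basicOpen (toFn ((vanIdeal Z').ι.app U a)) :=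
      (vanIdeal Z').ι_app_mem U a x (Set.mem_insert x Z)
    rw [show (vanIdeal Z').ι.app U a = (vanIdeal Z).ι.app U (S.f.app U a) from rfl, ha,
      map_sub, map_app_comm, he₁] at hxU'
    have h1 := (notMem_basicOpen_iff _ x hxU).1 hxU'
    rw [show toFn ((Coh.structureModule X).presheaf.map (homOfLE (le_top : U ≤ ⊤)).op
        ((vanIdeal Z).ι.app ⊤ e) - (show Γ(Coh.structureModule X, U) from (1 : Γ(X, U)))) =
      X.presheaf.map (homOfLE (le_top : U ≤ ⊤)).op f - 1 from rfl, map_sub, map_one] at h1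
    have h2 : X.presheaf.germ U x hxU (X.presheaf.map (homOfLE (le_top : U ≤ ⊤)).op f) ∈
        IsLocalRing.maximalIdeal (X.presheaf.stalk x) := by
      refine (notMem_basicOpen_iff _ x hxU).1 ?_
      rw [Scheme.basicOpen_res]
      exact fun hh => hxf hh.2
    exact (IsLocalRing.maximalIdeal.isMaximal (X.presheaf.stalk x)).ne_top
      ((Ideal.eq_top_iff_one _).2 (by simpa using sub_mem h2 h1))
  · have := Scheme.basicOpen_res X f (homOfLE (le_top : U ≤ ⊤)).op
    rw [inf_eq_right.2 hfU] at this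
    rw [← this]
    exact hU.basicOpen _

theorem isAffine_of_sectionsExactFin [CompactSpace X] (h : SectionsExactFin X) : IsAffine X := by
  have hcov : ∀ y : X, ∃ f : Γ(X, ⊤), y ∈ X.basicOpen f ∧ IsAffineOpen (X.basicOpen f) := fun y => by
    obtain ⟨z, hz, hzc⟩ := IsClosed.exists_closed_singleton (isClosed_closure (s := ({y} : Set X)))
      ⟨y, subset_closure rfl⟩
    obtain ⟨f, hzf, hf⟩ := exists_basicOpen_affine_of_lift' h hzc
    exact ⟨f, (specializes_iff_mem_closure.2 hz).mem_open (X.basicOpen f).isOpen hzf, hf⟩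
  choose f hyf hf using hcov
  obtain ⟨t, ht⟩ := isCompact_univ.elim_finite_subcover (fun y => (X.basicOpen (f y) : Set X))
    (fun y => (X.basicOpen (f y)).isOpen) fun y _ => Set.mem_iUnion.2 ⟨y, hyf y⟩
  let l : List Γ(X, ⊤) := t.toList.map f
  obtain ⟨hq, hr, he⟩ := rowHom_props' l
  let φ := (rowHom l).2
  have : Epi φ := Preadditive.epi_of_cancel_zero _ fun {N} ψ hψ => by
    apply N.unitHomEquiv.injective
    refine Subtype.ext (funext fun V => ?_)
    refine (eq_zero_of_locally (M := N) V.unop _ fun p hp => ?_).trans ?_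
    pick_goal 2
    · exact (rfl : (0 : Γ(N, V.unop)) = _)
    obtain ⟨y, hy, hpy⟩ := Set.mem_iUnion₂.1 (ht (Set.mem_univ p))
    let W : X.Opens := V.unop ⊓ X.basicOpen (f y)
    refine ⟨W, homOfLE inf_le_left, ⟨hp, hpy⟩, ?_⟩
    have h0 : mulHom (f y) ≫ ψ = 0 := he ψ hψ _ (List.mem_map.2 ⟨y, Finset.mem_toList.2 hy, rfl⟩)
    have hu : IsUnit (X.presheaf.map (homOfLE (le_top : W ≤ ⊤)).op (f y)) := by
      have hu : IsUnit (X.presheaf.map (homOfLE (le_top : X.basicOpen (f y) ≤ ⊤)).op (f y)) :=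
        RingedSpace.isUnit_res_basicOpen X.toRingedSpace (f y)
      have := hu.map (X.presheaf.map (homOfLE (inf_le_right : W ≤ X.basicOpen (f y))).op).hom
      rwa [← ConcreteCategory.comp_apply, ← X.presheaf.map_comp] at this
    obtain ⟨v, hv⟩ := hu
    have h1 := congrArg (fun χ : Coh.structureModule X ⟶ N =>
      χ.app W (show Γ(Coh.structureModule X, W) from ((v⁻¹ : Γ(X, W)ˣ) : Γ(X, W)))) h0
    show N.presheaf.map _ (ψ.app V.unop (show Γ(Coh.structureModule X, V.unop) from (1 : Γ(X, V.unop)))) = 0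
    rw [← map_app_comm]
    refine Eq.trans (congrArg (ψ.app W) ?_) (h1.trans rfl)
    show X.presheaf.map _ (1 : Γ(X, V.unop)) = ((v⁻¹ : Γ(X, W)ˣ) : Γ(X, W)) * _
    rw [map_one, ← hv, Units.inv_mul]
  obtain ⟨n, u, hu⟩ := exists_mono_rowHom (X := X) l
  let S : ShortComplex X.Modules := ShortComplex.mk (kernel.ι φ) φ (kernel.condition φ)
  have hS : S.ShortExact := { exact := ShortComplex.exact_of_f_is_kernel _ (kernelIsKernel φ) }
  obtain ⟨x, hx⟩ := h S n (kernel.ι φ ≫ u) hS inferInstance (isQCoh_kernel hq isQCoh_structureModule φ) hq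
    isQCoh_structureModule
    (show Γ(Coh.structureModule X, ⊤) from (1 : Γ(X, ⊤)))
  have h1 := hr x
  rw [show (rowHom l).2.app ⊤ x = _ from hx] at h1
  refine isAffine_of_isAffineOpen_basicOpen {g | g ∈ l} ((Ideal.eq_top_iff_one _).2 h1) ?_
  rintro g hg
  obtain ⟨y, -, rfl⟩ := List.mem_map.1 hg
  exact hf y

end Groth.Agent.CohCore23.AffCrit
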