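import Groth.Agent.ChevAffine.Main
import Groth.Agent.VarBase.AmpleComp
import Groth.Agent.S0927

/-!
# Ampleness descends along finite surjective morphisms
-/

set_option autoImplicit false
set_option linter.style.haveILetI false
set_option backward.isDefEq.respectTransparency false
set_option backward.isDefEq.respectTransparency.types false

universe u

open CategoryTheory CategoryTheory.Limits AlgebraicGeometry TopologicalSpace Opposite
open Groth.Agent.QCoh

noncomputable section

namespace Groth.Agent.CohCore23.AmpDesc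

variable {X Y : Scheme.{u}}

/-- For an ideal sheaf `J` not passing through `ξ`, the submodule `J G` of a push forward `G` from an
affine scheme is again a push forward. -/
theorem exists_idealMul_push' (f : Y ⟶ X) [IsAffineHom f] (ξ : X) {M : Y.Modules}
    (hM : Coh.IsQCoh M) (J : X.IdealSheafData) (hJ : ξ ∉ (J.support : Set X)) :
    ∃ (K : Y.Modules) (_ : Coh.IsQCoh K) (k : K ⟶ M) (l : (Coh.push f).obj K ⟶ (Coh.push f).obj M),
      Mono k ∧ Mono l ∧
      l ≫ (Scheme.Modules.pullbackPushforwardAdjunction J.subschemeι).unit.app ((Coh.push f).obj M) = 0 ∧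
      Function.Surjective ((TopCat.Presheaf.stalkFunctor _ ξ).map l.mapPresheaf) := by
  let J' := J.comap f
  let v := (Scheme.Modules.pullbackPushforwardAdjunction J'.subschemeι).unit.app M
  have hpb : Coh.IsQCoh ((Scheme.Modules.pullback J'.subschemeι).obj M) := isQCoh_pullback _ hM
  have hK : Coh.IsQCoh (kernel v) := isQCoh_kernel hM (isQCoh_pushforward J'.subschemeι hpb) v
  let l := (Coh.push f).map (kernel.ι v)
  have hG : Coh.IsQCoh ((Coh.push f).obj M) := isQCoh_pushforward f hM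
  have hideal : ∀ U : X.affineOpens, J'.ideal ⟨f ⁻¹ᵁ U.1, U.2.preimage f⟩ = (J.ideal U).map (f.app U.1).hom :=
    fun U => by
      rw [ModPairLib.ideal_comap J f U ⟨f ⁻¹ᵁ U.1, U.2.preimage f⟩ le_rfl, ← Scheme.Hom.app_eq_appLE]
  refine ⟨kernel v, hK, kernel.ι v, l, inferInstance, Functor.map_mono _ _, ?_, ?_⟩
  · refine hom_eq_zero_of_affine _ fun U hU x => ?_
    refine ((unit_app_closed J.subschemeι hG hU).2 (l.app U x)).2 ?_
    rw [Scheme.IdealSheafData.ker_subschemeι]
    have h0 : v.app (f ⁻¹ᵁ U) ((kernel.ι v).app (f ⁻¹ᵁ U) x) = 0 :=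
      congr(($(kernel.condition v)).app (f ⁻¹ᵁ U) x)
    have h1 := ((unit_app_closed J'.subschemeι hM (hU.preimage f)).2 _).1 h0
    rw [Scheme.IdealSheafData.ker_subschemeι, hideal ⟨U, hU⟩] at h1
    refine Submodule.smul_induction_on (p := fun (z : Γ(M, f ⁻¹ᵁ U)) =>
      (show Γ((Coh.push f).obj M, U) from z) ∈ J.ideal ⟨U, hU⟩ • (⊤ : Submodule Γ(X, U) Γ((Coh.push f).obj M, U)))
      h1 (fun b hb m _ => ?_) fun z z' hz hz' => add_mem hz hz'
    refine Submodule.span_induction
      (p := fun b _ => ∀ m : Γ(M, f ⁻¹ᵁ U), (show Γ((Coh.push f).obj M, U) from (show Γ(M, f ⁻¹ᵁ U) from b • m)) ∈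
        J.ideal ⟨U, hU⟩ • (⊤ : Submodule Γ(X, U) Γ((Coh.push f).obj M, U))) ?_ ?_ ?_ ?_ hb m
    · rintro _ ⟨a, ha, rfl⟩ m
      exact Submodule.smul_mem_smul ha (Submodule.mem_top (x := (show Γ((Coh.push f).obj M, U) from m)))
    · intro m; rw [zero_smul]; exact zero_mem _
    · intro b b' _ _ hb hb' m; rw [add_smul]; exact add_mem (hb m) (hb' m)
    · intro c b _ hb m
      rw [smul_eq_mul, mul_comm, mul_smul]
      exact hb (c • m)
  · intro z
    obtain ⟨U₀, hξ₀, y, rfl⟩ := TopCat.Presheaf.exists_germ_eq ((Coh.push f).obj M).presheaf z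
    obtain ⟨_, ⟨U, hU, rfl⟩, hξU, hUsub⟩ := X.isBasis_affineOpens.exists_subset_of_mem_open
      (show ξ ∈ ((U₀ : Set X) ∩ (J.support : Set X)ᶜ) from ⟨hξ₀, hJ⟩)
      (U₀.2.inter J.support.2.isOpen_compl)
    have hle : U ≤ U₀ := fun x hx => (hUsub hx).1
    have hzero : X.zeroLocus (U := U) (J.ideal ⟨U, hU⟩) ∩ U = ∅ := by
      rw [← Scheme.IdealSheafData.coe_support_inter J ⟨U, hU⟩]
      exact Set.eq_empty_of_forall_notMem fun x hx => (hUsub hx.2).2 hx.1
    have htop : J.ideal ⟨U, hU⟩ = ⊤ := by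
      rw [← Ideal.span_eq (J.ideal ⟨U, hU⟩), ← hU.iSup_basicOpen_eq_self_iff]
      refine le_antisymm (iSup_le fun g => X.basicOpen_le _) fun x hx => ?_
      by_contra hne
      refine (Set.eq_empty_iff_forall_notMem.1 hzero x) ⟨(Scheme.mem_zeroLocus_iff _ _ _).2 fun g hg hxg => hne ?_, hx⟩
      exact Opens.mem_iSup.2 ⟨⟨g, hg⟩, hxg⟩
    let y' : Γ(M, f ⁻¹ᵁ U) := ((Coh.push f).obj M).presheaf.map (homOfLE hle).op y
    have hy' : v.app (f ⁻¹ᵁ U) y' = 0 := by
      refine ((unit_app_closed J'.subschemeι hM (hU.preimage f)).2 _).2 ?_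
      rw [Scheme.IdealSheafData.ker_subschemeι, hideal ⟨U, hU⟩, htop, Ideal.map_top, Submodule.top_smul]
      trivial
    obtain ⟨x, hx⟩ := exists_app_f_eq
      (S := ShortComplex.mk (kernel.ι v) (Abelian.coimage.π v) (cokernel.condition _))
      (.mk' (ShortComplex.exact_of_g_is_cokernel _ (cokernelIsCokernel _)) inferInstance inferInstance)
      (f ⁻¹ᵁ U) y' (app_injective (Abelian.factorThruCoimage v) (f ⁻¹ᵁ U) (by
        rw [map_zero]
        exact (congr(($(Abelian.coimage.fac v)).app (f ⁻¹ᵁ U) y') : _).trans hy'))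
    refine ⟨((Coh.push f).obj (kernel v)).presheaf.germ U ξ hξU x, ?_⟩
    rw [TopCat.Presheaf.stalkFunctor_map_germ_apply]
    refine Eq.trans ?_ (((Coh.push f).obj M).presheaf.germ_res_apply (homOfLE hle) ξ hξU y)
    exact congrArg _ hx

/-- The projection formula for a direct image and an invertible module. -/
theorem nonempty_push_tensor (f : Y ⟶ X) (M : Y.Modules) {N : X.Modules} (hN : PicF.IsInvertible N) :
    Nonempty (CohB1.tensorMod ((Coh.push f).obj M) N ≅
      (Coh.push f).obj (CohB1.tensorMod M ((Scheme.Modules.pullback f).obj N))) := by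
  obtain ⟨e⟩ := S0927.result f M N
    (fun y => let ⟨W, hy, he⟩ := InvEnd.isFinLocFreeOfRank_one hN y; ⟨W, 1, hy, he⟩) 0
  let r := (Coh.push f).rightDerivedZeroIsoSelf
  let P := (Scheme.Modules.pullback f).obj N
  let e₀ : (Coh.Rpush f 0).obj M ≅ (Coh.push f).obj M := r.app M
  let e₁ : (Coh.Rpush f 0).obj (CohB1.tensorMod P M) ≅ (Coh.push f).obj (CohB1.tensorMod P M) := r.app _
  let a : CohB1.tensorMod ((Coh.push f).obj M) N ≅ CohB1.tensorMod N ((Coh.push f).obj M) :=
    CurveTensor.commIso ((Coh.push f).obj M) N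
  let b : CohB1.tensorMod N ((Coh.push f).obj M) ≅ CohB1.tensorMod N ((Coh.Rpush f 0).obj M) :=
    PicGrp.tensorModIso (Iso.refl N) e₀.symm
  let c : (Coh.push f).obj (CohB1.tensorMod P M) ≅ (Coh.push f).obj (CohB1.tensorMod M P) :=
    (Coh.push f).mapIso (CurveTensor.commIso P M)
  exact ⟨a ≪≫ b ≪≫ e ≪≫ e₁ ≪≫ c⟩

variable (A : Type u) [CommRing A] [IsNoetherianRing A] [X.Over (Spec (CommRingCat.of A))]
  [IsProper (X ↘ Spec (CommRingCat.of A))]

/-- `H¹` of all high twists of `M` vanishes. -/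
def Van (L M : X.Modules) : Prop :=
  ∃ N, ∀ n, N ≤ n → Subsingleton (Coh.HH X (CohB1.tensorMod M (CohB1.tensorPow L n)) 1)

omit [IsNoetherianRing A] [X.Over (Spec (CommRingCat.of A))] [IsProper (X ↘ Spec (CommRingCat.of A))] in
theorem van_X₂ {L : X.Modules} (hL : PicF.IsInvertible L) (S : ShortComplex X.Modules) (hS : S.ShortExact)
    (h₁ : Van L S.X₁) (h₃ : Van L S.X₃) : Van L S.X₂ := by
  obtain ⟨N₁, hN₁⟩ := h₁
  obtain ⟨N₃, hN₃⟩ := h₃
  refine ⟨max N₁ N₃, fun n hn => ?_⟩
  haveI := AmpleVan.isEquivalence_tw (InvX.isInvertible_tensorPow hL n)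
  exact subsingleton_HH_X₂ (hS.map_of_exact (AmpleVan.tw (CohB1.tensorPow L n))) 1
    (hN₁ n (le_trans (le_max_left _ _) hn)) (hN₃ n (le_trans (le_max_right _ _) hn))

include A in
/-- If the pullback of `L` along a finite surjection is ample, high twists kill `H¹` of coherent modules. -/
theorem van_of_finite_surjective (f : Y ⟶ X) [IsFinite f] [Surjective f] {L : X.Modules}
    (hL : PicF.IsInvertible L) (ha : CohB1.IsAmple ((Scheme.Modules.pullback f).obj L))
    {M : X.Modules} (hM : Coh.IsCoh M) : Van L M := by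
  haveI := VarBase.isNoetherian_of_proper' A (X := X)
  haveI := hasFiniteBiproducts X
  refine devissage_ideals (Van L) ?_ ?_ Set.univ (fun S hS _ _ _ h₁ h₃ => van_X₂ hL S hS h₁ h₃) ?_ hM
    (Set.subset_univ _)
  · rintro N N' ⟨e⟩ ⟨n₀, h⟩
    exact ⟨n₀, fun n hn => subsingleton_HH_of_iso ((AmpleVan.tw (CohB1.tensorPow L n)).mapIso e) 1 (h n hn)⟩
  · intro N h
    refine ⟨0, fun n _ => Euler.subsingleton_HH_of_isZero ?_ 1⟩
    haveI := AmpleVan.isEquivalence_tw (InvX.isInvertible_tensorPow hL n)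
    exact (AmpleVan.tw (CohB1.tensorPow L n)).map_isZero h
  intro y _ hsmall Z i _ _ hr I ι hι hI hI0
  haveI := hι
  haveI : IsNoetherian Z :=
    { __ := LocallyOfFiniteType.isLocallyNoetherian i
      __ := QuasiCompact.compactSpace_of_compactSpace i }
  let q : pullback f i ⟶ Z := pullback.snd f i
  haveI : IsFinite q := MorphismProperty.pullback_snd (P := (@IsFinite : MorphismProperty Scheme.{u})) _ _ ‹_›
  haveI : Surjective q := MorphismProperty.pullback_snd (P := (@Surjective : MorphismProperty Scheme.{u})) _ _ ‹_›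
  haveI : IsLocallyNoetherian (pullback f i) := LocallyOfFiniteType.isLocallyNoetherian (q ≫ i)
  letI : (pullback f i).Over (Spec (CommRingCat.of A)) := ⟨(q ≫ i) ≫ (X ↘ Spec (CommRingCat.of A))⟩
  haveI : IsProper ((pullback f i) ↘ Spec (CommRingCat.of A)) :=
    show IsProper ((q ≫ i) ≫ (X ↘ Spec (CommRingCat.of A))) from inferInstance
  haveI : CompactSpace ↥(pullback f i : Scheme.{u}) := AmpleVan.compactSpace_of_proper (A := A)
  have hamp : CohB1.IsAmple ((Scheme.Modules.pullback (q ≫ i)).obj L) := by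
    have hc : pullback.fst f i ≫ f = q ≫ i := pullback.condition
    exact AmpleX.isAmple_of_iso ((Scheme.Modules.pullbackComp (pullback.fst f i) _).app L ≪≫
      (Scheme.Modules.pullbackCongr hc).app L) (AmpleVan.isAmple_pullback_of_isEmbedding _
        (pullback.fst f i).isClosedEmbedding.isEmbedding ha)
  have hGc : Coh.IsCoh ((Coh.push (q ≫ i)).obj (Coh.structureModule (pullback f i))) :=
    isCoh_pushforward_finite (q ≫ i) isCoh_structureModule'
  have hIc : Coh.IsCoh I := isCoh_of_mono ι isCoh_structureModule' hI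
  obtain ⟨r, hr0, J, u, hJ, hu, hmain⟩ := exists_ideal_mul hGc i (ChevAffine.mem_support_push_structure i q)
    (fun a ha m => ChevAffine.smul_eq_zero_of_mem_maximalIdeal i q a ha m) ι hIc hI0
  obtain ⟨K, hK, k, l, hk, hl, hlu, hls⟩ :=
    exists_idealMul_push' (q ≫ i) (i (genericPoint Z)) isQCoh_structureModule J hJ
  haveI := hl; haveI := hk
  have hKc : Coh.IsCoh K := isCoh_of_mono k isCoh_structureModule' hK
  have hG' : Coh.IsQCoh ((Coh.push (q ≫ i)).obj K) := isQCoh_pushforward (q ≫ i) hK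
  have hvanG : Van L ((Coh.push (q ≫ i)).obj K) := by
    obtain ⟨d₀, hd⟩ := AmpleVan.exists_vanishing (A := A) hamp hKc
    refine ⟨d₀, fun n hn => ?_⟩
    have hP := InvX.isInvertible_tensorPow hL n
    obtain ⟨p⟩ := nonempty_push_tensor (q ≫ i) K hP
    obtain ⟨e⟩ := VarBase.nonempty_pullback_tensorPow (q ≫ i) L n
    refine subsingleton_HH_of_iso
      (p ≪≫ (Coh.push (q ≫ i)).mapIso (PicGrp.tensorModIso (Iso.refl K) e)).symm 1 ?_
    have hq : Coh.IsQCoh (CohB1.tensorMod K
        (CohB1.tensorPow ((Scheme.Modules.pullback (q ≫ i)).obj L) n)) :=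
      (AmpleVan.isCoh_tensor hKc (AmpleVan.isCoh_invertible
        (InvX.isInvertible_tensorPow (PicClLib.isInvertible_pullback _ hL) n))).1
    obtain ⟨ee⟩ := HH_push_of_isAffineHom (q ≫ i) hq 1
    haveI := hd n hn 0
    exact ee.symm.toEquiv.subsingleton
  obtain ⟨t, ht, hc⟩ := hmain _ l hl hG' (by rw [hu]; exact hlu) hls
  haveI := ht
  let F : ULift.{u} (Fin r) → X.Modules := fun _ => (Coh.push i).obj I
  have hS := isCoh_biproduct F fun _ => isCoh_push i hIc
  have hC := isCoh_cokernel hG' hS t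
  have hsum : Van L (⨁ F) := by
    refine van_X₂ hL (ShortComplex.mk t (cokernel.π t) (cokernel.condition t))
      (.mk' (ShortComplex.exact_of_g_is_cokernel _ (cokernelIsCokernel t)) ht inferInstance) hvanG
      (hsmall _ hC ?_ ?_)
    · refine (support_of_epi hS.1 hC.1 (cokernel.π t)).trans fun x hx => ?_
      by_contra hx'
      obtain ⟨W, hW, hxW⟩ := exists_affine_mem x
      refine ((notMem_support_iff hS.1 hW hxW).2 fun m => ?_) hx
      have hAx := (notMem_support_iff (isCoh_push i hIc).1 hW hxW).1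
        (fun h => hx' (hr.le (support_push_subset i hI h)))
      choose g hg hg0 using fun j => hAx ((biproduct.π F j).app W m)
      refine ⟨∏ j, g j, ?_, ?_⟩
      · rw [X.mem_basicOpen _ x hxW, map_prod]
        exact IsUnit.prod_univ_iff.2 fun j => (X.mem_basicOpen (g j) x hxW).1 (hg j)
      · rw [biproduct_app_decomp _ W m, Finset.smul_sum]
        refine Finset.sum_eq_zero fun j _ => ?_
        classical
        rw [← Scheme.Modules.Hom.app_smul, ← Finset.mul_prod_erase _ g (Finset.mem_univ j), mul_comm,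
          mul_smul, hg0 j, smul_zero, map_zero]
    · have hy : i (genericPoint Z) = y :=
        (inseparable_iff_closure_eq.2 ((range_eq_closure i).symm.trans hr)).eq
      exact hy ▸ hc
  obtain ⟨N₀, hN₀⟩ := hsum
  refine ⟨N₀, fun n hn => ?_⟩
  let T := AmpleVan.tw (CohB1.tensorPow L n)
  haveI := AmpleVan.isEquivalence_tw (InvX.isInvertible_tensorPow hL n)
  exact PnCoh.Finite.subsingleton_HH_of_decomposition (ι := PUnit.{1}) (fun _ => T.obj (⨁ F))
    (fun _ => T.map (biproduct.ι F ⟨⟨0, hr0⟩⟩)) (fun _ => T.map (biproduct.π F ⟨⟨0, hr0⟩⟩))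
    (by simp [← Functor.map_comp]) 1 fun _ => hN₀ n hn

include A in
/-- Ampleness descends along finite surjections of proper schemes. -/
theorem isAmple_of_finite_surjective (f : Y ⟶ X) [IsFinite f] [Surjective f] {L : X.Modules}
    (hL : PicF.IsInvertible L) (ha : CohB1.IsAmple ((Scheme.Modules.pullback f).obj L)) :
    CohB1.IsAmple L := by
  haveI := VarBase.isNoetherian_of_proper' A (X := X)
  refine AmpleVan.isAmple_of_HH_one hL fun Z _ => ?_
  obtain ⟨N, hN⟩ := van_of_finite_surjective A f hL ha (isCoh_of_mono (QCoh.vanIdeal Z).ι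
    isCoh_structureModule' (QCoh.isQCoh_vanIdeal Z))
  exact ⟨N, hN (N + 1) (Nat.le_succ N)⟩

end Groth.Agent.CohCore23.AmpDesc
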