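import Groth.Agent.AmpleVan.Spread
import Groth.Agent.AmpleX.Sect
import Groth.Agent.AmpleX.Basis
import Groth.Agent.VarBase.Restrict

/-!
# Ampleness over a localisation of the base spreads out
-/

set_option autoImplicit false
set_option linter.style.haveILetI false
set_option linter.unusedSectionVars false
set_option backward.isDefEq.respectTransparency false
set_option backward.isDefEq.respectTransparency.types false
set_option maxHeartbeats 1000000

universe u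

open CategoryTheory CategoryTheory.Limits AlgebraicGeometry TopologicalSpace Opposite

noncomputable section

namespace Groth.Agent.CohCore23.AmpSpread

open Groth.Agent

/-- A locally closed set none of whose points maps to a generalisation of `p` misses a neighbourhood
of the fibre over `p`, for a closed map. -/
theorem exists_nhd_disjoint {α β : Type*} [TopologicalSpace α] [NoetherianSpace α] [QuasiSober α]
    [TopologicalSpace β] {π : α → β} (hπ : IsClosedMap π) (hc : Continuous π) {G F : Set α} (hG : IsOpen G)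
    (hF : IsClosed F) {p : β} (h : ∀ η ∈ G ∩ F, ¬ π η ⤳ p) :
    ∃ O : Opens β, p ∈ O ∧ ∀ z, π z ∈ O → z ∉ G ∩ F := by
  refine ⟨⟨(π '' closure (G ∩ F))ᶜ, (hπ _ isClosed_closure).isOpen_compl⟩, ?_,
    fun z hz hzC => hz ⟨z, subset_closure hzC, rfl⟩⟩
  rintro ⟨z, hz, rfl⟩
  obtain ⟨S, hSf, hSc, hSi, hS⟩ :=
    NoetherianSpace.exists_finite_set_isClosed_irreducible (isClosed_closure (s := G ∩ F))
  have hsub : G ∩ F ⊆ ⋃₀ {t ∈ S | (G ∩ t).Nonempty} := fun x hx => by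
    obtain ⟨t, ht, hxt⟩ : x ∈ ⋃₀ S := hS ▸ subset_closure hx
    exact ⟨t, ⟨ht, x, hx.1, hxt⟩, hxt⟩
  have hcl : IsClosed (⋃₀ {t ∈ S | (G ∩ t).Nonempty}) := by
    rw [Set.sUnion_eq_biUnion]
    exact (hSf.subset fun t ht => ht.1).isClosed_biUnion fun t ht => hSc t ht.1
  obtain ⟨t, ⟨ht, hne⟩, hzt⟩ := closure_minimal hsub hcl hz
  obtain ⟨η, hη⟩ := QuasiSober.sober (hSi t ht) (hSc t ht)
  have hηG : η ∈ G := hη.mem_open_set_iff hG |>.2 (by rwa [Set.inter_comm])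
  have hηF : η ∈ F := by
    refine closure_minimal (show G ∩ F ⊆ F from Set.inter_subset_right) hF ?_
    rw [hS]
    exact ⟨t, ht, hη.mem⟩
  exact h η ⟨hηG, hηF⟩ ((hη.specializes hzt).map hc)

variable {B : Type u} [CommRing B] {X : Scheme.{u}} [X.Over (Spec (CommRingCat.of B))]
  [IsLocallyNoetherian X] [CompactSpace X] [X.IsSeparated] (S : Submonoid B)
  {A : Type u} [CommRing A] [Algebra B A] [IsLocalization S A] {X₁ : Scheme.{u}}
  [X₁.Over (Spec (CommRingCat.of A))] {g : X₁ ⟶ X}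
  (sq : IsPullback g (X₁ ↘ Spec (CommRingCat.of A)) (X ↘ Spec (CommRingCat.of B))
    (Spec.map (CommRingCat.ofHom (algebraMap B A))))

include S sq in
/-- Sections over the localised base extend after clearing a denominator. -/
theorem exists_section_spread {N : X.Modules} (hN : PicF.IsInvertible N)
    (σ : Γ((Scheme.Modules.pullback g).obj N, ⊤)) :
    ∃ t : Γ(N, ⊤), g ⁻¹ᵁ AmpleX.locus t = AmpleX.locus σ := by
  let η := (Scheme.Modules.pullbackPushforwardAdjunction g).unit.app N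
  obtain ⟨b, hb, t, ht⟩ := AmpleVan.exists_global (S := S) (κ := η)
    (fun x => ⟨⊤, trivial, AmpleVan.isSIso_unit S sq (ProjUPX.isQCoh_of_isInvertible hN) ⊤⟩) σ
  let ρ' := Coh.toGlobal (X₁ ↘ Spec (CommRingCat.of A))
  let r : Γ(X₁, g ⁻¹ᵁ ⊤) := X₁.presheaf.map (homOfLE le_top).op (ρ' (algebraMap B A b))
  let σ' : Γ((Scheme.Modules.pullback g).obj N, g ⁻¹ᵁ ⊤) := σ
  have hr : IsUnit r := ((IsLocalization.map_units A (⟨b, hb⟩ : S)).map ρ').map _
  have h1 : InvX.pullElt g t = r • σ' := by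
    refine ht.trans ?_
    show (show Γ(X₁, g ⁻¹ᵁ ⊤) from g.app ⊤ (X.presheaf.map (homOfLE le_top).op
      (Coh.toGlobal (X ↘ Spec (CommRingCat.of B)) b))) • σ' = r • σ'
    rw [QCoh.app_topRes]
    exact congrArg (fun e : Γ(X₁, ⊤) => (show Γ(X₁, g ⁻¹ᵁ ⊤) from
      X₁.presheaf.map (homOfLE le_top).op e) • σ') (QCoh.toGlobal_comm _ _ g sq.w b).symm
  refine ⟨t, ?_⟩
  rw [← AmpleX.locus_pullElt hN, h1]
  refine (AmpleX.locus_smul (PicClLib.isInvertible_pullback g hN) r σ').trans ?_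
  rw [X₁.basicOpen_of_isUnit hr]
  exact inf_eq_left.2 (AmpleX.locus_le σ')

include S sq in
/-- Ampleness over the localised base spreads out to a neighbourhood. -/
theorem exists_isAmple_basicOpen [IsProper (X ↘ Spec (CommRingCat.of B))] {L : X.Modules}
    (hL : PicF.IsInvertible L) (ha : CohB1.IsAmple ((Scheme.Modules.pullback g).obj L))
    (p : Spec (CommRingCat.of B))
    (hp : ∀ q, q ⤳ p → q ∈ Set.range (Spec.map (CommRingCat.ofHom (algebraMap B A)))) :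
    ∃ c : B, p ∈ PrimeSpectrum.basicOpen c ∧
      CohB1.IsAmple (L.restrict ((X ↘ Spec (CommRingCat.of B)) ⁻¹ᵁ PrimeSpectrum.basicOpen c).ι) := by
  classical
  haveI := AmpleX.isSeparated_of_isAmple ha
  haveI : IsNoetherian X := { __ := ‹IsLocallyNoetherian X›, __ := ‹CompactSpace X› }
  let π := X ↘ Spec (CommRingCat.of B)
  have hrange : ∀ z : X, π z ⤳ p → ∃ z₁ : X₁, g z₁ = z := fun z hz => by
    obtain ⟨w, hw⟩ : z ∈ Set.range (pullback.fst π (Spec.map (CommRingCat.ofHom (algebraMap B A)))) := by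
      rw [Scheme.Pullback.range_fst]
      exact hp _ hz
    refine ⟨sq.isoPullback.inv w, ?_⟩
    rw [← Scheme.Hom.comp_apply, IsPullback.isoPullback_inv_fst, hw]
  have hloc : ∀ x : X, π x = p → ∃ (m : ℕ) (_ : 0 < m) (a : Γ(CohB1.tensorPow L m, ⊤))
      (O : (Spec (CommRingCat.of B)).Opens), x ∈ AmpleX.locus a ∧ p ∈ O ∧
      ∀ c : B, PrimeSpectrum.basicOpen c ≤ O →
        IsAffineOpen (AmpleX.locus a ⊓ π ⁻¹ᵁ PrimeSpectrum.basicOpen c) := by
    intro x hx
    obtain ⟨U, hU, hxU, -⟩ := exists_isAffineOpen_mem_and_subset (x := x) (U := ⊤) trivial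
    obtain ⟨x₁, hx₁⟩ := hrange x (hx ▸ specializes_rfl)
    obtain ⟨m, hm, s, hxs, hsU, -⟩ := AmpleX.exists_genLocus_le ha
      (x := x₁) (U := g ⁻¹ᵁ U) (show g x₁ ∈ U from hx₁.symm ▸ hxU)
    have hLm := InvX.isInvertible_tensorPow hL m
    obtain ⟨σ, hσ⟩ := AmpleX.exists_locus_cl (N := (Scheme.Modules.pullback g).obj (CohB1.tensorPow L m))
      (show _ = PicF.cl ((Scheme.Modules.pullback g).obj (CohB1.tensorPow L m)) from
        (H23.PicMul.cl_eq_iff.2 (VarBase.nonempty_pullback_tensorPow g L m)).symm) (InvX.one s)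
    rw [← AmpleX.genLocus_eq_locus] at hσ
    obtain ⟨t, ht⟩ := exists_section_spread S sq hLm σ
    rw [hσ] at ht
    obtain ⟨O, hpO, hO⟩ := exists_nhd_disjoint (π := π) π.isClosedMap π.continuous
      (AmpleX.locus t).isOpen U.isOpen.isClosed_compl (p := p) (by
        rintro η ⟨hη, hηU⟩ hs
        obtain ⟨η₁, rfl⟩ := hrange η hs
        exact hηU (hsU (show η₁ ∈ CohB1.genLocus _ s from ht.le hη)))
    refine ⟨m, hm, t, O, hx₁ ▸ (ht.ge hxs : x₁ ∈ g ⁻¹ᵁ AmpleX.locus t), hpO, fun c hc => ?_⟩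
    have heq : AmpleX.locus t ⊓ π ⁻¹ᵁ PrimeSpectrum.basicOpen c =
        (U ⊓ AmpleX.locus t) ⊓ π ⁻¹ᵁ PrimeSpectrum.basicOpen c := by
      refine le_antisymm (fun z hz => ⟨⟨?_, hz.1⟩, hz.2⟩) (inf_le_inf_right _ inf_le_right)
      by_contra hzU
      exact hO z (hc hz.2) ⟨hz.1, hzU⟩
    rw [heq]
    have hUt := AmpleX.isAffineOpen_inf_locus hLm hU t le_top
    let r : Γ(X, ⊤) := Coh.toGlobal π c
    have hr : π ⁻¹ᵁ PrimeSpectrum.basicOpen c = X.basicOpen r := by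
      rw [← basicOpen_eq_of_affine (R := CommRingCat.of B) c]
      exact Scheme.preimage_basicOpen π _
    rw [hr, ← Scheme.basicOpen_res _ _ (homOfLE (le_top : U ⊓ AmpleX.locus t ≤ ⊤)).op]
    exact hUt.basicOpen _
  choose m hm a O hxa hpO hO using hloc
  obtain ⟨T, hT⟩ : ∃ T : Finset {x : X // π x = p},
      π ⁻¹' {p} ⊆ ⋃ x ∈ T, (AmpleX.locus (a x.1 x.2) : Set X) := by
    have hcpt : IsCompact (π ⁻¹' {p}) := NoetherianSpace.isCompact _
    exact hcpt.elim_finite_subcover _ (fun x => (AmpleX.locus (a x.1 x.2)).isOpen)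
      fun x hx => Set.mem_iUnion.2 ⟨⟨x, hx⟩, hxa x hx⟩
  let G : X.Opens := ⨆ x ∈ T, AmpleX.locus (a x.1 x.2)
  let W : (Spec (CommRingCat.of B)).Opens :=
    (T.inf fun x => O x.1 x.2) ⊓ ⟨(π '' (G : Set X)ᶜ)ᶜ, (π.isClosedMap _ G.isOpen.isClosed_compl).isOpen_compl⟩
  have hpW : p ∈ W := by
    refine ⟨?_, ?_⟩
    · rw [Opens.coe_finset_inf, Finset.inf_set_eq_iInter]
      exact Set.mem_iInter₂.2 fun x _ => hpO x.1 x.2
    · rintro ⟨z, hz, hzp⟩
      obtain ⟨x, hxT, hzx⟩ := Set.mem_iUnion₂.1 (hT (show z ∈ π ⁻¹' {p} from hzp))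
      exact hz ((le_iSup₂ (f := fun (x : {x : X // π x = p}) (_ : x ∈ T) =>
        AmpleX.locus (a x.1 x.2)) x hxT) hzx)
  obtain ⟨_, ⟨_, ⟨c, rfl⟩, rfl⟩, hpc, hcW⟩ :=
    PrimeSpectrum.isBasis_basic_opens.exists_subset_of_mem_open (show p ∈ (W : Set _) from hpW) W.isOpen
  refine ⟨c, hpc, (AmpleX.isAmple_restrict_iff _ hL).2 ⟨isCompact_iff_compactSpace.mp
    (π.isCompact_preimage (PrimeSpectrum.isCompact_basicOpen c)), fun z => ?_⟩⟩
  have hzW : π z.1 ∈ W := hcW z.2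
  have hzG : z.1 ∈ G := by
    by_contra hzG
    exact hzW.2 ⟨z.1, hzG, rfl⟩
  obtain ⟨x, hx⟩ := Opens.mem_iSup.1 hzG
  obtain ⟨hxT, hzx⟩ := Opens.mem_iSup.1 hx
  refine ⟨m x.1 x.2, hm x.1 x.2, AModX.res _ le_top (a x.1 x.2), ?_⟩
  rw [AmpleX.locus_res, Scheme.Opens.ι_image_top]
  exact ⟨⟨hzx, z.2⟩, hO x.1 x.2 c fun q hq =>
    (Finset.inf_le (f := fun x : {x : X // π x = p} => O x.1 x.2) hxT) (hcW hq).1⟩

end Groth.Agent.CohCore23.AmpSpread
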