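import Groth.Agent.QCoh.PullbackBC
import Groth.Agent.QCoh.Support
import Groth.Agent.KFlatLib.Scheme.FlatDescent

/-! # Finite type descends along quasi-compact flat surjections -/

universe u

set_option backward.isDefEq.respectTransparency false
set_option backward.isDefEq.respectTransparency.types false

open CategoryTheory CategoryTheory.Limits AlgebraicGeometry TopologicalSpace Opposite TensorProduct

namespace Groth.Agent.CohCore23

open Groth.Agent.QCoh

/-- A module is finite if finitely many of its elements generate after a jointly faithfully flat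
family of base changes. -/
theorem finite_of_jointly_faithfullyFlat {A : Type u} [CommRing A] {M : Type u} [AddCommGroup M]
    [Module A M] {ι : Type*} [Finite ι] (B : ι → Type u) [∀ j, CommRing (B j)] [∀ j, Algebra A (B j)]
    [∀ j, Module.Flat A (B j)]
    (hcov : ∀ m : Ideal A, m.IsMaximal → ∃ j, m.map (algebraMap A (B j)) ≠ ⊤)
    [∀ j, Module.Finite (B j) (B j ⊗[A] M)] : Module.Finite A M := by
  classical
  have hN : ∀ j, ∃ N : Submodule A M, N.FG ∧ Function.Surjective (N.subtype.baseChange (B j)) := by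
    intro j
    obtain ⟨S, hS⟩ := (inferInstance : Module.Finite (B j) (B j ⊗[A] M)).fg_top
    choose T hT using fun y : S => TensorProduct.exists_finset (y.1)
    let N := Submodule.span A (((Finset.univ.biUnion T).image Prod.snd : Finset M) : Set M)
    refine ⟨N, Submodule.fg_span (Finset.finite_toSet _), LinearMap.range_eq_top.1 (top_le_iff.1 ?_)⟩
    rw [← hS, Submodule.span_le]
    intro y hy
    rw [show y = _ from hT ⟨y, hy⟩]
    refine Submodule.sum_mem _ fun p hp => ⟨p.1 ⊗ₜ[A] (⟨p.2, Submodule.subset_span ?_⟩ : N), rfl⟩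
    exact Finset.mem_coe.2 (Finset.mem_image.2 ⟨p, Finset.mem_biUnion.2 ⟨_, Finset.mem_univ _, hp⟩, rfl⟩)
  choose N hfg hsurj using hN
  let N₀ : Submodule A M := ⨆ j, N j
  have hN₀ : N₀.FG := Submodule.fg_iSup _ hfg
  have hzero : ∀ (j) (z : B j ⊗[A] (M ⧸ N₀)), z = 0 := by
    intro j z
    obtain ⟨w, rfl⟩ := LinearMap.lTensor_surjective (B j) N₀.mkQ_surjective z
    obtain ⟨v, rfl⟩ := hsurj j w
    induction v using TensorProduct.induction_on with
    | zero => simp
    | tmul b x =>
      show b ⊗ₜ[A] N₀.mkQ x.1 = 0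
      rw [show N₀.mkQ x.1 = 0 from (Submodule.Quotient.mk_eq_zero _).2 (le_iSup N j x.2), tmul_zero]
    | add a b ha hb => rw [map_add, map_add, ha, hb, add_zero]
  suffices h : N₀ = ⊤ by exact ⟨h ▸ hN₀⟩
  refine Submodule.eq_top_iff'.2 fun x => ?_
  by_contra hx
  let q : A →ₗ[A] M ⧸ N₀ := LinearMap.toSpanSingleton A _ (N₀.mkQ x)
  have hI : (LinearMap.ker q : Ideal A) ≠ ⊤ := fun h => hx <| by
    have h1 : (1 : A) ∈ LinearMap.ker q := by rw [h]; trivial
    exact (Submodule.Quotient.mk_eq_zero _).1 (by simpa [q] using h1)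
  obtain ⟨m, hm, hle⟩ := Ideal.exists_le_maximal _ hI
  obtain ⟨j, hj⟩ := hcov m hm
  refine hj (top_le_iff.1 (le_trans ?_ (Ideal.map_mono hle)))
  intro b _
  let q' : (A ⧸ LinearMap.ker q) →ₗ[A] M ⧸ N₀ := (LinearMap.ker q).liftQ q le_rfl
  have hq' : Function.Injective q' :=
    LinearMap.ker_eq_bot.1 (Submodule.ker_liftQ_eq_bot _ _ _ le_rfl)
  have h0 : b ⊗ₜ[A] (Submodule.Quotient.mk 1 : A ⧸ LinearMap.ker q) = 0 :=
    Module.Flat.lTensor_preserves_injective_linearMap q' hq' ((hzero j _).trans (map_zero _).symm)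
  refine Ideal.Quotient.eq_zero_iff_mem.1
    ((Algebra.TensorProduct.quotIdealMapEquivTensorQuot (B j) (LinearMap.ker q : Ideal A)).injective ?_)
  rw [Algebra.TensorProduct.quotIdealMapEquivTensorQuot_mk, map_zero]
  exact h0

variable {X Y : Scheme.{u}} (f : Y ⟶ X)

theorem finite_sections_of_pullback [Flat f] [Surjective f] [QuasiCompact f] {P : X.Modules}
    (hP : Coh.IsQCoh P) (hc : Coh.IsCoh ((Scheme.Modules.pullback f).obj P)) {V : X.Opens}
    (hV : IsAffineOpen V) : Module.Finite Γ(X, V) Γ(P, V) := by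
  classical
  have hcov : ∀ y : (f ⁻¹ᵁ V : Y.Opens), ∃ W : Y.Opens, IsAffineOpen W ∧ y.1 ∈ W ∧ W ≤ f ⁻¹ᵁ V := by
    intro y
    obtain ⟨_, ⟨W, hW, rfl⟩, hyW, hle⟩ :=
      Y.isBasis_affineOpens.exists_subset_of_mem_open y.2 (f ⁻¹ᵁ V).2
    exact ⟨W, hW, hyW, hle⟩
  choose W hW hyW hle using hcov
  obtain ⟨F, hF⟩ := (f.isCompact_preimage hV.isCompact).elim_finite_subcover
    (fun y : (f ⁻¹ᵁ V : Y.Opens) => (W y : Set Y)) (fun y => (W y).2)
    fun y hy => Set.mem_iUnion.2 ⟨(⟨y, hy⟩ : (f ⁻¹ᵁ V : Y.Opens)), hyW _⟩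
  let B : F → Type u := fun y => Γ(Y, W y.1)
  letI alg : ∀ y : F, Algebra Γ(X, V) (B y) := fun y => (f.appLE V (W y.1) (hle y.1)).hom.toAlgebra
  haveI : ∀ y : F, Module.Flat Γ(X, V) (B y) := fun y => f.flat_appLE hV (hW y.1) (hle y.1)
  haveI : ∀ y : F, Module.Finite (B y) (B y ⊗[Γ(X, V)] Γ(P, V)) := fun y => by
    let N := Γ((Scheme.Modules.pullback f).obj P, W y.1)
    letI : Module Γ(X, V) N := Module.compHom N (f.appLE V (W y.1) (hle y.1)).hom
    haveI : IsScalarTower Γ(X, V) Γ(Y, W y.1) N :=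
      IsScalarTower.of_algebraMap_smul fun _ _ => rfl
    haveI := finite_sections hc (hW y.1)
    let l : Γ(P, V) →ₗ[Γ(X, V)] N :=
      { toFun := pullSec f P (hle y.1)
        map_add' := fun a b => by simp only [pullSec, map_add]
        map_smul' := fun r x => pullSec_smul f P (hle y.1) r x }
    exact Module.Finite.equiv
      (isBaseChange_pullback hV f (hW y.1) hP (hle y.1) (fun _ => rfl) l fun _ => rfl).equiv.symm
  refine finite_of_jointly_faithfullyFlat B fun m hm => ?_
  let p : PrimeSpectrum Γ(X, V) := ⟨m, hm.isPrime⟩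
  obtain ⟨y, hy⟩ := f.surjective (hV.fromSpec p)
  have hpV : hV.fromSpec p ∈ V := hV.range_fromSpec.le (Set.mem_range_self _)
  obtain ⟨y₀, hy₀, hyW₀⟩ := Set.mem_iUnion₂.1 (hF (show f y ∈ V from hy ▸ hpV))
  refine ⟨⟨y₀, hy₀⟩, fun htop => ?_⟩
  have hsp := IsAffineOpen.comap_primeIdealOf_appLE (f := f) V hV (W y₀) (hW y₀) (hle y₀) hyW₀
  have hp : hV.primeIdealOf ⟨f y, hy ▸ hpV⟩ = p :=
    hV.fromSpec.isOpenEmbedding.injective ((hV.fromSpec_primeIdealOf _).trans hy)
  have hle' : m.map (algebraMap Γ(X, V) (B ⟨y₀, hy₀⟩)) ≤ ((hW y₀).primeIdealOf ⟨y, hyW₀⟩).asIdeal := by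
    refine Ideal.map_le_iff_le_comap.2 (le_of_eq ?_)
    exact (congrArg PrimeSpectrum.asIdeal (hsp.trans hp)).symm
  exact ((hW y₀).primeIdealOf ⟨y, hyW₀⟩).isPrime.ne_top (top_le_iff.1 (htop ▸ hle'))

theorem isCoh_of_pullback [Flat f] [Surjective f] [QuasiCompact f] {P : X.Modules}
    (hP : Coh.IsQCoh P) (hc : Coh.IsCoh ((Scheme.Modules.pullback f).obj P)) : Coh.IsCoh P :=
  isCoh_iff.2 ⟨hP, fun V => finite_sections_of_pullback f hP hc V.2⟩

/-- `F ∩ f_* G` is coherent. -/
theorem isCoh_pullback_inter [QuasiSeparated f] [QuasiCompact f] [Flat f] [Surjective f]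
    [IsLocallyNoetherian Y] {F : X.Modules} (hF : Coh.IsQCoh F) {G : Y.Modules} (hG : Coh.IsCoh G)
    (φ : G ⟶ (Scheme.Modules.pullback f).obj F) [Mono φ] :
    Coh.IsCoh (Limits.pullback ((Scheme.Modules.pullbackPushforwardAdjunction f).unit.app F)
      ((Scheme.Modules.pushforward f).map φ)) := by
  let adj := Scheme.Modules.pullbackPushforwardAdjunction f
  let a := adj.unit.app F
  let b := (Scheme.Modules.pushforward f).map φ
  haveI := (Scheme.Modules.pullbackPushforwardAdjunction f).isRightAdjoint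
  haveI : Mono b := inferInstance
  let K := kernel (a ≫ cokernel.π b)
  have hfG : Coh.IsQCoh ((Scheme.Modules.pushforward f).obj G) := isQCoh_pushforward f hG.1
  have hfF : Coh.IsQCoh ((Scheme.Modules.pushforward f).obj ((Scheme.Modules.pullback f).obj F)) :=
    isQCoh_pushforward f (isQCoh_pullback f hF)
  have hK : Coh.IsQCoh K := isQCoh_kernel hF (isQCoh_cokernel hfG hfF b) _
  let l : K ⟶ (Scheme.Modules.pushforward f).obj G :=
    Abelian.monoLift b (kernel.ι (a ≫ cokernel.π b) ≫ a) (by rw [Category.assoc, kernel.condition])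
  have hl : l ≫ b = kernel.ι (a ≫ cokernel.π b) ≫ a := Abelian.monoLift_comp _ _ _
  let e : K ≅ Limits.pullback a b :=
    { hom := pullback.lift (kernel.ι _) l hl.symm
      inv := kernel.lift _ (pullback.fst a b) (by
        rw [pullback.condition_assoc, cokernel.condition, comp_zero])
      hom_inv_id := by
        apply equalizer.hom_ext
        rw [Category.assoc, kernel.lift_ι, pullback.lift_fst, Category.id_comp]
      inv_hom_id := by
        rw [← cancel_mono (pullback.fst a b), Category.assoc, pullback.lift_fst, kernel.lift_ι,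
          Category.id_comp] }
  let ψ := (adj.homEquiv K G).symm l
  have hψ : ψ ≫ φ = (Scheme.Modules.pullback f).map (kernel.ι (a ≫ cokernel.π b)) := by
    apply (adj.homEquiv _ _).injective
    rw [adj.homEquiv_naturality_right, Equiv.apply_symm_apply]
    exact hl.trans ((Category.comp_id _).symm.trans (by
      rw [adj.homEquiv_unit]
      exact (Category.comp_id _).trans (adj.unit.naturality (kernel.ι (a ≫ cokernel.π b)))))
  haveI := KFlatLib.preservesHomology_pullback f
  haveI : Mono ψ := by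
    haveI : PreservesFiniteLimits (Scheme.Modules.pullback f) :=
      (Scheme.Modules.pullback f).preservesFiniteLimits_of_preservesHomology
    exact mono_of_mono_fac hψ
  have hKc : Coh.IsCoh K := isCoh_of_pullback f hK (isCoh_of_mono ψ hG (isQCoh_pullback f hK))
  exact ⟨(isQCoh_iff_iso e).1 hKc.1, (isFT_iff ((isQCoh_iff_iso e).1 hKc.1)).2 fun U => by
    haveI := finite_sections hKc U.2
    exact Module.Finite.of_surjective ({ toFun := e.hom.app U.1, map_add' := map_add _, map_smul' := Scheme.Modules.Hom.app_smul e.hom } : Γ(K, U.1) →ₗ[Γ(X, U.1)] Γ(Limits.pullback a b, U.1)) fun y =>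
      ⟨e.inv.app U.1 y, congr(($(e.inv_hom_id)).app U.1 y)⟩⟩

end Groth.Agent.CohCore23
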