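import Groth.Agent.QCoh.ExtendFT
import Groth.Agent.QCoh.RpushProper

/-!
# Extending morphisms from an open, after shrinking the source

On a locally Noetherian scheme a morphism `A|_U ⟶ B|_U` with `A` coherent and `B` quasi-coherent
extends to a coherent submodule of `A` agreeing with `A` on `U`.
-/

universe u

set_option backward.isDefEq.respectTransparency false
set_option backward.isDefEq.respectTransparency.types false

open CategoryTheory CategoryTheory.Limits AlgebraicGeometry TopologicalSpace Opposite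

namespace Groth.Agent.CohCore23

open Groth.Agent.QCoh

variable {X : Scheme.{u}} {G M : X.Modules}

/-- Intersection of two submodules. -/
noncomputable def subInf (N N' : SubMod G) : SubMod G where
  mem O := N.mem O ⊓ N'.mem O
  map_mem i _ hs := ⟨N.map_mem i hs.1, N'.map_mem i hs.2⟩
  of_locally O s h := ⟨N.of_locally O s fun x hx => (by
      obtain ⟨V, i, hxV, hV⟩ := h x hx; exact ⟨V, i, hxV, hV.1⟩),
    N'.of_locally O s fun x hx => (by
      obtain ⟨V, i, hxV, hV⟩ := h x hx; exact ⟨V, i, hxV, hV.2⟩)⟩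

/-- `p` is injective on the sections of `N` over opens inside `W`. -/
def GoodOn (p : G ⟶ M) (N : SubMod G) (W : X.Opens) : Prop :=
  ∀ O, O ≤ W → ∀ s ∈ N.mem O, p.app O s = 0 → s = 0

theorem app_rs (p : G ⟶ M) {U V : X.Opens} (h : V ≤ U) (s : Γ(G, U)) :
    p.app V (rs G h s) = rs M h (p.app U s) := map_app_comm p _ s

/-- Generators on an affine open of a submodule of finite type. -/
theorem exists_genBy (hG : Coh.IsQCoh G) {N : SubMod G} {W V : X.Opens} (hN : FTOn N W)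
    (hV : IsAffineOpen V) (hVW : V ≤ W) : ∃ T : Set Γ(G, V), GenBy N V T := by
  classical
  have h : ∀ x : V, ∃ f : Γ(X, V), X.basicOpen f ≤ W ∧ x.1 ∈ X.basicOpen f ∧
      ∃ T : Set Γ(G, X.basicOpen f), GenBy N (X.basicOpen f) T :=
    fun x => hN.exists_gen_le hV (hVW x.2) x.2
  choose f hfW hxf T hT using h
  obtain ⟨F, hF⟩ := hV.isCompact.elim_finite_subcover (fun x : V => (X.basicOpen (f x) : Set X))
    (fun x => (X.basicOpen (f x)).2) fun x hx => Set.mem_iUnion.2 ⟨(⟨x, hx⟩ : V), hxf _⟩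
  have hz : ∀ (x : V) (t : T x), ∃ z : Γ(G, V), z ∈ N.mem V ∧
      t.1 ∈ Submodule.span Γ(X, X.basicOpen (f x)) {rs G (X.basicOpen_le (f x)) z} := by
    intro x t
    obtain ⟨n, z, hz⟩ := exists_pow_smul_eq_map hG hV (f x) t.1
    have hzN : rs G (inf_le_right.trans le_rfl) z ∈ N.mem (X.basicOpen (f x) ⊓ V) := by
      rw [← rs_rs (X.basicOpen_le (f x)) inf_le_left]
      refine N.map_mem inf_le_left ?_
      rw [rs, hz]
      exact Submodule.smul_mem _ _ ((hT x).mem t.1 t.2)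
    obtain ⟨m, hm⟩ := exists_pow_smul_mem hG hN hV le_rfl hVW hV.isCompact (f x) z hzN
    rw [rs_self] at hm
    refine ⟨f x ^ m • z, hm, ?_⟩
    have hu := (isUnit_rf_basicOpen (f x)).pow (m + n)
    have he : rs G (X.basicOpen_le (f x)) (f x ^ m • z) =
        rf X (X.basicOpen_le (f x)) (f x) ^ (m + n) • t.1 := by
      rw [rs_smul, rs, hz, pow_add, mul_smul]
      simp only [rf, map_pow]
    rw [he, Submodule.span_singleton_smul_eq hu]
    exact Submodule.mem_span_singleton_self _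
  choose z hzN hzT using hz
  refine ⟨⋃ x ∈ F, Set.range (z x), F.finite_toSet.biUnion fun x _ => ?_, ?_, ?_⟩
  · have := (hT x).fin.to_subtype
    exact Set.finite_range _
  · intro t ht
    obtain ⟨x, _, t', rfl⟩ := Set.mem_iUnion₂.1 ht
    exact hzN x t'
  · intro O hO s hs x hx
    obtain ⟨y, hy, hxy⟩ := Set.mem_iUnion₂.1 (hF (hO hx))
    obtain ⟨P, hP, hxP, hsP⟩ := (hT y).gen (O ⊓ X.basicOpen (f y)) inf_le_right _
      (N.map_mem inf_le_left hs) x ⟨hx, hxy⟩
    change rs G hP (rs G _ s) ∈ _ at hsP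
    rw [rs_rs] at hsP
    have hPf : P ≤ X.basicOpen (f y) := hP.trans inf_le_right
    refine ⟨P, hP.trans inf_le_left, hxP, Submodule.span_le.2 ?_ hsP⟩
    rintro _ ⟨t, ht, rfl⟩
    refine span_image_rs_le (X.basicOpen_le (f y)) hPf (Submodule.span_mono ?_ (hzT y ⟨t, ht⟩))
    exact Set.singleton_subset_iff.2 ⟨_, Set.mem_biUnion hy ⟨_, rfl⟩, rfl⟩

/-- Artin–Rees: high powers of `J` move a finite module away from a submodule killed locally. -/
theorem exists_pow_smul_disjoint {A P Q : Type u} [CommRing A] [IsNoetherianRing A]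
    [AddCommGroup P] [Module A P] [AddCommGroup Q] [Module A Q] (l : P →ₗ[A] Q)
    (M₀ : Submodule A P) (hM₀ : M₀.FG) (s : Set A) (hs : s.Finite)
    (hkill : ∀ a ∈ s, ∀ y ∈ M₀, l y = 0 → ∃ n : ℕ, a ^ n • y = 0) :
    ∃ n : ℕ, ∀ y ∈ Ideal.span s ^ n • M₀, l y = 0 → y = 0 := by
  haveI : Module.Finite A M₀ := Module.Finite.iff_fg.2 hM₀
  let K : Submodule A M₀ := LinearMap.ker (l.comp M₀.subtype)
  obtain ⟨S, hS⟩ := (IsNoetherian.noetherian K : K.FG)
  have hle : Ideal.span s ≤ (Module.annihilator A K).radical := by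
    refine Ideal.span_le.2 fun a ha => ?_
    have : ∀ y : S, ∃ n : ℕ, a ^ n • y.1 = 0 := fun y => by
      have hy : y.1 ∈ K := hS ▸ Submodule.subset_span y.2
      obtain ⟨n, hn⟩ := hkill a ha y.1.1 y.1.2 (LinearMap.mem_ker.1 hy)
      exact ⟨n, Subtype.ext hn⟩
    choose n hn using this
    refine ⟨(Finset.univ : Finset S).sup n, Module.mem_annihilator.2 fun w => ?_⟩
    have hK : K ≤ LinearMap.ker
        (LinearMap.lsmul A M₀ (a ^ (Finset.univ : Finset S).sup n)) := by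
      rw [← hS]
      refine Submodule.span_le.2 fun y hy => ?_
      obtain ⟨j, hj⟩ := Nat.exists_eq_add_of_le'
        (Finset.le_sup (f := n) (Finset.mem_univ (⟨y, hy⟩ : S)))
      show a ^ (Finset.univ : Finset S).sup n • y = 0
      rw [hj, pow_add, mul_smul, hn ⟨y, hy⟩, smul_zero]
    exact Subtype.ext (LinearMap.mem_ker.1 (hK w.2))
  obtain ⟨m, hm⟩ := Ideal.exists_pow_le_of_le_radical_of_fg hle (IsNoetherian.noetherian _)
  obtain ⟨n₀, hn₀⟩ := eq_zero_of_mem_pow K.subtype (Ideal.span s) m hm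
  refine ⟨n₀, fun y hy hly => ?_⟩
  have hyM : y ∈ M₀ := Submodule.smul_le_right hy
  have hyK : (⟨y, hyM⟩ : M₀) ∈ K := hly
  have hmem : (⟨y, hyM⟩ : M₀) ∈ Ideal.span s ^ n₀ • (⊤ : Submodule A M₀) :=
    (Submodule.mem_smul_top_iff _ M₀ _).2 hy
  exact congrArg Subtype.val (hn₀ n₀ le_rfl ⟨_, hyK⟩ hmem)

/-- Shrinking an extension step so that `p` stays injective. -/
theorem exists_good_step [IsLocallyNoetherian X] (hG : Coh.IsQCoh G) (hM : Coh.IsQCoh M)
    (p : G ⟶ M) {N' : SubMod G} {W V : X.Opens} (hV : IsAffineOpen V)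
    (hN' : FTOn N' (W ⊔ V)) (hgood : GoodOn p N' W) :
    ∃ N'' : SubMod G, (∀ O, O ≤ W → N''.mem O = N'.mem O) ∧ FTOn N'' (W ⊔ V) ∧
      GoodOn p N'' (W ⊔ V) := by
  classical
  haveI : IsNoetherianRing Γ(X, V) := IsLocallyNoetherian.component_noetherian ⟨V, hV⟩
  obtain ⟨T, hT⟩ := exists_genBy hG hN' hV le_sup_right
  have hcov : ∀ x : (V ⊓ W : X.Opens), ∃ f : Γ(X, V), X.basicOpen f ≤ W ∧ x.1 ∈ X.basicOpen f :=
    fun x => hV.exists_basicOpen_le ⟨x.1, x.2.2⟩ x.2.1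
  choose f hfW hxf using hcov
  have hVW : IsCompact ((V ⊓ W : X.Opens) : Set X) := by
    haveI : NoetherianSpace (V : Set X) := noetherianSpace_of_isAffineOpen V hV
    exact isCompact_inf_of_noetherian inferInstance le_rfl
  obtain ⟨F, hF⟩ := hVW.elim_finite_subcover (fun x : (V ⊓ W : X.Opens) => (X.basicOpen (f x) : Set X))
    (fun x => (X.basicOpen (f x)).2)
    fun x hx => Set.mem_iUnion.2 ⟨(⟨x, hx⟩ : (V ⊓ W : X.Opens)), hxf _⟩
  obtain ⟨k, hk⟩ := exists_pow_smul_disjoint (appLin p V) (Submodule.span Γ(X, V) T)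
    (Submodule.fg_span hT.fin) (f '' F) (F.finite_toSet.image f) (by
      rintro _ ⟨x, -, rfl⟩ y hy hpy
      refine exists_pow_smul_eq_zero hG hV (f x) y
        (hgood _ (hfW x) _ (N'.map_mem _ (hT.span_le hy)) ?_)
      change p.app _ (rs G (X.basicOpen_le (f x)) y) = 0
      rw [app_rs, show p.app V y = 0 from hpy, rs, map_zero])
  let Tk : Set Γ(G, V) := ⋃ x ∈ F, (fun t => f x ^ k • t) '' T
  have hTk : Submodule.span Γ(X, V) Tk ≤ Ideal.span (f '' F) ^ k • Submodule.span Γ(X, V) T := by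
    refine Submodule.span_le.2 fun y hy => ?_
    obtain ⟨x, hx, t, ht, rfl⟩ := Set.mem_iUnion₂.1 hy
    exact Submodule.smul_mem_smul (Ideal.pow_mem_pow (Ideal.subset_span (Set.mem_image_of_mem f hx)) k)
      (Submodule.subset_span ht)
  let N'' := subInf N' (spanSub Tk)
  have hW : ∀ O, O ≤ W → N''.mem O = N'.mem O := fun O hO => by
    refine le_antisymm inf_le_left (le_inf le_rfl fun s hs x hx hxV => ?_)
    obtain ⟨y, hy, hxy⟩ := Set.mem_iUnion₂.1 (hF ⟨hxV, hO hx⟩)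
    obtain ⟨P, hP, hxP, hsP⟩ := hT.gen (O ⊓ X.basicOpen (f y))
      (inf_le_right.trans (X.basicOpen_le _)) _ (N'.map_mem inf_le_left hs) x ⟨hx, hxy⟩
    change rs G hP (rs G _ s) ∈ _ at hsP
    rw [rs_rs] at hsP
    have hPf : P ≤ X.basicOpen (f y) := hP.trans inf_le_right
    have hPV : P ≤ V := hPf.trans (X.basicOpen_le _)
    refine ⟨P, hP.trans inf_le_left, hPV, hxP, Submodule.span_le.2 ?_ hsP⟩
    rintro _ ⟨t, ht, rfl⟩
    have hu : IsUnit (rf X hPV (f y ^ k)) := by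
      have he : rf X hPV (f y) = rf X hPf (rf X (X.basicOpen_le _) (f y)) := by
        simp only [rf, ← CommRingCat.comp_apply, ← Functor.map_comp, ← op_comp, homOfLE_comp]
      rw [rf, map_pow, ← rf, he]
      exact ((isUnit_rf_basicOpen (f y)).map _).pow k
    refine (Submodule.smul_mem_iff_of_isUnit _ hu).1 (Submodule.subset_span
      ⟨f y ^ k • t, Set.mem_biUnion hy (Set.mem_image_of_mem _ ht), ?_⟩)
    exact rs_smul _ _ _
  refine ⟨N'', hW, fun x hx => ?_, fun O hO s hs hps => ?_⟩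
  · rcases hx with hx | hx
    · obtain ⟨V', hV', hxV', hle, T', hT'⟩ := (show FTOn N' W from fun x hx => by
        obtain ⟨g, hg, hxg⟩ : ∃ V' : X.Opens, IsAffineOpen V' ∧ x ∈ V' ∧ V' ≤ W := by
          obtain ⟨_, ⟨V', hV', rfl⟩, hxV', hle⟩ :=
            X.isBasis_affineOpens.exists_subset_of_mem_open hx W.2
          exact ⟨V', hV', hxV', hle⟩
        exact ⟨_, hg, hxg.1, hxg.2, exists_genBy hG hN' hg (hxg.2.trans le_sup_left)⟩) x hx
      exact ⟨V', hV', hxV', hle.trans le_sup_left, T',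
        hT'.congr fun O hO => (hW O (hO.trans hle)).symm⟩
    · refine ⟨V, hV, hx, le_sup_right, Tk,
        F.finite_toSet.biUnion fun _ _ => hT.fin.image _, fun t ht => ⟨?_, mem_spanSub ht⟩,
        fun O hO s hs y hy => ?_⟩
      · obtain ⟨y, _, t', ht', rfl⟩ := Set.mem_iUnion₂.1 ht
        exact Submodule.smul_mem _ _ (hT.mem t' ht')
      · obtain ⟨P, hPO, hPV, hyP, hP⟩ := hs.2 y hy (hO hy)
        exact ⟨P, hPO, hyP, hP⟩
  refine eq_zero_of_locally O s fun x hx => ?_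
  rcases hO hx with hxW | hxV
  · refine ⟨O ⊓ W, homOfLE inf_le_left, ⟨hx, hxW⟩,
      hgood _ inf_le_right _ (N'.map_mem inf_le_left hs.1) ?_⟩
    change p.app _ (rs G inf_le_left s) = 0
    rw [app_rs, hps, rs, map_zero]
  · obtain ⟨P, hPO, hPV, hxP, hsP⟩ := hs.2 x hx hxV
    obtain ⟨g, hgP, hxg⟩ := hV.exists_basicOpen_le (V := P) ⟨x, hxP⟩ hxV
    have h1 := span_image_rs_le hPV hgP hsP
    rw [rs_rs] at h1
    obtain ⟨n, z, hz, hzy⟩ := exists_lift_span hV g Tk h1
    refine ⟨_, homOfLE (hgP.trans hPO), hxg, ?_⟩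
    have h0 : rs M (X.basicOpen_le g) (p.app V z) = 0 := by
      rw [← app_rs, hzy, Scheme.Modules.Hom.app_smul, app_rs, hps, rs, map_zero, smul_zero]
    obtain ⟨m, hm⟩ := exists_pow_smul_eq_zero hM hV g _ h0
    have hgz : g ^ m • z = 0 := hk _ (Submodule.smul_mem _ _ (hTk hz)) (by
      show p.app V (g ^ m • z) = 0
      rw [Scheme.Modules.Hom.app_smul]; exact hm)
    have h2 := congrArg (rs G (X.basicOpen_le g)) hgz
    rw [rs_smul, hzy, ← mul_smul, rf, map_pow, ← pow_add, show rs G (X.basicOpen_le g) 0 = 0 from map_zero _] at h2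
    exact (((isUnit_rf_basicOpen g).pow (m + n)).smul_eq_zero).1 h2

theorem exists_good_top [IsLocallyNoetherian X] (hG : Coh.IsQCoh G) (hM : Coh.IsQCoh M)
    (p : G ⟶ M) {U : X.Opens} {N₀ : SubMod G} (h₀ : FTOn N₀ U) (hg₀ : GoodOn p N₀ U) :
    ∃ N : SubMod G, FTOn N ⊤ ∧ GoodOn p N ⊤ ∧ ∀ O, O ≤ U → N.mem O = N₀.mem O := by
  let S := {q : X.Opens × SubMod G // U ≤ q.1 ∧ FTOn q.2 q.1 ∧ GoodOn p q.2 q.1 ∧
    ∀ O, O ≤ U → q.2.mem O = N₀.mem O}
  let R : S → S → Prop := fun a b =>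
    a.1.1 ≤ b.1.1 ∧ ∀ O, O ≤ a.1.1 → b.1.2.mem O = a.1.2.mem O
  obtain ⟨m, hm⟩ : ∃ m : S, ∀ a, R m a → R a m := by
    refine exists_maximal_of_chains_bounded (r := R) (fun c hc => ?_)
      (fun {a b c} hab hbc => ⟨hab.1.trans hbc.1, fun O hO =>
        (hbc.2 O (hO.trans hab.1)).trans (hab.2 O hO)⟩)
    rcases c.eq_empty_or_nonempty with rfl | ⟨a₀, ha₀⟩
    · exact ⟨⟨(U, N₀), le_rfl, h₀, hg₀, fun _ _ => rfl⟩, fun a ha => (Set.notMem_empty a ha).elim⟩
    have : Nonempty c := ⟨⟨a₀, ha₀⟩⟩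
    obtain ⟨N', hN', hft⟩ := exists_glue (G := G) (fun a : c => a.1.1.1) (fun a => a.1.1.2)
      (fun a => a.1.2.2.1) (fun a b => by
        by_cases hab : a = b
        · subst hab; exact .inl ⟨le_rfl, fun _ _ => rfl⟩
        · exact hc a.2 b.2 fun h => hab (Subtype.ext h))
    refine ⟨⟨(⨆ a : c, a.1.1.1, N'), a₀.2.1.trans (le_iSup (fun a : c => a.1.1.1) ⟨a₀, ha₀⟩), hft,
      fun O hO s hs hps => eq_zero_of_locally O s fun x hx => ?_,
      fun O hO => (hN' ⟨a₀, ha₀⟩ O (hO.trans a₀.2.1)).trans (a₀.2.2.2.2 O hO)⟩,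
      fun a ha => ⟨le_iSup (fun a : c => a.1.1.1) ⟨a, ha⟩, hN' ⟨a, ha⟩⟩⟩
    obtain ⟨a, ha⟩ := Opens.mem_iSup.1 (hO hx)
    refine ⟨O ⊓ a.1.1.1, homOfLE inf_le_left, ⟨hx, ha⟩, a.1.2.2.2.1 _ inf_le_right _
      (hN' a _ inf_le_right ▸ N'.map_mem inf_le_left hs) ?_⟩
    change p.app _ (rs G inf_le_left s) = 0
    rw [app_rs, hps, rs, map_zero]
  obtain ⟨⟨W, N⟩, hUW, hft, hgd, hag⟩ := m
  dsimp only at hUW hft hgd hag
  rcases eq_or_ne W ⊤ with rfl | hW
  · exact ⟨N, hft, hgd, hag⟩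
  obtain ⟨x, hx⟩ := exists_notMem_of_ne_top hW
  obtain ⟨V, hV, hxV⟩ := exists_affine_mem x
  haveI : IsNoetherianRing Γ(X, V) := IsLocallyNoetherian.component_noetherian ⟨V, hV⟩
  have hVW : IsCompact ((V ⊓ W : X.Opens) : Set X) := by
    haveI : NoetherianSpace (V : Set X) := noetherianSpace_of_isAffineOpen V hV
    exact isCompact_inf_of_noetherian inferInstance le_rfl
  obtain ⟨N', hN', hft'⟩ := exists_ft_step hG hft hV hVW
  obtain ⟨N'', hN'', hft'', hgd''⟩ := exists_good_step hG hM p hV hft' (fun O hO s hs =>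
    hgd O hO s (hN' O hO ▸ hs))
  have heq : ∀ O, O ≤ W → N''.mem O = N.mem O := fun O hO => (hN'' O hO).trans (hN' O hO)
  have := hm ⟨(W ⊔ V, N''), hUW.trans le_sup_left, hft'', hgd'',
    fun O hO => (heq O (hO.trans hUW)).trans (hag O hO)⟩ ⟨le_sup_left, heq⟩
  exact absurd (this.1 (Or.inr hxV)) hx

/-- A morphism on an open extends to a coherent submodule of the source agreeing there with it. -/
theorem exists_extend_hom [IsLocallyNoetherian X] (A B : X.Modules) (hA : Coh.IsCoh A)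
    (hB : Coh.IsQCoh B) (U : X.Opens)
    (φ : (Scheme.Modules.restrictFunctor U.ι).obj A ⟶ (Scheme.Modules.restrictFunctor U.ι).obj B) :
    ∃ (A' : X.Modules) (ι : A' ⟶ A) (φ' : A' ⟶ B), Mono ι ∧ Coh.IsCoh A' ∧
      IsIso ((Scheme.Modules.restrictFunctor U.ι).map ι) ∧
      (Scheme.Modules.restrictFunctor U.ι).map φ' =
        (Scheme.Modules.restrictFunctor U.ι).map ι ≫ φ := by
  haveI := hasFiniteBiproducts X
  haveI : HasBinaryBiproducts X.Modules := hasBinaryBiproducts_of_finite_biproducts _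
  let rF := Scheme.Modules.restrictFunctor U.ι
  let G := A ⊞ B
  have hG : Coh.IsQCoh G := isQCoh_X₂
    (ShortComplex.Splitting.ofHasBinaryBiproduct A B).shortExact hA.1 hB
  let i : rF.obj A ⟶ G.restrict U.ι := rF.map biprod.inl + φ ≫ rF.map biprod.inr
  have hi1 : i ≫ rF.map (biprod.fst : G ⟶ A) = 𝟙 _ := by
    simp only [i, Preadditive.add_comp, Category.assoc, ← Functor.map_comp, biprod.inl_fst,
      biprod.inr_fst, CategoryTheory.Functor.map_id, Functor.map_zero, comp_zero, add_zero]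
  have hi2 : i ≫ rF.map (biprod.snd : G ⟶ B) = φ := by
    simp only [i, Preadditive.add_comp, Category.assoc, ← Functor.map_comp, biprod.inl_snd,
      biprod.inr_snd, CategoryTheory.Functor.map_id, Functor.map_zero, zero_add]
    exact Category.comp_id φ
  haveI : Mono i := mono_of_mono_fac hi1
  have h₀ : Coh.IsCoh (A.restrict U.ι) := isCoh_restrict_open hA
  have hgood : GoodOn (biprod.fst : G ⟶ A) (extSub i) U := fun O hO s hs hps => by
    obtain ⟨g, hg⟩ := (mem_extSub_iff i s).1 hs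
    have h1 : (biprod.fst : G ⟶ A).app _ (secAmb i _ g) = 0 := by
      rw [hg, app_rs, hps, rs, map_zero]
    have h2 : g = 0 :=
      (congr(($hi1).app (U.ι ⁻¹ᵁ O) g) : _).symm.trans h1
    have h3 : O ≤ U.ι ''ᵁ (U.ι ⁻¹ᵁ O) := fun x hx => ⟨⟨x, hO hx⟩, hx, rfl⟩
    rw [h2, secAmb, map_zero, map_zero] at hg
    have := congrArg (rs G h3) hg
    rwa [rs_rs, rs_self, rs, map_zero, eq_comm] at this
  obtain ⟨N, hN, hgd, hag⟩ := exists_good_top hG hA.1 (biprod.fst : G ⟶ A)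
    (ftOn_extSub i h₀.1 h₀.2) hgood
  obtain ⟨e, he⟩ := exists_restrict_iso i hag
  haveI : Mono (N.ι ≫ (biprod.fst : G ⟶ A)) := mono_of_app_injective _ fun O a b hab => by
    refine N.ι_app_injective O (sub_eq_zero.1 ?_)
    refine hgd O le_top _ (sub_mem (N.ι_app_mem O a) (N.ι_app_mem O b)) ?_
    rw [map_sub, sub_eq_zero]
    exact hab
  refine ⟨N.toModules, N.ι ≫ (biprod.fst : G ⟶ A), N.ι ≫ (biprod.snd : G ⟶ B), inferInstance,
    ⟨isQCoh_of_ftOn hG hN, isFT_of_ftOn hG hN⟩, ?_, ?_⟩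
  · rw [Functor.map_comp, ← he, Category.assoc, hi1, Category.comp_id]
    infer_instance
  · rw [Functor.map_comp, Functor.map_comp, ← he, Category.assoc, Category.assoc, Category.assoc]
    exact congrArg (e.hom ≫ ·) (hi2.trans ((Category.id_comp φ).symm.trans
      ((congrArg (· ≫ φ) hi1.symm).trans (Category.assoc _ _ _))))

end Groth.Agent.CohCore23
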