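import Groth.Agent.AmpleVan.AdicMod
import Groth.Agent.FFun.Main
import Groth.Agent.S0002
import Groth.Agent.VarBase.AmpleComp
import Groth.Agent.VarBase.Restrict
import Groth.Agent.InvX.Tensor
import Groth.Agent.ZClosLib.CohDescent

/-!
# Ampleness on the closed fibre: vanishing and ampleness over a local base
-/

set_option autoImplicit false
set_option linter.style.haveILetI false
set_option backward.isDefEq.respectTransparency false
set_option backward.isDefEq.respectTransparency.types false
set_option maxHeartbeats 1000000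

universe u

open CategoryTheory CategoryTheory.Limits AlgebraicGeometry TopologicalSpace Opposite

noncomputable section

namespace Groth.Agent.CohCore23.FibAmp

open Groth.Agent

variable {A : Type u} [CommRing A] {X : Scheme.{u}} (f : X ⟶ Spec (CommRingCat.of A)) (J : Ideal A)

/-- The adic system of thickenings of a scheme over `A`. -/
def thickSys : AmpleVan.AdicSys A J where
  X := CohB1.thick f J
  p := CohB1.thickToBase f J
  i := CohB1.thickTrans f J
  cart k := by
    have hfst : CohB1.thickTrans f J k ≫ pullback.fst f (CohB1.specQuot J (k + 1)) =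
        pullback.fst f (CohB1.specQuot J k) := by
      refine (pullback.lift_fst _ _ _).trans ?_
      exact Category.comp_id _
    have hsnd : CohB1.thickTrans f J k ≫ pullback.snd f (CohB1.specQuot J (k + 1)) =
        pullback.snd f (CohB1.specQuot J k) ≫ CohB1.specQuotTrans J k := pullback.lift_snd _ _ _
    refine IsPullback.of_right ?_ hsnd (IsPullback.of_hasPullback f (CohB1.specQuot J (k + 1)))
    rw [hfst, CohB1.specQuotTrans_specQuot]
    exact IsPullback.of_hasPullback f (CohB1.specQuot J k)

variable [X.Over (Spec (CommRingCat.of A))] [IsProper (X ↘ Spec (CommRingCat.of A))]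

theorem modPow_iso_push (k : ℕ) {N : X.Modules} (hN : Coh.IsQCoh N) :
    Nonempty (Formal.modPow J (k + 1) N ≅ (Scheme.Modules.pushforward
      (CohB1.thickι (X ↘ Spec (CommRingCat.of A)) J k)).obj
        ((Scheme.Modules.pullback (CohB1.thickι (X ↘ Spec (CommRingCat.of A)) J k)).obj N)) := by
  haveI : IsClosedImmersion (CohB1.specQuot J k) :=
    IsClosedImmersion.spec_of_surjective _ Ideal.Quotient.mk_surjective
  haveI : IsClosedImmersion (CohB1.thickι (X ↘ Spec (CommRingCat.of A)) J k) :=
    MorphismProperty.pullback_fst (P := @IsClosedImmersion) _ _ inferInstance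
  obtain ⟨h, hiso⟩ := AmpleVan.unit_desc_iso (J := J ^ (k + 1))
    (IsPullback.of_hasPullback (X ↘ Spec (CommRingCat.of A)) (CohB1.specQuot J k)) hN
  haveI := hiso
  exact ⟨asIso (cokernel.desc _ _ h)⟩

/-- If `L` is ample on `X ⊗ A/J`, high twists of coherent modules have no cohomology modulo powers of `J`. -/
theorem exists_vanishing_modPow [IsNoetherianRing A] {L : X.Modules} (hL : PicF.IsInvertible L)
    (ha : CohB1.IsAmple ((Scheme.Modules.pullback (CohB1.thickι (X ↘ Spec (CommRingCat.of A)) J 0)).obj L))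
    {M : X.Modules} (hM : Coh.IsCoh M) :
    ∃ n₀, ∀ n, n₀ ≤ n → ∀ k q,
      Subsingleton (Formal.HHmodPow J (CohB1.tensorMod M (CohB1.tensorPow L n)) (q + 1) k) := by
  let π := X ↘ Spec (CommRingCat.of A)
  let S := thickSys π J
  have hp : IsProper (S.p 0) :=
    MorphismProperty.pullback_snd (P := @IsProper) π (CohB1.specQuot J 0) inferInstance
  haveI : IsLocallyNoetherian X := LocallyOfFiniteType.isLocallyNoetherian π
  have hP : ∀ k (N : X.Modules), Coh.IsCoh N → Coh.IsCoh
      ((Scheme.Modules.pullback (CohB1.thickι π J k)).obj N) := fun k N hN => by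
    haveI : IsLocallyNoetherian (CohB1.thick π J k) := S.isLocallyNoetherian hp k
    exact ZClosLib.isCoh_pullback _ hN
  have htr : ∀ k, CohB1.thickTrans π J k ≫ CohB1.thickι π J (k + 1) = CohB1.thickι π J k :=
    fun k => (pullback.lift_fst _ _ _).trans (Category.comp_id _)
  let Φ := fun k => Scheme.Modules.pullback (CohB1.thickι π J k)
  let e : ∀ k (N : X.Modules),
      (Scheme.Modules.pullback (S.i k)).obj ((Φ (k + 1)).obj N) ≅ (Φ k).obj N := fun k N =>
    (Scheme.Modules.pullbackComp (CohB1.thickTrans π J k) (CohB1.thickι π J (k + 1))).app N ≪≫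
      (Scheme.Modules.pullbackCongr (htr k)).app N
  let T : AmpleVan.AdicMod S :=
    ⟨fun k => (Φ k).obj M, fun k => hP k M hM, fun k => e k M, fun k => S.isLocallyNoetherian hp k⟩
  obtain ⟨n₀, hn₀⟩ := T.exists_vanishing hp (fun k => (Φ k).obj L)
    (fun k => PicClLib.isInvertible_pullback _ hL) (fun k => ⟨e k L⟩) ha
  refine ⟨n₀, fun n hn k q => ?_⟩
  let N := CohB1.tensorMod M (CohB1.tensorPow L n)
  have hNq : Coh.IsQCoh N :=
    (AmpleVan.isCoh_tensor hM (AmpleVan.isCoh_invertible (InvX.isInvertible_tensorPow hL n))).1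
  obtain ⟨e₁⟩ := modPow_iso_push J k hNq
  haveI : IsClosedImmersion (CohB1.specQuot J k) :=
    IsClosedImmersion.spec_of_surjective _ Ideal.Quotient.mk_surjective
  haveI : IsClosedImmersion (CohB1.thickι π J k) :=
    MorphismProperty.pullback_fst (P := @IsClosedImmersion) _ _ inferInstance
  obtain ⟨ee⟩ := QCoh.HH_push_of_isAffineHom (CohB1.thickι π J k) (QCoh.isQCoh_pullback _ hNq) (q + 1)
  obtain ⟨t⟩ := VarBase.nonempty_pullback_tensorPow (CohB1.thickι π J k) L n
  let e₂ : (Φ k).obj N ≅ CohB1.tensorMod (T.F k) (CohB1.tensorPow ((Φ k).obj L) n) :=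
    ((KFlatLib.pullTensorBiIso (CohB1.thickι π J k)).app M).app (CohB1.tensorPow L n) ≪≫
      PicGrp.tensorModIso (Iso.refl _) t
  haveI : Subsingleton (Coh.HH _ ((Φ k).obj N) (q + 1)) :=
    QCoh.subsingleton_HH_of_iso e₂.symm _ (hn₀ n hn k q).1
  exact QCoh.subsingleton_HH_of_iso e₁.symm _ ee.symm.toEquiv.subsingleton

/-- If `L` is ample on the closed fibre of a proper scheme over a local ring, high twists are acyclic. -/
theorem exists_vanishing_local [IsNoetherianRing A] [IsLocalRing A] {L : X.Modules} (hL : PicF.IsInvertible L)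
    (ha : CohB1.IsAmple ((Scheme.Modules.pullback
      (CohB1.thickι (X ↘ Spec (CommRingCat.of A)) (IsLocalRing.maximalIdeal A) 0)).obj L))
    {M : X.Modules} (hM : Coh.IsCoh M) :
    ∃ n₀, ∀ n, n₀ ≤ n → ∀ q, Subsingleton (Coh.HH X (CohB1.tensorMod M (CohB1.tensorPow L n)) (q + 1)) := by
  let π := X ↘ Spec (CommRingCat.of A)
  haveI : CompactSpace X := QuasiCompact.compactSpace_of_compactSpace π
  haveI : IsLocallyNoetherian X := LocallyOfFiniteType.isLocallyNoetherian π
  haveI : IsNoetherian X := { __ := ‹IsLocallyNoetherian X›, __ := ‹CompactSpace X› }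
  let I := IsLocalRing.maximalIdeal A
  obtain ⟨n₀, hn₀⟩ := exists_vanishing_modPow I hL ha hM
  refine ⟨n₀, fun n hn q => ?_⟩
  let N := CohB1.tensorMod M (CohB1.tensorPow L n)
  have hN : Coh.IsCoh N :=
    AmpleVan.isCoh_tensor hM (AmpleVan.isCoh_invertible (InvX.isInvertible_tensorPow hL n))
  have hG := FFun.good_of_finite (X := X) (Z := Set.univ) (fun K hK q => S0002.result A X K hK.1 q) I
  haveI := S0002.result A X N hN (q + 1)
  haveI := fun k => hn₀ n hn k q
  haveI : Subsingleton (AdicCompletion I (Coh.HH X N (q + 1))) := by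
    refine ⟨fun a b => (FFun.compΦ_bijective (p := q + 1) hG (FFun.inCls_univ hN)).1 ?_⟩
    exact Subtype.ext (funext fun k => (hn₀ n hn k q).elim _ _)
  haveI : IsHausdorff I (Coh.HH X N (q + 1)) :=
    IsHausdorff.of_le_jacobson _ _ (IsLocalRing.maximalIdeal_le_jacobson _)
  exact ⟨fun x y => AdicCompletion.of_injective I (Coh.HH X N (q + 1)) (Subsingleton.elim _ _)⟩

/-- If `L` is ample on the closed fibre of a proper scheme over a local ring, it is ample. -/
theorem isAmple_of_closedFibre [IsNoetherianRing A] [IsLocalRing A] {L : X.Modules} (hL : PicF.IsInvertible L)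
    (ha : CohB1.IsAmple ((Scheme.Modules.pullback
      (CohB1.thickι (X ↘ Spec (CommRingCat.of A)) (IsLocalRing.maximalIdeal A) 0)).obj L)) :
    CohB1.IsAmple L := by
  haveI := VarBase.isNoetherian_of_proper' A (X := X)
  refine AmpleVan.isAmple_of_HH_one hL fun Z _ => ?_
  obtain ⟨N, hN⟩ := exists_vanishing_local hL ha (QCoh.isCoh_of_mono (QCoh.vanIdeal Z).ι
    QCoh.isCoh_structureModule' (QCoh.isQCoh_vanIdeal Z))
  exact ⟨N, hN (N + 1) (Nat.le_succ N) 0⟩

end Groth.Agent.CohCore23.FibAmp
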