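import Groth.Agent.CohCore23.FibreAmple
import Groth.Agent.CohCore23.AmpleSpread
import Groth.Agent.AmpleVan.SpreadFibre
import Groth.Agent.QCoh.RpushStalk
import Groth.Agent.QCoh.RpushAbGod
import Groth.Agent.KFlatLib.Scheme.RpushQCoh

/-!
# A module ample on a fibre: neighbourhoods and vanishing of higher direct images
-/

set_option autoImplicit false
set_option linter.style.haveILetI false
set_option backward.isDefEq.respectTransparency false
set_option backward.isDefEq.respectTransparency.types false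
set_option maxHeartbeats 1000000

universe u

open CategoryTheory CategoryTheory.Limits AlgebraicGeometry TopologicalSpace Opposite

noncomputable section

namespace Groth.Agent.CohCore23.FibAmp

open Groth.Agent

/-- Ampleness on a closed fibre given by any cartesian square. -/
theorem isAmple_thick_of_sq {A : Type u} [CommRing A] [IsLocalRing A] {X₁ : Scheme.{u}}
    [X₁.Over (Spec (CommRingCat.of A))] [IsProper (X₁ ↘ Spec (CommRingCat.of A))] {Z : Scheme.{u}} {i : Z ⟶ X₁}
    {q : Z ⟶ Spec (CommRingCat.of (A ⧸ IsLocalRing.maximalIdeal A))}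
    (sq : IsPullback i q (X₁ ↘ Spec (CommRingCat.of A))
      (Spec.map (CommRingCat.ofHom (Ideal.Quotient.mk (IsLocalRing.maximalIdeal A)))))
    {L : X₁.Modules} (ha : CohB1.IsAmple ((Scheme.Modules.pullback i).obj L)) :
    CohB1.IsAmple ((Scheme.Modules.pullback
      (CohB1.thickι (X₁ ↘ Spec (CommRingCat.of A)) (IsLocalRing.maximalIdeal A) 0)).obj L) := by
  let π := X₁ ↘ Spec (CommRingCat.of A)
  let m := IsLocalRing.maximalIdeal A
  let δ : A ⧸ m →+* A ⧸ m ^ (0 + 1) := Ideal.Quotient.factor (by rw [zero_add, pow_one])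
  have hδ : Spec.map (CommRingCat.ofHom δ) ≫ Spec.map (CommRingCat.ofHom (Ideal.Quotient.mk m)) =
      CohB1.specQuot m 0 := by
    rw [← Spec.map_comp, ← CommRingCat.ofHom_comp]
    rfl
  let k := CohB1.thickι π m 0
  let φ : CohB1.thick π m 0 ⟶ Z := sq.lift k (pullback.snd π (CohB1.specQuot m 0) ≫ Spec.map (CommRingCat.ofHom δ))
    (by rw [Category.assoc, hδ]; exact pullback.condition)
  have hφ : φ ≫ i = k := sq.lift_fst _ _ _
  haveI : IsClosedImmersion (CohB1.specQuot m 0) :=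
    IsClosedImmersion.spec_of_surjective _ Ideal.Quotient.mk_surjective
  haveI : IsClosedImmersion k := MorphismProperty.pullback_fst (P := @IsClosedImmersion) _ _ inferInstance
  haveI : IsClosedImmersion i := MorphismProperty.of_isPullback (P := @IsClosedImmersion) sq.flip
    (IsClosedImmersion.spec_of_surjective _ Ideal.Quotient.mk_surjective)
  haveI : IsClosedImmersion (φ ≫ i) := by rw [hφ]; infer_instance
  haveI : IsClosedImmersion φ := IsClosedImmersion.of_comp_isClosedImmersion _ i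
  haveI : CompactSpace X₁ := QuasiCompact.compactSpace_of_compactSpace π
  haveI : CompactSpace (CohB1.thick π m 0) := k.isClosedEmbedding.compactSpace
  exact AmpleX.isAmple_of_iso ((Scheme.Modules.pullbackComp φ i).app L ≪≫
    (Scheme.Modules.pullbackCongr hφ).app L)
    (AmpleVan.isAmple_pullback_of_isEmbedding φ φ.isClosedEmbedding.isEmbedding ha)

variable {X Y : Scheme.{u}} (f : X ⟶ Y) [IsProper f] [IsLocallyNoetherian Y] {L : X.Modules} (y : Y)
  (hy : CohB1.IsAmple ((Scheme.Modules.pullback (f.fiberι y)).obj L))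
  (X₁ : Scheme.{u}) [X₁.Over (Spec (CommRingCat.of (Y.presheaf.stalk y)))] (g : X₁ ⟶ X)
  (hsq : IsPullback g (X₁ ↘ Spec (CommRingCat.of (Y.presheaf.stalk y))) f (Y.fromSpecStalk y))

include hy hsq in
theorem isAmple_thick_stalk :
    CohB1.IsAmple ((Scheme.Modules.pullback (CohB1.thickι (X₁ ↘ Spec (CommRingCat.of (Y.presheaf.stalk y)))
      (IsLocalRing.maximalIdeal (Y.presheaf.stalk y)) 0)).obj ((Scheme.Modules.pullback g).obj L)) := by
  let A := Y.presheaf.stalk y
  haveI : IsProper (X₁ ↘ Spec (CommRingCat.of A)) := MorphismProperty.of_isPullback hsq inferInstance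
  let t := Spec.map (CommRingCat.ofHom (Ideal.Quotient.mk (IsLocalRing.maximalIdeal A)))
  let q : f.fiber y ⟶ Spec (CommRingCat.of (A ⧸ IsLocalRing.maximalIdeal A)) := f.fiberToSpecResidueField y
  have hres : t ≫ Y.fromSpecStalk y = Y.fromSpecResidueField y := rfl
  have hbig : IsPullback (f.fiberι y) q f (t ≫ Y.fromSpecStalk y) := by
    rw [hres]
    exact IsPullback.of_hasPullback _ _
  let i₁ : f.fiber y ⟶ X₁ := hsq.lift (f.fiberι y) (q ≫ t) (by rw [Category.assoc]; exact hbig.w)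
  have hi : i₁ ≫ g = f.fiberι y := hsq.lift_fst _ _ _
  have sq₂ : IsPullback i₁ q (X₁ ↘ Spec (CommRingCat.of A)) t :=
    IsPullback.of_right (by rw [hi]; exact hbig) (hsq.lift_snd _ _ _) hsq
  exact isAmple_thick_of_sq sq₂ (AmpleX.isAmple_of_iso
    ((Scheme.Modules.pullbackComp i₁ g).app L ≪≫ (Scheme.Modules.pullbackCongr hi).app L).symm hy)

include hy in
/-- Twists by a module ample on the fibre over `y` have no higher direct images at `y`. -/
theorem exists_isZero_stalk_RpushAb (hL : PicF.IsInvertible L) {M : X.Modules} (hM : Coh.IsCoh M) :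
    ∃ d₀ : ℕ, ∀ d : ℕ, d₀ ≤ d → ∀ p : ℕ, 0 < p →
      IsZero (TopCat.Presheaf.stalk
        ((Coh.RpushAb f p).obj (Coh.toAb (CohB1.tensorMod M (CohB1.tensorPow L d)))).obj y) := by
  let A := Y.presheaf.stalk y
  let X₁ := pullback f (Y.fromSpecStalk y)
  letI : X₁.Over (Spec (CommRingCat.of A)) := ⟨pullback.snd f (Y.fromSpecStalk y)⟩
  let g : X₁ ⟶ X := pullback.fst f (Y.fromSpecStalk y)
  haveI : IsProper (X₁ ↘ Spec (CommRingCat.of A)) :=
    MorphismProperty.pullback_snd (P := @IsProper) f (Y.fromSpecStalk y) inferInstance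
  have hsq : IsPullback g (X₁ ↘ Spec (CommRingCat.of A)) f (Y.fromSpecStalk y) := IsPullback.of_hasPullback _ _
  haveI : IsLocallyNoetherian X := LocallyOfFiniteType.isLocallyNoetherian f
  haveI : IsLocallyNoetherian X₁ := LocallyOfFiniteType.isLocallyNoetherian (X₁ ↘ Spec (CommRingCat.of A))
  obtain ⟨d₀, hd₀⟩ := exists_vanishing_local (PicClLib.isInvertible_pullback g hL)
    (isAmple_thick_stalk f y hy X₁ g hsq) (ZClosLib.isCoh_pullback g hM)
  refine ⟨d₀, fun d hd p hp => ?_⟩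
  obtain ⟨q, rfl⟩ : ∃ q, p = q + 1 := ⟨p - 1, by omega⟩
  let N := CohB1.tensorMod M (CohB1.tensorPow L d)
  have hN : Coh.IsQCoh N :=
    (AmpleVan.isCoh_tensor hM (AmpleVan.isCoh_invertible (InvX.isInvertible_tensorPow hL d))).1
  haveI := KFlatLib.hasInjectiveResolutions_modules (X := X)
  obtain ⟨e₁⟩ := QCoh.nonempty_RpushAb_iso f N q
  obtain ⟨e₂⟩ := QCoh.nonempty_Rpush_iso f N q
  obtain ⟨t⟩ := VarBase.nonempty_pullback_tensorPow g L d
  haveI : Subsingleton (Coh.HH X₁ ((Scheme.Modules.pullback g).obj N) (q + 1)) :=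
    QCoh.subsingleton_HH_of_iso (((KFlatLib.pullTensorBiIso g).app M).app (CohB1.tensorPow L d) ≪≫
      PicGrp.tensorModIso (Iso.refl _) t).symm _ (hd₀ d hd q)
  obtain ⟨e₃⟩ := QCoh.nonempty_stalk_HH f hN y (q + 1) X₁ g hsq
  have hsub : Subsingleton ↑(((Coh.Rpush f (q + 1)).obj N).presheaf.stalk y) := e₃.toEquiv.subsingleton
  let eF : (Coh.RpushAb f (q + 1)).obj (Coh.toAb N) ≅ Coh.toAb ((Coh.Rpush f (q + 1)).obj N) :=
    e₁ ≪≫ (QCoh.toAbFunctor Y).mapIso e₂.symm
  refine IsZero.of_iso ?_ ((TopCat.Presheaf.stalkFunctor AddCommGrpCat y).mapIso ((sheafToPresheaf _ _).mapIso eF))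
  exact @AddCommGrpCat.isZero_of_subsingleton _ hsub

include hy in
/-- A module ample on the fibre over `y` is relatively ample near `y`. -/
theorem exists_isAmple_nhd (hL : PicF.IsInvertible L) :
    ∃ V : Y.Opens, y ∈ V ∧ ∀ W : Y.Opens, W ≤ V → IsAffineOpen W →
      CohB1.IsAmple (L.restrict (f ⁻¹ᵁ W).ι) := by
  obtain ⟨_, ⟨V, hV₀, rfl⟩, hyV, -⟩ :=
    Y.isBasis_affineOpens.exists_subset_of_mem_open (Set.mem_univ y) isOpen_univ
  have hV : IsAffineOpen V := hV₀
  let B := Γ(Y, V)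
  haveI : IsNoetherianRing B := IsLocallyNoetherian.component_noetherian ⟨V, hV⟩
  let U := f ⁻¹ᵁ V
  letI : (U : Scheme.{u}).Over (Spec (CommRingCat.of B)) := ⟨QCoh.overSpec f hV⟩
  let π := (U : Scheme.{u}) ↘ Spec (CommRingCat.of B)
  haveI : IsProper π := by
    show IsProper ((f ∣_ V) ≫ hV.isoSpec.hom)
    infer_instance
  haveI : IsLocallyNoetherian (U : Scheme.{u}) := LocallyOfFiniteType.isLocallyNoetherian π
  haveI : CompactSpace (U : Scheme.{u}) := QuasiCompact.compactSpace_of_compactSpace π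
  haveI : (U : Scheme.{u}).IsSeparated := AmpleVan.isSeparated_of_proper (A := B)
  let A := Y.presheaf.stalk y
  letI : Algebra B A := QCoh.stalkAlg hyV
  let p : Spec (CommRingCat.of B) := hV.primeIdealOf ⟨y, hyV⟩
  haveI : IsLocalization (hV.primeIdealOf ⟨y, hyV⟩).asIdeal.primeCompl A := QCoh.isLocalization_stalk' hV hyV
  let loc := Spec.map (CommRingCat.ofHom (algebraMap B A))
  have hloc : loc ≫ hV.fromSpec = Y.fromSpecStalk y := hV.fromSpecStalk_eq_fromSpecStalk hyV
  let X₁ := pullback π loc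
  letI : X₁.Over (Spec (CommRingCat.of A)) := ⟨pullback.snd π loc⟩
  haveI : IsProper (X₁ ↘ Spec (CommRingCat.of A)) := inferInstanceAs (IsProper (pullback.snd π loc))
  let g : X₁ ⟶ (U : Scheme.{u}) := pullback.fst π loc
  have hsq : IsPullback (g ≫ U.ι) (X₁ ↘ Spec (CommRingCat.of A)) f (Y.fromSpecStalk y) := by
    have h := (IsPullback.of_hasPullback π loc).paste_horiz (AmpleVan.isPullback_overSpec' f hV)
    rw [hloc] at h
    exact h
  have hLU : PicF.IsInvertible (L.restrict U.ι) := AmpleX.isInvertible_restrict U.ι hL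
  have hA₁ : CohB1.IsAmple ((Scheme.Modules.pullback g).obj (L.restrict U.ι)) :=
    AmpleX.isAmple_of_iso (((Scheme.Modules.pullbackComp g U.ι).app L).symm ≪≫
      (Scheme.Modules.pullback g).mapIso ((Scheme.Modules.restrictFunctorIsoPullback U.ι).app L).symm)
      (isAmple_of_closedFibre (PicClLib.isInvertible_pullback (g ≫ U.ι) hL)
        (isAmple_thick_stalk f y hy X₁ (g ≫ U.ι) hsq))
  obtain ⟨c, hpc, hc⟩ := AmpSpread.exists_isAmple_basicOpen (hV.primeIdealOf ⟨y, hyV⟩).asIdeal.primeCompl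
    (A := A) (g := g) (IsPullback.of_hasPullback π loc) hLU hA₁ p (fun r hr => by
      show r ∈ Set.range (PrimeSpectrum.comap (algebraMap B A))
      rw [PrimeSpectrum.localization_comap_range A (hV.primeIdealOf ⟨y, hyV⟩).asIdeal.primeCompl]
      refine Set.disjoint_left.2 fun b hb hbr => hb ?_
      exact ((PrimeSpectrum.le_iff_specializes r p).2 hr) hbr)
  let D := (π ⁻¹ᵁ PrimeSpectrum.basicOpen c : (U : Scheme.{u}).Opens)
  let j : D.toScheme ⟶ X := D.ι ≫ U.ι
  have hj : CohB1.IsAmple (L.restrict j) := AmpleX.isAmple_of_iso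
    ((Scheme.Modules.restrictFunctorComp D.ι U.ι).app L).symm hc
  have hrange : f ⁻¹ᵁ Y.basicOpen c ≤ j.opensRange := by
    intro x hx
    have hxU : x ∈ U := Y.basicOpen_le c hx
    refine ⟨⟨⟨x, hxU⟩, ?_⟩, rfl⟩
    show π ⟨x, hxU⟩ ∈ PrimeSpectrum.basicOpen c
    have he : hV.fromSpec (π ⟨x, hxU⟩) = f x :=
      congr($((AmpleVan.isPullback_overSpec' f hV).w) ⟨x, hxU⟩).symm
    rw [← hV.fromSpec_preimage_basicOpen]
    show hV.fromSpec (π ⟨x, hxU⟩) ∈ Y.basicOpen c
    rw [he]; exact hx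
  refine ⟨Y.basicOpen c, ?_, fun W hW hWa => AmpleX.isAmple_preimage_of_local hL hWa fun x hxW => ?_⟩
  · have h : p ∈ hV.fromSpec ⁻¹ᵁ Y.basicOpen c := by
      rw [hV.fromSpec_preimage_basicOpen]; exact hpc
    have h' : hV.fromSpec (hV.primeIdealOf ⟨y, hyV⟩) ∈ Y.basicOpen c := h
    rwa [hV.fromSpec_primeIdealOf] at h'
  obtain ⟨r, hr, hxr⟩ := hWa.exists_basicOpen_le (V := W) ⟨f x, hxW⟩ hxW
  have hle : f ⁻¹ᵁ Y.basicOpen r ≤ j ''ᵁ (⊤ : D.toScheme.Opens) := by
    rw [Scheme.Hom.image_top_eq_opensRange]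
    exact (f.preimage_mono (hr.trans hW)).trans hrange
  obtain ⟨m, hm, a, hxa, hle', ha⟩ :=
    AmpleX.exists_locus_le j hj (hle hxr) (U := f ⁻¹ᵁ Y.basicOpen r) hxr
  refine ⟨r, m, hm, AModX.res (CohB1.tensorPow L m) hle a, ?_⟩
  rw [AmpleX.locus_res, inf_eq_left.2 hle']
  exact ⟨hxa, ha⟩

end Groth.Agent.CohCore23.FibAmp
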