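import Groth.Agent.CExt24.Models
import Groth.Agent.CExt24.BCTheory
import Groth.Agent.FlatCxLib.Field

/-!
# The ranks of the cohomology of fibres do not change under base change
-/

set_option autoImplicit false
set_option backward.isDefEq.respectTransparency false
set_option backward.isDefEq.respectTransparency.types false
set_option linter.style.haveILetI false
set_option maxHeartbeats 1000000

universe u

open CategoryTheory CategoryTheory.Limits AlgebraicGeometry TopologicalSpace Opposite

noncomputable section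

namespace Groth.Agent.CohCore23

open Groth.Agent.QCoh (overSpec)

variable {X S X' S' : Scheme.{u}} {f : X ⟶ S} {g : S' ⟶ S} {f' : X' ⟶ S'} {g' : X' ⟶ X}
  {F₀ : X.Modules}

theorem evaluation_appLE {V : S.Opens} {V' : S'.Opens} (hle : V' ≤ g ⁻¹ᵁ V) (y : S') (hy : y ∈ V') :
    g.appLE V V' hle ≫ S'.evaluation V' y hy =
      S.evaluation V (g y) (hle hy) ≫ g.residueFieldMap y := by
  rw [Scheme.evaluation_naturality]
  show (g.app V ≫ S'.presheaf.map (homOfLE hle).op) ≫ _ = _
  rw [Category.assoc]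
  congr 1
  show S'.presheaf.map (homOfLE hle).op ≫ S'.presheaf.germ V' y hy ≫ S'.residue y = _
  rw [S'.presheaf.germ_res_assoc]
  rfl

/-- The rank of the cohomology of a fibre is invariant under base change. -/
theorem fiberRank_baseChange (hm : CExt24.HasModels f F₀) (h : IsPullback g' f' f g)
    (hF : Coh.IsQCoh F₀) (p : ℕ) (y : S') :
    CohIII.fiberRank f' ((Scheme.Modules.pullback g').obj F₀) p y = CohIII.fiberRank f F₀ p (g y) := by
  obtain ⟨V, hV, hyV, -⟩ := exists_isAffineOpen_mem_and_subset (x := g y) (U := ⊤) trivial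
  obtain ⟨V', hV', hyV', hle⟩ := exists_isAffineOpen_mem_and_subset (x := y) (U := g ⁻¹ᵁ V) hyV
  obtain ⟨P, -, hP⟩ := hm V hV
  have hle' : V' ≤ g ⁻¹ᵁ V := hle
  have hP' := hP.baseChange (g.appLE V V' hle').hom (CExt24.isPullback_over h hV hV' hle')
    (QCoh.isQCoh_restrict (f ⁻¹ᵁ V).ι hF)
    (CohPull.pullOnIso g' (f ⁻¹ᵁ V) (f' ⁻¹ᵁ V') (CExt24.preimage_le h.w hle') F₀)
  obtain ⟨e⟩ := CExt24.nonempty_fiberH_equiv f hV (hle' hyV') hF hP p
  obtain ⟨e'⟩ := CExt24.nonempty_fiberH_equiv f' hV' hyV' (QCoh.isQCoh_pullback g' hF) hP' p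
  show Module.finrank _ _ = Module.finrank _ _
  rw [e.finrank_eq, e'.finrank_eq]
  exact FlatCxLib.finrank_homology_bcCx_comp (g.residueFieldMap y).hom P _ _ _
    (congrArg CommRingCat.Hom.hom (evaluation_appLE hle' y hyV')) _

end Groth.Agent.CohCore23
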