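import Groth.Agent.QCoh.FlatBC
import Groth.Agent.QCoh.PushLin
import Groth.Agent.CExt24.EpsSmul

/-!
# Base change in cohomology along a finite projective algebra

No hypothesis on the scheme: sections over affine opens change base, and a dual basis of the algebra splits
the comparison of abelian sheaves.
-/

set_option autoImplicit false
set_option backward.isDefEq.respectTransparency false
set_option backward.isDefEq.respectTransparency.types false
set_option linter.style.haveILetI false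
set_option maxHeartbeats 1000000

universe u

open CategoryTheory CategoryTheory.Limits AlgebraicGeometry TopologicalSpace Opposite
open scoped TensorProduct

noncomputable section

namespace Groth.Agent.CohCore23

open Groth.Agent.QCoh (IsAffineBC smulAbHom secModule secLin modHH)

variable {X X' : Scheme.{u}} (φ : X' ⟶ X) {A B : Type u} [CommRing A] [CommRing B] [Algebra A B]
  (ρ : A →+* Coh.Γtop X) (ρ' : B →+* Coh.Γtop X') (hρ : ∀ a, ρ' (algebraMap A B a) = φ.appTop (ρ a))
  {M : X.Modules} {M' : X'.Modules} (η : M ⟶ (Scheme.Modules.pushforward φ).obj M')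

/-- `η` followed by the multiplication by `b`. -/
def twisted (b : B) : Coh.toAb M ⟶ (CohTop.push φ.base).obj (Coh.toAb M') :=
  (SheafOfModules.toSheaf X.ringCatSheaf).map η ≫ (CohTop.push φ.base).map (smulAbHom M' (ρ' b))

/-- `twisted` on sections. -/
def tw (b : B) (V : X.Opens) (m : Γ(M, V)) : Γ(M', φ ⁻¹ᵁ V) :=
  (twisted φ ρ' η b).hom.app (op V) m

theorem twisted_app (b : B) (V : X.Opens) (m : Γ(M, V)) :
    tw φ ρ' η b V m =
      X'.presheaf.map (homOfLE (le_top : φ ⁻¹ᵁ V ≤ ⊤)).op (ρ' b) • (show Γ(M', φ ⁻¹ᵁ V) from η.app V m) := rfl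

theorem tw_res {V W : X.Opens} (i : W ⟶ V) (b : B) (m : Γ(M, V)) :
    M'.presheaf.map ((Opens.map φ.base).map i).op (tw φ ρ' η b V m) = tw φ ρ' η b W (M.presheaf.map i.op m) :=
  (ConcreteCategory.congr_hom ((twisted φ ρ' η b).hom.naturality i.op) m).symm

/-- A natural family on affine opens, extended to the sheaves. -/
theorem exists_hom_of_affine {G G' : Sheaf (Opens.grothendieckTopology X) AddCommGrpCat.{u}}
    (β : ∀ V : X.affineOpens, G'.obj.obj (op V.1) →+ G.obj.obj (op V.1))
    (hβ : ∀ (V W : X.affineOpens) (i : W.1 ⟶ V.1) (z : G'.obj.obj (op V.1)),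
      G.obj.map i.op (β V z) = β W (G'.obj.map i.op z)) :
    ∃ ψ : G' ⟶ G, ∀ (V : X.affineOpens) z, ψ.hom.app (op V.1) z = β V z := by
  have hb : Opens.IsBasis (Set.range fun V : X.affineOpens => V.1) := by
    simpa only [Subtype.range_coe] using X.isBasis_affineOpens
  let α : (inducedFunctor fun V : X.affineOpens => V.1).op ⋙ G'.obj ⟶
      (inducedFunctor fun V : X.affineOpens => V.1).op ⋙ G.obj :=
    { app := fun V => AddCommGrpCat.ofHom (β V.unop)
      naturality := fun V W i => AddCommGrpCat.ext fun z => (hβ V.unop W.unop i.unop.hom z).symm }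
  refine ⟨⟨TopCat.Sheaf.restrictHomEquivHom G'.obj G hb α⟩, fun V z => ?_⟩
  exact ConcreteCategory.congr_hom (TopCat.Sheaf.extend_hom_app G'.obj G hb α V) z

variable (hbc : IsAffineBC φ ρ ρ' hρ η)

include hbc in
theorem exists_pairing {V : X.Opens} (hV : IsAffineOpen V) :
    letI := secModule ρ M V
    ∃ e : B ⊗[A] Γ(M, V) ≃+ Γ(M', φ ⁻¹ᵁ V),
      ∀ b m, e (b ⊗ₜ m) = tw φ ρ' η b V m := by
  letI := secModule ρ M V
  letI := secModule ρ' M' (φ ⁻¹ᵁ V)
  letI := secModule (ρ'.comp (algebraMap A B)) M' (φ ⁻¹ᵁ V)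
  haveI : IsScalarTower A B Γ(M', φ ⁻¹ᵁ V) := .of_algebraMap_smul fun _ _ => rfl
  refine ⟨(hbc V hV).equiv.toAddEquiv, fun b m => ?_⟩
  refine ((hbc V hV).equiv_tmul b m).trans ?_
  show b • QCoh.secMap φ η (le_refl (φ ⁻¹ᵁ V)) m = _
  rw [twisted_app]
  refine congrArg (fun t : Γ(M', φ ⁻¹ᵁ V) => b • t) ?_
  show M'.presheaf.map (𝟙 _) (η.app V m) = η.app V m
  rw [CategoryTheory.Functor.map_id]
  rfl

include hρ in
theorem twisted_smul (a : A) (b : B) :
    twisted φ ρ' η (a • b) = smulAbHom M (ρ a) ≫ twisted φ ρ' η b := by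
  refine Sheaf.hom_ext (NatTrans.ext (funext fun U => AddCommGrpCat.ext fun m => ?_))
  obtain ⟨U⟩ := U
  refine (twisted_app φ ρ' η (a • b) U m).trans ?_
  show _ = tw φ ρ' η b U (X.presheaf.map (homOfLE (le_top : U ≤ ⊤)).op (ρ a) • (show Γ(M, U) from m))
  rw [twisted_app, η.app_smul, Algebra.smul_def, map_mul, hρ, map_mul]
  show _ = _ • ((φ.app U) (X.presheaf.map (homOfLE (le_top : U ≤ ⊤)).op (ρ a)) • (show Γ(M', φ ⁻¹ᵁ U) from η.app U m))
  rw [QCoh.app_topRes, ← mul_smul, mul_comm]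


include hbc in
theorem exists_split (l : B →ₗ[A] A) :
    ∃ ψ : (CohTop.push φ.base).obj (Coh.toAb M') ⟶ Coh.toAb M,
      ∀ b, twisted φ ρ' η b ≫ ψ = smulAbHom M (ρ (l b)) := by
  have he := fun V : X.affineOpens => exists_pairing φ ρ ρ' hρ η hbc V.2
  choose e he using he
  let β : ∀ V : X.affineOpens, Γ(M', φ ⁻¹ᵁ V.1) →+ Γ(M, V.1) := fun V =>
    letI := secModule ρ M V.1
    ((TensorProduct.lid A Γ(M, V.1)).toLinearMap ∘ₗ l.rTensor Γ(M, V.1)).toAddMonoidHom.comp (e V).symm.toAddMonoidHom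
  have hβ : ∀ V b m, β V (tw φ ρ' η b V.1 m) =
      X.presheaf.map (homOfLE (le_top : V.1 ≤ ⊤)).op (ρ (l b)) • m := fun V b m => by
    letI := secModule ρ M V.1
    show TensorProduct.lid A Γ(M, V.1) (l.rTensor Γ(M, V.1) ((e V).symm (tw φ ρ' η b V.1 m))) = _
    rw [← he V b m, AddEquiv.symm_apply_apply, LinearMap.rTensor_tmul, TensorProduct.lid_tmul]
    rfl
  obtain ⟨ψ, hψ⟩ := exists_hom_of_affine (G := Coh.toAb M) (G' := (CohTop.push φ.base).obj (Coh.toAb M')) β
    fun V W i z => by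
      show M.presheaf.map i.op (β V (show Γ(M', φ ⁻¹ᵁ V.1) from z)) =
        β W (M'.presheaf.map ((Opens.map φ.base).map i).op (show Γ(M', φ ⁻¹ᵁ V.1) from z))
      obtain ⟨t, ht⟩ := (e V).surjective (show Γ(M', φ ⁻¹ᵁ V.1) from z)
      rw [← ht]
      clear ht z
      letI := secModule ρ M V.1
      induction t using TensorProduct.induction_on with
      | zero => simp only [map_zero]
      | add x y hx hy => simp only [map_add, hx, hy]
      | tmul b m =>
        rw [he V b m, hβ V b m, tw_res, hβ W b]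
        exact ConcreteCategory.congr_hom ((smulAbHom M (ρ (l b))).hom.naturality i.op).symm m
  refine ⟨ψ, fun b => ?_⟩
  have hb : Opens.IsBasis (Set.range fun V : X.affineOpens => V.1) := by
    simpa only [Subtype.range_coe] using X.isBasis_affineOpens
  refine Sheaf.hom_ext (TopCat.Sheaf.hom_ext (Coh.toAb M).obj (Coh.toAb M) hb fun V => AddCommGrpCat.ext fun m => ?_)
  exact (hψ V _).trans (hβ V b m)

include hbc in
theorem hom_ext_twisted {G : Sheaf (Opens.grothendieckTopology X) AddCommGrpCat.{u}}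
    {a a' : (CohTop.push φ.base).obj (Coh.toAb M') ⟶ G}
    (h : ∀ b, twisted φ ρ' η b ≫ a = twisted φ ρ' η b ≫ a') : a = a' := by
  have hb : Opens.IsBasis (Set.range fun V : X.affineOpens => V.1) := by
    simpa only [Subtype.range_coe] using X.isBasis_affineOpens
  refine Sheaf.hom_ext (TopCat.Sheaf.hom_ext _ G hb fun V => AddCommGrpCat.ext fun z => ?_)
  obtain ⟨e, he⟩ := exists_pairing φ ρ ρ' hρ η hbc V.2
  letI := secModule ρ M V.1
  obtain ⟨t, rfl⟩ := e.surjective (z : Γ(M', φ ⁻¹ᵁ V.1))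
  induction t using TensorProduct.induction_on with
  | zero => exact ((congrArg _ (map_zero e)).trans (map_zero _)).trans ((congrArg _ (map_zero e)).trans (map_zero _)).symm
  | add x y hx hy =>
    exact ((congrArg _ (map_add e x y)).trans (map_add _ _ _)).trans ((congrArg₂ (· + ·) hx hy).trans
      ((congrArg _ (map_add e x y)).trans (map_add _ _ _)).symm)
  | tmul b m =>
    rw [he b m]
    exact ConcreteCategory.congr_hom (congr_app (congrArg (fun q => q.hom) (h b)) (op V.1)) m


theorem twisted_add (b c : B) :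
    twisted φ ρ' η (b + c) = twisted φ ρ' η b + twisted φ ρ' η c := by
  show _ ≫ (CohTop.push φ.base).map (smulAbHom M' (ρ' (b + c))) = _ ≫ _ + _ ≫ _
  rw [map_add ρ', map_add (smulAbHom M'), Functor.map_add, Preadditive.comp_add]

theorem map_sum_twisted {ι : Type} (s : Finset ι) (a : ι → B) :
    twisted φ ρ' η (∑ k ∈ s, a k) = ∑ k ∈ s, twisted φ ρ' η (a k) :=
  map_sum (AddMonoidHom.mk' (twisted φ ρ' η) (twisted_add φ ρ' η)) a s

theorem map_sum_H {G G' : Sheaf (Opens.grothendieckTopology X) AddCommGrpCat.{u}} {ι : Type}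
    (s : Finset ι) (a : ι → (G ⟶ G')) (p : ℕ) (x : Sheaf.H G p) :
    Sheaf.H.map (∑ k ∈ s, a k) p x = ∑ k ∈ s, Sheaf.H.map (a k) p x := by
  classical
  induction s using Finset.induction_on with
  | empty =>
    rw [Finset.sum_empty, Finset.sum_empty]
    have h := Sheaf.H.map_add_apply (0 : G ⟶ G') 0 x
    rw [add_zero] at h
    exact left_eq_add.1 h
  | insert k s hk ih => rw [Finset.sum_insert hk, Finset.sum_insert hk, Sheaf.H.map_add_apply, ih]

variable [IsAffineHom φ] [Module.Finite A B] [Module.Projective A B]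

include hρ hbc in
/-- Base change in cohomology along a finite projective algebra. -/
theorem HH_baseChange_finiteProjective (hM' : Coh.IsQCoh M') (i : ℕ) :
    letI := modHH ρ M i
    letI := modHH ρ' M' i
    Nonempty (B ⊗[A] Coh.HH X M i ≃ₗ[B] Coh.HH X' M' i) := by
  letI := modHH ρ M i
  letI := modHH ρ' M' i
  obtain ⟨n, f, g, -, -, hfg⟩ := Module.Finite.exists_comp_eq_id_of_projective A B
  let bk : Fin n → B := fun k => f (Pi.single k 1)
  let l : Fin n → B →ₗ[A] A := fun k => LinearMap.proj k ∘ₗ g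
  have hdual : ∀ b, ∑ k, l k b • bk k = b := fun b => by
    conv_rhs => rw [← LinearMap.id_apply (R := A) b, ← hfg, LinearMap.comp_apply, pi_eq_sum_univ' (g b)]
    simp only [map_sum, map_smul]
    rfl
  have hs : ∀ k, ∃ ψ : (CohTop.push φ.base).obj (Coh.toAb M') ⟶ Coh.toAb M,
      ∀ b, twisted φ ρ' η b ≫ ψ = smulAbHom M (ρ (l k b)) := fun k => exists_split φ ρ ρ' hρ η hbc (l k)
  choose ψ hψ using hs
  have htot : ∑ k, ψ k ≫ twisted φ ρ' η (bk k) = 𝟙 _ := hom_ext_twisted φ ρ ρ' hρ η hbc fun b => by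
    rw [Category.comp_id, Preadditive.comp_sum]
    conv_rhs => rw [← hdual b, map_sum_twisted]
    refine Finset.sum_congr rfl fun k _ => ?_
    rw [← Category.assoc, hψ, twisted_smul φ ρ ρ' hρ η]
  have hb : QCoh.Ab.PreimageBasis φ.base (QCoh.stdCovers X') := fun U y hy => by
    obtain ⟨_, ⟨W, hW, rfl⟩, hyW, hWU⟩ := X.isBasis_affineOpens.exists_subset_of_mem_open hy U.2
    exact ⟨W, hWU, hyW, hW.preimage φ⟩
  obtain ⟨E, hE⟩ := QCoh.Ab.H_push_natural φ.base (QCoh.stdCovers X') hb i
  have hac := QCoh.stdCovers_acyclic hM'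
  let e := E (QCoh.abSheaf M') hac
  let T : B → Coh.HH X M i → Coh.HH X' M' i := fun b x =>
    e.symm (Sheaf.H.map (twisted φ ρ' η b) i x)
  have hTb : ∀ (c b : B) x, c • T b x = T (c * b) x := fun c b x => by
    refine e.injective ((hE (QCoh.abSheaf M') (QCoh.abSheaf M') hac hac (smulAbHom M' (ρ' c)) _).trans ?_)
    show Sheaf.H.map _ i (e (e.symm _)) = e (e.symm _)
    rw [AddEquiv.apply_symm_apply, AddEquiv.apply_symm_apply]
    refine (Sheaf.H.map_comp_apply _ _ x).symm.trans (congrArg (fun a => Sheaf.H.map a i x) ?_)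
    show ((SheafOfModules.toSheaf X.ringCatSheaf).map η ≫ (CohTop.push φ.base).map (smulAbHom M' (ρ' b))) ≫
      (CohTop.push φ.base).map (smulAbHom M' (ρ' c)) = _ ≫ (CohTop.push φ.base).map (smulAbHom M' (ρ' (c * b)))
    rw [Category.assoc, ← Functor.map_comp, map_mul ρ', map_mul (smulAbHom M')]
    rfl
  have hTa : ∀ (a : A) b x, T (a • b) x = T b (a • x) := fun a b x => congrArg e.symm <| by
    rw [twisted_smul φ ρ ρ' hρ η]
    exact Sheaf.H.map_comp_apply _ _ x
  let T₂ : B →+ (Coh.HH X M i →+ Coh.HH X' M' i) := AddMonoidHom.mk'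
    (fun b => e.symm.toAddMonoidHom.comp (Sheaf.H.map (twisted φ ρ' η b) i))
    fun b c => AddMonoidHom.ext fun x => by
      show e.symm (Sheaf.H.map (twisted φ ρ' η (b + c)) i x) =
        e.symm (Sheaf.H.map (twisted φ ρ' η b) i x) + e.symm (Sheaf.H.map (twisted φ ρ' η c) i x)
      rw [twisted_add, Sheaf.H.map_add_apply]
      exact map_add e.symm _ _
  let Φ : B ⊗[A] Coh.HH X M i →+ Coh.HH X' M' i := TensorProduct.liftAddHom T₂ fun a b x => hTa a b x
  have hΦt : ∀ b x, Φ (b ⊗ₜ x) = T b x := fun b x => rfl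
  let Λ : Coh.HH X' M' i → B ⊗[A] Coh.HH X M i := fun y =>
    ∑ k, bk k ⊗ₜ[A] (show Coh.HH X M i from Sheaf.H.map (ψ k) i (e y))
  have hΛ : ∀ t, Λ (Φ t) = t := fun t => by
    induction t using TensorProduct.induction_on with
    | zero => simp [Λ]
    | tmul b x =>
      show ∑ k, bk k ⊗ₜ[A] _ = b ⊗ₜ x
      conv_rhs => rw [← hdual b, TensorProduct.sum_tmul]
      refine Finset.sum_congr rfl fun k _ => ?_
      rw [TensorProduct.smul_tmul]
      refine congrArg (fun z => bk k ⊗ₜ[A] z) ?_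
      show Sheaf.H.map (ψ k) i (e (e.symm _)) = _
      rw [AddEquiv.apply_symm_apply]
      refine (Sheaf.H.map_comp_apply _ _ x).symm.trans ?_
      rw [hψ]
      rfl
    | add a b ha hb =>
      have : Λ (Φ (a + b)) = Λ (Φ a) + Λ (Φ b) := by
        show ∑ k, _ = ∑ k, _ + ∑ k, _
        rw [← Finset.sum_add_distrib]
        refine Finset.sum_congr rfl fun k _ => ?_
        rw [map_add Φ, map_add e, map_add (Sheaf.H.map (ψ k) i), TensorProduct.tmul_add]
      rw [this, ha, hb]
  have hΦΛ : ∀ y, Φ (Λ y) = y := fun y => by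
    show Φ (∑ k, _) = y
    rw [map_sum]
    refine e.injective ?_
    rw [map_sum]
    refine Eq.trans ?_ ((congrArg (fun a => Sheaf.H.map a i (e y)) htot).trans (Sheaf.H.map_id_apply _))
    rw [map_sum_H]
    refine Finset.sum_congr rfl fun k _ => ?_
    rw [hΦt]
    refine (e.apply_symm_apply _).trans ?_
    exact (Sheaf.H.map_comp_apply _ _ _).symm
  refine ⟨LinearEquiv.ofBijective { toFun := Φ, map_add' := map_add Φ, map_smul' := fun c t => ?_ }
    ⟨Function.LeftInverse.injective hΛ, Function.RightInverse.surjective hΦΛ⟩⟩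
  show Φ (c • t) = c • Φ t
  induction t using TensorProduct.induction_on with
  | zero => simp
  | tmul b x => rw [TensorProduct.smul_tmul', hΦt, hΦt, hTb]; rfl
  | add a b ha hb => rw [smul_add, map_add, map_add, ha, hb, smul_add]

end Groth.Agent.CohCore23
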