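import Groth.Agent.KFlatLib.Scheme.AffineSections
import Groth.Agent.KFlatLib.Scheme.Pullback
import Groth.Prelude.Def_FlatMod2
import Mathlib.Algebra.Category.ModuleCat.Projective
import Mathlib.RingTheory.Flat.Basic

/-! # Sums of extensions by zero of structure sheaves of opens -/

set_option linter.style.haveILetI false
set_option backward.isDefEq.respectTransparency false

universe u

open CategoryTheory CategoryTheory.Limits AlgebraicGeometry Opposite TopologicalSpace

noncomputable section

namespace Groth.Agent.CohCore23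

open Groth.Agent KFlatLib

variable {X : Scheme.{u}}

theorem epi_desc_secObj (F : X.Modules) :
    Epi (Sigma.desc fun i : (Σ U : X.Opens, (secObj U ⟶ F)) => i.2) := by
  refine Preadditive.epi_of_cancel_zero _ fun {Z} g hg => ?_
  refine Scheme.Modules.hom_ext _ _ fun W => ?_
  ext s
  have key : ∀ (U W : X.Opens), U.ι ''ᵁ ⊤ = W → ∀ s : Γ(F, W), g.app W s = 0 := by
    rintro U _ rfl s
    let φ := (secEquiv U F).symm s
    have h : φ ≫ g = 0 := by
      have := Sigma.ι (fun i : (Σ U : X.Opens, (secObj U ⟶ F)) => secObj i.1) ⟨U, φ⟩ ≫= hg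
      rwa [← Category.assoc, Sigma.ι_desc, comp_zero] at this
    have h0 := secEquiv_naturality U φ g
    rw [h, Equiv.apply_symm_apply] at h0
    have h1 := secEquiv_naturality U φ (0 : F ⟶ Z)
    rw [comp_zero] at h1
    exact h0.symm.trans h1
  exact key W W W.ι_image_top s

theorem sky_app_surjective (x : X) {N N' : ModuleCat.{u} (X.presheaf.stalk x)} (g : N ⟶ N')
    (hg : Function.Surjective g) (U : X.Opens) : Function.Surjective (((sky x).map g).app U) := by
  intro t
  choose s hs using fun h : PLift (x ∈ U) => hg (t h)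
  exact ⟨s, funext fun h => hs h⟩

theorem projective_stalk_sigma_secObj {ι : Type u} (U : ι → X.Opens) (x : X) :
    Projective ((DerSch.stalkFunctor X x).obj (∐ fun i => secObj (U i))) where
  factors {N N'} φ g _ := by
    let adj := skyAdj x
    let ψ := adj.homEquiv _ _ φ
    choose t ht using fun i => sky_app_surjective x g ((ModuleCat.epi_iff_surjective g).1 inferInstance)
      ((U i).ι ''ᵁ ⊤) (secEquiv (U i) _ (Sigma.ι (fun i => secObj (U i)) i ≫ ψ))
    let L : (∐ fun i => secObj (U i)) ⟶ (sky x).obj N :=
      Sigma.desc fun i => (secEquiv (U i) _).symm (t i)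
    refine ⟨(adj.homEquiv _ _).symm L, (adj.homEquiv _ _).injective ?_⟩
    rw [adj.homEquiv_naturality_right, Equiv.apply_symm_apply]
    refine Sigma.hom_ext _ _ fun i => ?_
    refine (secEquiv (U i) _).injective ?_
    rw [Sigma.ι_desc_assoc, secEquiv_naturality, Equiv.apply_symm_apply]
    exact ht i

theorem isFlat_sigma_secObj {ι : Type u} (U : ι → X.Opens) :
    FlatMod.IsFlat (∐ fun i => secObj (U i)) := fun x => by
  haveI := projective_stalk_sigma_secObj U x
  haveI : Module.Projective (X.presheaf.stalk x)
      ((DerSch.stalkFunctor X x).obj (∐ fun i => secObj (U i)) : Type u) :=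
    (IsProjective.iff_projective _).2 this
  exact (Module.Flat.of_projective :
    Module.Flat (X.presheaf.stalk x)
      ((DerSch.stalkFunctor X x).obj (∐ fun i => secObj (U i)) : Type u))

theorem exists_epi_sigma_extZeroUnit (F : X.Modules) :
    ∃ (ι : Type u) (U : ι → X.Opens) (p : (∐ fun i => CxOX.extZeroUnit (U i).ι) ⟶ F),
      Epi p ∧ FlatMod.IsFlat (∐ fun i => CxOX.extZeroUnit (U i).ι) :=
  ⟨(Σ U : X.Opens, (secObj U ⟶ F)), fun i => i.1, Sigma.desc fun i => i.2, epi_desc_secObj F,
    isFlat_sigma_secObj _⟩

end Groth.Agent.CohCore23
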