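import Groth.Agent.CohCore23.SecBC
import Groth.Agent.QCoh.ClosedPush
import Groth.Agent.KFlatLib.Scheme.FlatDescent

/-! # Flat base change for direct images of quasi-coherent modules -/

set_option backward.isDefEq.respectTransparency false
set_option backward.isDefEq.respectTransparency.types false
set_option linter.style.haveILetI false

universe u

open CategoryTheory CategoryTheory.Limits AlgebraicGeometry TopologicalSpace Opposite
open scoped TensorProduct

noncomputable section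

namespace Groth.Agent.CohCore23.BC

open Groth.Agent.QCoh

variable {X Y X' Y' : Scheme.{u}} {f : X ⟶ Y} {g : Y' ⟶ Y} {g' : X' ⟶ X} {f' : X' ⟶ Y'}
  (H : IsPullback g' f' f g) {V : Y.Opens} {W : Y'.Opens} (e : W ≤ g ⁻¹ᵁ V)

include H e in
theorem le_up : f' ⁻¹ᵁ W ≤ g' ⁻¹ᵁ (f ⁻¹ᵁ V) := by
  rw [← Scheme.Hom.comp_preimage, H.w, Scheme.Hom.comp_preimage]
  exact f'.preimage_mono e

/-- The scalars downstairs. -/
abbrev scX (f : X ⟶ Y) (V : Y.Opens) : Γ(Y, V) →+* Γ(X, f ⁻¹ᵁ V) := (f.app V).hom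

theorem compat_square :
    letI := (g.appLE V W e).hom.toAlgebra
    Compat g' (le_up H e) (scX f V) (scX f' W) := fun a => by
  letI := (g.appLE V W e).hom.toAlgebra
  show g'.appLE (f ⁻¹ᵁ V) (f' ⁻¹ᵁ W) (le_up H e) (f.app V a) = f'.app W (g.appLE V W e a)
  rw [f.app_eq_appLE, f'.app_eq_appLE, ← CommRingCat.comp_apply, ← CommRingCat.comp_apply,
    Scheme.Hom.appLE_comp_appLE, Scheme.Hom.appLE_comp_appLE]
  simp only [H.w]

theorem affBC_square (hV : IsAffineOpen V) (hW : IsAffineOpen W) {M : X.Modules} (hM : Coh.IsQCoh M) :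
    letI := (g.appLE V W e).hom.toAlgebra
    AffBC M (compat_square H e) := by
  letI := (g.appLE V W e).hom.toAlgebra
  intro U hUV hU
  set U' := up g' (f' ⁻¹ᵁ W) U
  have hUY : U' = g' ⁻¹ᵁ U ⊓ f' ⁻¹ᵁ W := rfl
  have hU' : IsAffineOpen U' := by
    haveI : IsAffine _ := hV
    haveI : IsAffine _ := hW
    haveI : IsAffine _ := hU
    exact .of_isIso (Scheme.Hom.isPullback_resLE H e hUV hUY).isoPullback.hom
  have hpo := (isIso_pushoutSection_iff H e hUV hUY).1
    (isIso_pushoutSection_of_isAffineOpen H e hUV hUY hV hW hU)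
  letI : Algebra Γ(Y, V) Γ(X, U) := (f.appLE V U hUV).hom.toAlgebra
  letI : Algebra Γ(Y', W) Γ(X', U') := (f'.appLE W U' inf_le_right).hom.toAlgebra
  letI : Algebra Γ(X, U) Γ(X', U') := (g'.appLE U U' inf_le_left).hom.toAlgebra
  letI : Algebra Γ(Y, V) Γ(X', U') :=
    ((f'.appLE W U' inf_le_right).hom.comp (g.appLE V W e).hom).toAlgebra
  haveI : IsScalarTower Γ(Y, V) Γ(Y', W) Γ(X', U') := .of_algebraMap_eq fun _ => rfl
  haveI : IsScalarTower Γ(Y, V) Γ(X, U) Γ(X', U') := .of_algebraMap_eq fun a =>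
    (congr($(hpo.w) a)).symm
  haveI : Algebra.IsPushout Γ(Y, V) Γ(Y', W) Γ(X, U) Γ(X', U') := by
    rw [← CommRingCat.isPushout_iff_isPushout]
    exact hpo.flip
  let N := N g' (Q := f' ⁻¹ᵁ W) (scX f' W) M U
  letI : Module Γ(X', U') N :=
    secModule ((Scheme.Modules.pullback g').obj M) U' (sc (scX f' W) (inf_le_right : U' ≤ f' ⁻¹ᵁ W))
  letI : Module Γ(X, U) N := Module.compHom N (g'.appLE U U' inf_le_left).hom
  haveI : IsScalarTower Γ(X, U) Γ(X', U') N := .of_algebraMap_smul fun _ _ => rfl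
  let S' := S M (scX f V) U hUV
  letI : Module Γ(X, U) S' := secModule M U (sc (scX f V) hUV)
  haveI : IsScalarTower Γ(Y, V) Γ(X, U) S' := .of_algebraMap_smul fun a x => by
    show (f.appLE V U hUV a) • (show Γ(M, U) from x) = sc (scX f V) hUV a • (show Γ(M, U) from x)
    rfl
  haveI : IsScalarTower Γ(Y', W) Γ(X', U') N := .of_algebraMap_smul fun a x => by
    show (f'.appLE W U' inf_le_right a) • (show Γ((Scheme.Modules.pullback g').obj M, U') from x) =
      sc (scX f' W) (inf_le_right : U' ≤ f' ⁻¹ᵁ W) a • (show Γ((Scheme.Modules.pullback g').obj M, U') from x)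
    rfl
  let l : S' →ₗ[Γ(X, U)] N :=
    { toFun := fun x => pullSec g' M (inf_le_left : U' ≤ g' ⁻¹ᵁ U) (show Γ(M, U) from x)
      map_add' := pullSec_add g' M _
      map_smul' := fun r x => pullSec_smul g' M _ r (show Γ(M, U) from x) }
  letI : Module Γ(X, U) Γ((Scheme.Modules.pullback g').obj M, U') :=
    Module.compHom _ (g'.appLE U U' inf_le_left).hom
  haveI : IsScalarTower Γ(X, U) Γ(X', U') Γ((Scheme.Modules.pullback g').obj M, U') :=
    .of_algebraMap_smul fun _ _ => rfl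
  let l₀ : Γ(M, U) →ₗ[Γ(X, U)] Γ((Scheme.Modules.pullback g').obj M, U') :=
    { toFun := fun x => pullSec g' M (inf_le_left : U' ≤ g' ⁻¹ᵁ U) x
      map_add' := pullSec_add g' M _
      map_smul' := fun r x => pullSec_smul g' M _ r x }
  have hl : IsBaseChange Γ(X', U') l :=
    isBaseChange_pullback hU g' hU' hM inf_le_left (fun _ => rfl) l₀ fun _ => rfl
  have h := isBaseChange_of_isPushout (A := Γ(Y, V)) (B := Γ(Y', W)) (R := Γ(X, U)) (R' := Γ(X', U')) l hl (alpha M (compat_square H e) U hUV) fun _ => rfl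
  have heq : psi M (compat_square H e) U hUV = h.equiv.toLinearMap := by
    refine TensorProduct.AlgebraTensorModule.ext fun b x => ?_
    show LinearMap.liftBaseChange _ _ (b ⊗ₜ x) = h.equiv (b ⊗ₜ x)
    rw [LinearMap.liftBaseChange_tmul, IsBaseChange.equiv_tmul]
  rw [heq]
  exact h.equiv.bijective

theorem bc_app_pullSec {M : X.Modules} (β : (Scheme.Modules.pullback g).obj ((Scheme.Modules.pushforward f).obj M) ⟶
      (Scheme.Modules.pushforward f').obj ((Scheme.Modules.pullback g').obj M))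
    (hβ : β = ((Scheme.Modules.pullbackPushforwardAdjunction g).homEquiv _ _).symm
      ((Scheme.Modules.pushforward f).map ((Scheme.Modules.pullbackPushforwardAdjunction g').unit.app M) ≫
        (Scheme.Modules.pushforwardComp g' f).hom.app ((Scheme.Modules.pullback g').obj M) ≫
        (Scheme.Modules.pushforwardCongr H.w).hom.app ((Scheme.Modules.pullback g').obj M) ≫
        (Scheme.Modules.pushforwardComp f' g).inv.app ((Scheme.Modules.pullback g').obj M)))
    (m : Γ(M, f ⁻¹ᵁ V)) :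
    β.app W (pullSec g ((Scheme.Modules.pushforward f).obj M) e
      (show Γ((Scheme.Modules.pushforward f).obj M, V) from m)) =
      (show Γ((Scheme.Modules.pushforward f').obj ((Scheme.Modules.pullback g').obj M), W) from
        pullSec g' M (le_up H e) m) := by
  set adj := Scheme.Modules.pullbackPushforwardAdjunction g
  set α := (Scheme.Modules.pushforward f).map ((Scheme.Modules.pullbackPushforwardAdjunction g').unit.app M) ≫
    (Scheme.Modules.pushforwardComp g' f).hom.app ((Scheme.Modules.pullback g').obj M) ≫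
    (Scheme.Modules.pushforwardCongr H.w).hom.app ((Scheme.Modules.pullback g').obj M) ≫
    (Scheme.Modules.pushforwardComp f' g).inv.app ((Scheme.Modules.pullback g').obj M)
  have h1 : adj.unit.app _ ≫ (Scheme.Modules.pushforward g).map β = α :=
    (adj.homEquiv_unit _ _ β).symm.trans (hβ ▸ Equiv.apply_symm_apply _ α)
  have h2 := congrArg (fun t => Scheme.Modules.Hom.app t V (show Γ((Scheme.Modules.pushforward f).obj M, V) from m)) h1
  refine (map_app_comm β (homOfLE e) _).trans ?_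
  refine (congrArg _ h2).trans ?_
  let P := (Scheme.Modules.pullback g').obj M
  let z : Γ(P, g' ⁻¹ᵁ (f ⁻¹ᵁ V)) :=
    ((Scheme.Modules.pullbackPushforwardAdjunction g').unit.app M).app (f ⁻¹ᵁ V) m
  have he : g' ⁻¹ᵁ (f ⁻¹ᵁ V) = f' ⁻¹ᵁ (g ⁻¹ᵁ V) := by
    rw [← Scheme.Hom.comp_preimage, ← Scheme.Hom.comp_preimage, H.w]
  show P.presheaf.map (homOfLE (f'.preimage_mono e)).op (P.presheaf.map (eqToHom he.symm).op z) =
    P.presheaf.map (homOfLE (le_up H e)).op z
  exact map_map (homOfLE (f'.preimage_mono e)) (eqToHom he.symm) z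

/-- Flat base change for direct images. -/
theorem isIso_baseChangeMap [QuasiCompact f] [QuasiSeparated f] [Flat g] {M : X.Modules}
    (hM : Coh.IsQCoh M)
    (β : (Scheme.Modules.pullback g).obj ((Scheme.Modules.pushforward f).obj M) ⟶
      (Scheme.Modules.pushforward f').obj ((Scheme.Modules.pullback g').obj M))
    (hβ : β = ((Scheme.Modules.pullbackPushforwardAdjunction g).homEquiv _ _).symm
      ((Scheme.Modules.pushforward f).map ((Scheme.Modules.pullbackPushforwardAdjunction g').unit.app M) ≫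
        (Scheme.Modules.pushforwardComp g' f).hom.app ((Scheme.Modules.pullback g').obj M) ≫
        (Scheme.Modules.pushforwardCongr H.w).hom.app ((Scheme.Modules.pullback g').obj M) ≫
        (Scheme.Modules.pushforwardComp f' g).inv.app ((Scheme.Modules.pullback g').obj M))) :
    IsIso β := by
  refine isIso_of_isBasis β
    (B := {W | IsAffineOpen W ∧ ∃ V : Y.Opens, IsAffineOpen V ∧ W ≤ g ⁻¹ᵁ V}) ?_ ?_
  · refine TopologicalSpace.Opens.isBasis_iff_nbhd.2 fun {U} x hx => ?_
    obtain ⟨_, ⟨V, hV, rfl⟩, hxV, -⟩ :=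
      Y.isBasis_affineOpens.exists_subset_of_mem_open (Set.mem_univ (g x)) isOpen_univ
    obtain ⟨_, ⟨W, hW, rfl⟩, hxW, hle⟩ := Y'.isBasis_affineOpens.exists_subset_of_mem_open
      (show x ∈ U ⊓ g ⁻¹ᵁ V from ⟨hx, hxV⟩) (U ⊓ g ⁻¹ᵁ V).isOpen
    exact ⟨W, ⟨hW, V, hV, fun y hy => (hle hy).2⟩, hxW, fun y hy => (hle hy).1⟩
  rintro W ⟨hW, V, hV, e⟩
  letI : Algebra Γ(Y, V) Γ(Y', W) := (g.appLE V W e).hom.toAlgebra
  haveI : Module.Flat Γ(Y, V) Γ(Y', W) := g.flat_appLE hV hW e
  have hc := compat_square H e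
  have hqs : ∀ U U' : X.affineOpens, U.1 ≤ f ⁻¹ᵁ V → U'.1 ≤ f ⁻¹ᵁ V →
      IsCompact ((U.1 ⊓ U'.1 : X.Opens) : Set X) := fun U U' hU hU' =>
    f.isQuasiSeparated_preimage hV.isQuasiSeparated U.1 U'.1 hU U.1.2 U.2.isCompact hU' U'.1.2 U'.2.isCompact
  have hψ := psi_bijective M hc (affBC_square H e hV hW hM) (f.isCompact_preimage hV.isCompact) hqs le_rfl
  let fM := (Scheme.Modules.pushforward f).obj M
  let P := (Scheme.Modules.pullback g').obj M
  have hup : up g' (f' ⁻¹ᵁ W) (f ⁻¹ᵁ V) = f' ⁻¹ᵁ W := inf_eq_right.2 (le_up H e)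
  let T := N g' (Q := f' ⁻¹ᵁ W) (scX f' W) M (f ⁻¹ᵁ V)
  let N₁ := Γ((Scheme.Modules.pullback g).obj fM, W)
  letI : Module Γ(Y, V) N₁ := Module.compHom N₁ (g.appLE V W e).hom
  haveI : IsScalarTower Γ(Y, V) Γ(Y', W) N₁ := .of_algebraMap_smul fun _ _ => rfl
  let l₁ : Γ(fM, V) →ₗ[Γ(Y, V)] N₁ :=
    { toFun := pullSec g fM e
      map_add' := pullSec_add g fM e
      map_smul' := fun r x => pullSec_smul g fM e r x }
  have hb₁ : IsBaseChange Γ(Y', W) l₁ :=
    isBaseChange_pullback hV g hW (isQCoh_pushforward f hM) e (fun _ => rfl) l₁ fun _ => rfl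
  -- restriction from `f'⁻¹W` to the open over `f⁻¹V`
  let ρ : Γ(P, f' ⁻¹ᵁ W) → T := fun y => P.presheaf.map (eqToHom hup).op y
  have hρ : Function.Bijective ρ := by
    refine ⟨fun a b hab => ?_, fun y => ⟨P.presheaf.map (eqToHom hup.symm).op y, (map_map _ _ _).trans (map_id' _ _)⟩⟩
    exact ((map_map (eqToHom hup.symm) (eqToHom hup) a).trans (map_id' _ _)).symm.trans
      ((congrArg (fun t : T => P.presheaf.map (eqToHom hup.symm).op t) hab).trans
        ((map_map (eqToHom hup.symm) (eqToHom hup) b).trans (map_id' _ _)))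
  let θ : N₁ →ₗ[Γ(Y', W)] T :=
    { toFun := fun y => ρ (β.app W y)
      map_add' := fun a b => (congrArg ρ (map_add (β.app W).hom a b)).trans
        (map_add (P.presheaf.map (eqToHom hup).op).hom _ _)
      map_smul' := fun r y => (congrArg ρ (Scheme.Modules.Hom.app_smul β r y)).trans
        ((map_smul' (M := P) (eqToHom hup) (f'.app W r) _).trans rfl) }
  let S₀ := S M (scX f V) (f ⁻¹ᵁ V) le_rfl
  let toS : Γ(fM, V) ≃ₗ[Γ(Y, V)] S₀ :=
    { toFun := fun x => x
      invFun := fun x => x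
      map_add' := fun _ _ => rfl
      map_smul' := fun r x => by
        show f.app V r • (show Γ(M, f ⁻¹ᵁ V) from x) = sc (scX f V) le_rfl r • (show Γ(M, f ⁻¹ᵁ V) from x)
        exact congrArg (· • _) (congr($((X.presheaf.map_id (op (f ⁻¹ᵁ V)))) (f.app V r))).symm
      left_inv := fun _ => rfl
      right_inv := fun _ => rfl }
  let e₂ : N₁ ≃ₗ[Γ(Y', W)] T :=
    hb₁.equiv.symm.trans ((LinearEquiv.baseChange Γ(Y, V) Γ(Y', W) _ _ toS).trans
      (LinearEquiv.ofBijective (psi M hc (f ⁻¹ᵁ V) le_rfl) hψ))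
  have hθ : θ = e₂.toLinearMap := hb₁.algHom_ext _ _ fun m => by
    show ρ (β.app W (pullSec g fM e m)) = e₂ (l₁ m)
    rw [LinearEquiv.trans_apply, hb₁.equiv_symm_apply, bc_app_pullSec H e β hβ (show Γ(M, f ⁻¹ᵁ V) from m)]
    refine Eq.trans ?_ (LinearMap.liftBaseChange_one_tmul Γ(Y', W) (alpha M hc (f ⁻¹ᵁ V) le_rfl) (toS m)).symm
    exact map_map (M := P) (eqToHom hup) (homOfLE (le_up H e))
      (((Scheme.Modules.pullbackPushforwardAdjunction g').unit.app M).app (f ⁻¹ᵁ V) m)
  have hbij : Function.Bijective θ := by rw [hθ]; exact e₂.bijective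
  exact (Function.Bijective.of_comp_iff' hρ _).1 hbij

end Groth.Agent.CohCore23.BC
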