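import Groth.Agent.QCoh.ExtendFT
import Groth.Agent.QCoh.DevissageIdeal
import Groth.Agent.KFlatLib.Scheme.Exact

/-! # Generic freeness of direct images by finite surjections -/

universe u

set_option backward.isDefEq.respectTransparency false
set_option backward.isDefEq.respectTransparency.types false

open CategoryTheory CategoryTheory.Limits AlgebraicGeometry TopologicalSpace Opposite

namespace Groth.Agent.CohCore23

open Groth.Agent.QCoh

attribute [local instance] Groth.Agent.QCoh.hasFiniteBiproducts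

variable {X : Scheme.{u}}

/-- Finitely many global sections lie in a coherent submodule. -/
theorem exists_coh_globalSections {G : X.Modules} (hG : Coh.IsQCoh G) {T : Set Γ(G, ⊤)} (hT : T.Finite) :
    ∃ (M : X.Modules) (i : M ⟶ G), Mono i ∧ Coh.IsCoh M ∧ ∀ t ∈ T, ∃ x, i.app ⊤ x = t := by
  let N : SubMod G := spanSub T
  have hN : FTOn N ⊤ := fun x _ => by
    obtain ⟨V, hV, hxV⟩ := exists_affine_mem x
    refine ⟨V, hV, hxV, le_top, rs G le_top '' T, hT.image _, ?_, fun O hO s hs y hy => ?_⟩
    · rintro _ ⟨t, ht, rfl⟩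
      exact N.map_mem le_top (mem_spanSub ht)
    · obtain ⟨P, hPO, _, hyP, hP⟩ := hs y hy trivial
      refine ⟨P, hPO, hyP, ?_⟩
      rwa [Set.image_image, show (fun t => rs G (hPO.trans hO) (rs G le_top t)) =
        rs G le_top from funext fun t => rs_rs _ _ t]
  exact ⟨N.toModules, N.ι, inferInstance, ⟨isQCoh_of_ftOn hG hN, isFT_of_ftOn hG hN⟩,
    fun t ht => N.exists_app_eq (mem_spanSub ht)⟩

/-- A morphism of quasi-coherent modules is an isomorphism on the stalk at a point where kernel and
cokernel vanish. -/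
theorem isIso_stalk_of_sections {P Q : X.Modules} (hP : Coh.IsQCoh P) (hQ : Coh.IsQCoh Q) (α : P ⟶ Q)
    {V : X.Opens} (hV : IsAffineOpen V) {x : X} (hx : x ∈ V)
    (hinj : ∀ p : Γ(P, V), α.app V p = 0 → ∃ a : Γ(X, V), x ∈ X.basicOpen a ∧ a • p = 0)
    (hsurj : ∀ q : Γ(Q, V), ∃ a : Γ(X, V), x ∈ X.basicOpen a ∧ ∃ p, α.app V p = a • q) :
    IsIso ((TopCat.Presheaf.stalkFunctor AddCommGrpCat.{u} x).map
      ((SheafOfModules.toSheaf X.ringCatSheaf).map α).hom) := by
  let F := DerSch.stalkFunctor X x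
  have h1 : x ∉ CohB1.support (kernel α) := by
    refine (notMem_support_iff (isQCoh_kernel hP hQ α) hV hx).2 fun z => ?_
    obtain ⟨a, ha, h0⟩ := hinj ((kernel.ι α).app V z) congr(($(kernel.condition α)).app V z)
    exact ⟨a, ha, app_injective (kernel.ι α) V
      ((Scheme.Modules.Hom.app_smul _ _ _).trans (h0.trans (map_zero _).symm))⟩
  have h2 : x ∉ CohB1.support (cokernel α) := by
    refine (notMem_support_iff (isQCoh_cokernel hP hQ α) hV hx).2 fun z => ?_
    obtain ⟨q, rfl⟩ := app_surjective_of_epi hQ (isQCoh_cokernel hP hQ α) (cokernel.π α) hV z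
    obtain ⟨a, ha, p, hp⟩ := hsurj q
    refine ⟨a, ha, ?_⟩
    rw [← Scheme.Modules.Hom.app_smul, ← hp]
    exact congr(($(cokernel.condition α)).app V p)
  have hz : ∀ {M : X.Modules}, x ∉ CohB1.support M → IsZero (F.obj M) := fun {M} hM => by
    haveI : Subsingleton (M.presheaf.stalk x) := not_not.1 hM
    exact ModuleCat.isZero_of_subsingleton (ModuleCat.of (X.presheaf.stalk x) (M.presheaf.stalk x))
  haveI : Mono (F.map α) :=
    ((ShortComplex.exact_kernel α).map F).mono_g ((hz h1).eq_of_src _ _)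
  haveI : Epi (F.map α) :=
    ((ShortComplex.exact_cokernel α).map F).epi_f ((hz h2).eq_of_tgt _ _)
  haveI : IsIso (F.map α) := isIso_of_mono_of_epi _
  exact (Functor.map_isIso (forget₂ (ModuleCat.{u} (X.presheaf.stalk x)) AddCommGrpCat) (F.map α) :)

/-- A finite torsion-free module over a domain is free up to torsion. -/
theorem exists_indep_span {A B : Type u} [CommRing A] [IsDomain A] [AddCommGroup B] [Module A B]
    [Module.Finite A B] : ∃ (r : ℕ) (b : Fin r → B), LinearIndependent A b ∧
      ∀ x : B, ∃ a : A, a ≠ 0 ∧ a • x ∈ Submodule.span A (Set.range b) := by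
  classical
  obtain ⟨n, g, hg⟩ := Module.Finite.exists_fin (R := A) (M := B)
  obtain ⟨s, hs, hmax⟩ := exists_maximal_linearIndepOn A g
  have hgen : ∀ i, ∃ a : A, a ≠ 0 ∧ a • g i ∈ Submodule.span A (g '' s) := fun i => by
    by_cases hi : i ∈ s
    · exact ⟨1, one_ne_zero, (one_smul A (g i)).symm ▸ Submodule.subset_span ⟨i, hi, rfl⟩⟩
    · exact hmax i hi
  choose a ha has using hgen
  let e := (Fintype.equivFin s).symm
  refine ⟨Fintype.card s, fun k => g (e k).1, hs.comp e e.injective, fun x => ⟨∏ i, a i,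
    Finset.prod_ne_zero_iff.2 fun i _ => ha i, ?_⟩⟩
  rw [show Set.range (fun k => g (e k).1) = g '' s by
    ext y; exact ⟨fun ⟨k, hk⟩ => ⟨_, (e k).2, hk⟩, fun ⟨i, hi, hy⟩ => ⟨e.symm ⟨i, hi⟩, by simp [hy]⟩⟩]
  have hx : x ∈ Submodule.span A (Set.range g) := hg ▸ Submodule.mem_top
  induction hx using Submodule.span_induction with
  | mem y hy =>
    obtain ⟨i, rfl⟩ := hy
    rw [← Finset.prod_erase_mul Finset.univ a (Finset.mem_univ i), mul_smul]
    exact Submodule.smul_mem _ _ (has i)
  | zero => rw [smul_zero]; exact zero_mem _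
  | add y z _ _ hy hz => rw [smul_add]; exact add_mem hy hz
  | smul c y _ hy => rw [smul_comm]; exact Submodule.smul_mem _ _ hy

theorem exists_free_to_pushforward {Y : Scheme.{u}} [IsIntegral X] [IsIntegral Y] (f : X ⟶ Y)
    [IsFinite f] [Surjective f] [IsLocallyNoetherian Y] :
    ∃ (r : ℕ) (M : X.Modules) (α : (SheafOfModules.free (ULift.{u} (Fin r)) : Y.Modules) ⟶
        (Scheme.Modules.pushforward f).obj M),
      0 < r ∧ Coh.IsCoh M ∧
      IsIso ((TopCat.Presheaf.stalkFunctor AddCommGrpCat.{u} (genericPoint ↥Y)).map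
        ((SheafOfModules.toSheaf Y.ringCatSheaf).map α).hom) := by
  classical
  set η := genericPoint ↥Y
  obtain ⟨_, ⟨V, hV, rfl⟩, hη, -⟩ :=
    Y.isBasis_affineOpens.exists_subset_of_mem_open (Set.mem_univ η) isOpen_univ
  let U : X.Opens := f ⁻¹ᵁ V
  have hU : IsAffineOpen U := hV.preimage f
  haveI : Nonempty V := ⟨⟨η, hη⟩⟩
  haveI : Nonempty U := by
    obtain ⟨x, hx⟩ := f.surjective η
    exact ⟨⟨x, show f x ∈ V from hx ▸ hη⟩⟩
  letI : Algebra Γ(Y, V) Γ(X, U) := (f.app V).hom.toAlgebra
  haveI : Module.Finite Γ(Y, V) Γ(X, U) := IsFinite.finite_app f V hV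
  have hinj : ∀ a : Γ(Y, V), f.app V a = 0 → a = 0 := fun a ha => by
    by_contra hne
    obtain ⟨x, hx⟩ := f.surjective η
    have h1 : x ∈ f ⁻¹ᵁ Y.basicOpen a := show f x ∈ Y.basicOpen a from hx ▸ (ne_zero_iff_mem_basicOpen a).1 hne
    rw [Scheme.preimage_basicOpen, ha, Scheme.basicOpen_zero] at h1
    exact h1
  have hD : ∀ a : Γ(Y, V), a ≠ 0 → η ∈ Y.basicOpen a := fun a => (ne_zero_iff_mem_basicOpen a).1
  obtain ⟨r, b, hb, hspan⟩ := exists_indep_span (A := Γ(Y, V)) (B := Γ(X, U))
  have hr : 0 < r := by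
    refine Nat.pos_of_ne_zero fun h0 => ?_
    subst h0
    obtain ⟨a, ha, hm⟩ := hspan 1
    rw [Set.range_eq_empty, Submodule.span_empty, Submodule.mem_bot, Algebra.smul_def, mul_one] at hm
    exact ha (hinj a hm)
  haveI : QuasiCompact U.ι := by
    refine quasiCompact_ι_of_noetherian (fun x => ?_) U
    obtain ⟨W, hW, hxW⟩ := exists_affine_mem x
    haveI : IsLocallyNoetherian X := LocallyOfFiniteType.isLocallyNoetherian f
    haveI : IsNoetherianRing Γ(X, W) := IsLocallyNoetherian.component_noetherian ⟨W, hW⟩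
    exact ⟨W, hxW, noetherianSpace_of_isAffineOpen W hW⟩
  let G := (Scheme.Modules.pushforward U.ι).obj ((Coh.structureModule X).restrict U.ι)
  have hG : Coh.IsQCoh G := isQCoh_pushforward U.ι (isQCoh_restrict U.ι isQCoh_structureModule)
  let ψ : Coh.structureModule X ⟶ G :=
    (Scheme.Modules.restrictAdjunction U.ι).unit.app (Coh.structureModule X)
  have hTU : U.ι ''ᵁ (U.ι ⁻¹ᵁ (⊤ : X.Opens)) ≤ U := by
    rw [U.ι.image_preimage_eq_opensRange_inf, Scheme.Opens.opensRange_ι]
    exact inf_le_left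
  let t : Fin r → Γ(G, ⊤) := fun k => (Coh.structureModule X).presheaf.map (homOfLE hTU).op (b k)
  have ht : ∀ k, G.presheaf.map (homOfLE le_top).op (t k) = ψ.app U (b k) := fun k => by
    show _ = ((Scheme.Modules.restrictAdjunction U.ι).unit.app (Coh.structureModule X)).app U (b k)
    rw [Scheme.Modules.restrictAdjunction_unit_app_app]
    exact (push_restrict_map U (Coh.structureModule X) (homOfLE le_top) _).trans
      (map_map (M := Coh.structureModule X) _ _ (b k))
  obtain ⟨M, i, hi, hM, hti⟩ := exists_coh_globalSections hG (Set.finite_range t)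
  choose x hx using fun k : ULift.{u} (Fin r) => hti (t k.down) ⟨k.down, rfl⟩
  let fM := (Scheme.Modules.pushforward f).obj M
  let T : ULift.{u} (Fin r) → Y.Modules := fun _ => Coh.structureModule Y
  let φ : ∀ k, T k ⟶ fM := fun k => homOfTop (P := fM) (x k)
  let α' : (⨁ T) ⟶ fM := biproduct.desc φ
  let β := (biproduct.isoCoproduct T)
  let Fr : Y.Modules := (SheafOfModules.free (ULift.{u} (Fin r)) : Y.Modules)
  let α : Fr ⟶ fM := β.inv ≫ α'
  have hT : Coh.IsQCoh (⨁ T) := isQCoh_biproduct T fun _ => isQCoh_structureModule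
  have hfree : Coh.IsQCoh (SheafOfModules.free (ULift.{u} (Fin r)) : Y.Modules) :=
    (isQCoh_iff_iso β).1 hT
  have hfM : Coh.IsQCoh fM := isQCoh_pushforward f hM.1
  refine ⟨r, M, α, hr, hM, isIso_stalk_of_sections hfree hfM α hV hη ?_ ?_⟩
  all_goals
    have hval : ∀ p : Γ(⨁ T, V), i.app U (α'.app V p) = ψ.app U
        (∑ k, (show Γ(Y, V) from (biproduct.π T k).app V p) • b k.down) := fun p => by
      rw [biproduct_desc_app]
      erw [map_sum, map_sum]
      refine Finset.sum_congr rfl fun k _ => ?_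
      refine (congrArg (i.app U) (homOfTop_app (P := fM) (x k) _)).trans ?_
      show i.app U (f.app V _ • M.presheaf.map (homOfLE le_top).op (x k)) = _
      rw [Scheme.Modules.Hom.app_smul, map_app_comm, hx, ht]
      exact (Scheme.Modules.Hom.app_smul ψ (f.app V _) (b k.down)).symm
    have hψ : Function.Injective (ψ.app U) := unit_restrict_app_injective U _ le_rfl
  · intro p hp
    refine ⟨1, by rw [Scheme.basicOpen_of_isUnit _ isUnit_one]; exact hη, (one_smul _ _).trans ?_⟩
    have h1 : (∑ k, (show Γ(Y, V) from (biproduct.π T k).app V (β.inv.app V p)) • b k.down) = 0 := by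
      refine hψ ((hval (β.inv.app V p)).symm.trans ?_)
      rw [show α'.app V (β.inv.app V p) = 0 from hp, map_zero, map_zero]
    have h2 : ∀ k, (biproduct.π T k).app V (β.inv.app V p) = 0 := by
      intro k
      have := Fintype.linearIndependent_iff.1 (hb.comp _ Equiv.ulift.injective)
        (fun k => (show Γ(Y, V) from (biproduct.π T k).app V (β.inv.app V p))) h1
      exact this k
    have h3 : β.inv.app V p = 0 := by
      rw [biproduct_app_decomp T V (β.inv.app V p)]
      exact Finset.sum_eq_zero fun k _ => by rw [h2 k, map_zero]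
    exact app_injective β.inv V (h3.trans (map_zero _).symm)
  · intro q
    obtain ⟨z, hz⟩ : ∃ z : Γ(X, U), ψ.app U z = i.app U q := by
      have he : U.ι ''ᵁ (U.ι ⁻¹ᵁ U) = U := by
        rw [U.ι.image_preimage_eq_opensRange_inf, Scheme.Opens.opensRange_ι, inf_idem]
      refine ⟨(Coh.structureModule X).presheaf.map (homOfLE he.ge).op (i.app U q), ?_⟩
      show ((Scheme.Modules.restrictAdjunction U.ι).unit.app (Coh.structureModule X)).app U _ = _
      rw [Scheme.Modules.restrictAdjunction_unit_app_app]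
      exact (map_map (M := Coh.structureModule X) _ _
        (show Γ(Coh.structureModule X, U.ι ''ᵁ (U.ι ⁻¹ᵁ U)) from i.app U q)).trans
        (map_id' (M := Coh.structureModule X) _ _)
    obtain ⟨a, ha, hm⟩ := hspan z
    obtain ⟨c, hc⟩ := (Submodule.mem_span_range_iff_exists_fun _).1 hm
    let p : Γ(⨁ T, V) := ∑ k, (biproduct.ι T k).app V (show Γ(Y, V) from c k.down)
    refine ⟨a, hD a ha, β.hom.app V p, ?_⟩
    have hp : Scheme.Modules.Hom.app α V (β.hom.app V p) = α'.app V p :=
      congrArg (α'.app V) congr(($(β.hom_inv_id)).app V p)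
    rw [hp]
    refine app_injective i U ((hval p).trans ?_)
    refine Eq.trans ?_ (Scheme.Modules.Hom.app_smul i (f.app V a) q).symm
    rw [← hz]
    refine Eq.trans ?_ (Scheme.Modules.Hom.app_smul ψ (f.app V a) z)
    refine congrArg (ψ.app U) ?_
    have hπ : ∀ k, (biproduct.π T k).app V p = (show Γ(Y, V) from c k.down) := fun k => by
      rw [map_sum, Finset.sum_eq_single k]
      · exact congr(($(biproduct.ι_π_self T k)).app V _)
      · intro j _ hj
        exact congr(($(biproduct.ι_π_ne T hj)).app V _)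
      · exact fun h => absurd (Finset.mem_univ k) h
    simp only [hπ]
    exact (Equiv.ulift.sum_comp fun k => c k • b k).trans hc

end Groth.Agent.CohCore23
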