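import Groth.Agent.QCoh.SubCompare
import Groth.Agent.ModPairLib.Basic

/-! # Products with ideals commute with affine direct images -/

universe u

set_option backward.isDefEq.respectTransparency false
set_option backward.isDefEq.respectTransparency.types false

open CategoryTheory CategoryTheory.Limits AlgebraicGeometry TopologicalSpace Opposite

namespace Groth.Agent.CohCore23

open Groth.Agent.QCoh

variable {X Y : Scheme.{u}} (f : Y ⟶ X) [IsAffineHom f]

theorem smul_range_push (F : Y.Modules) (I : X.IdealSheafData) (V : X.affineOpens)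
    (x : Γ(F, f ⁻¹ᵁ V.1)) :
    x ∈ (I.comap f).ideal ⟨f ⁻¹ᵁ V.1, V.2.preimage f⟩ • (⊤ : Submodule Γ(Y, f ⁻¹ᵁ V.1) Γ(F, f ⁻¹ᵁ V.1)) ↔
      (show Γ((Scheme.Modules.pushforward f).obj F, V.1) from x) ∈
        I.ideal V • (⊤ : Submodule Γ(X, V.1) Γ((Scheme.Modules.pushforward f).obj F, V.1)) := by
  have happ : f.appLE V.1 (f ⁻¹ᵁ V.1) le_rfl = f.app V.1 := f.app_eq_appLE.symm
  rw [ModPairLib.ideal_comap I f V ⟨f ⁻¹ᵁ V.1, V.2.preimage f⟩ le_rfl, happ]
  let S : Submodule Γ(X, V.1) Γ((Scheme.Modules.pushforward f).obj F, V.1) :=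
    I.ideal V • (⊤ : Submodule Γ(X, V.1) Γ((Scheme.Modules.pushforward f).obj F, V.1))
  let S' : Submodule Γ(Y, f ⁻¹ᵁ V.1) Γ(F, f ⁻¹ᵁ V.1) :=
    (I.ideal V).map (f.app V.1).hom • (⊤ : Submodule Γ(Y, f ⁻¹ᵁ V.1) Γ(F, f ⁻¹ᵁ V.1))
  constructor
  · suffices key : ∀ z : Γ(F, f ⁻¹ᵁ V.1), z ∈ S' →
        (show Γ((Scheme.Modules.pushforward f).obj F, V.1) from z) ∈ S from key x
    intro z₀ hz₀
    refine Submodule.smul_induction_on
      (p := fun z : Γ(F, f ⁻¹ᵁ V.1) => (show Γ((Scheme.Modules.pushforward f).obj F, V.1) from z) ∈ S)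
      hz₀ (fun c hc z _ => ?_) (fun a b ha hb => add_mem ha hb)
    induction hc using Submodule.span_induction generalizing z with
    | mem c hc =>
      obtain ⟨r, hr, rfl⟩ := hc
      exact (Submodule.smul_mem_smul hr Submodule.mem_top :
        r • (show Γ((Scheme.Modules.pushforward f).obj F, V.1) from z) ∈ S)
    | zero => rw [zero_smul]; exact zero_mem S
    | add a b _ _ ha hb => rw [add_smul]; exact add_mem (ha z trivial) (hb z trivial)
    | smul a b _ hb =>
      rw [smul_eq_mul, mul_comm, mul_smul]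
      exact hb (a • z) trivial
  · suffices key : ∀ z : Γ((Scheme.Modules.pushforward f).obj F, V.1), z ∈ S →
        (show Γ(F, f ⁻¹ᵁ V.1) from z) ∈ S' from key x
    intro z₀ hz₀
    refine Submodule.smul_induction_on
      (p := fun z : Γ((Scheme.Modules.pushforward f).obj F, V.1) => (show Γ(F, f ⁻¹ᵁ V.1) from z) ∈ S')
      hz₀ (fun r hr z _ => ?_) (fun a b ha hb => add_mem ha hb)
    exact (Submodule.smul_mem_smul (Ideal.mem_map_of_mem _ hr) Submodule.mem_top :
      (f.app V.1 r) • (show Γ(F, f ⁻¹ᵁ V.1) from z) ∈ S')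

theorem exists_idealMul_pushforward_iso (F : Y.Modules) (hF : Coh.IsQCoh F) (I : X.IdealSheafData) :
    ∃ e : (Dual3.idealMul I).obj ((Scheme.Modules.pushforward f).obj F) ≅
        (Scheme.Modules.pushforward f).obj ((Dual3.idealMul (I.comap f)).obj F),
      e.hom ≫ (Scheme.Modules.pushforward f).map (Dual3.idealMulι (I.comap f) F) =
        Dual3.idealMulι I ((Scheme.Modules.pushforward f).obj F) := by
  haveI := (Scheme.Modules.pullbackPushforwardAdjunction f).isRightAdjoint
  let P := Scheme.Modules.pushforward f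
  have hP : Coh.IsQCoh (P.obj F) := isQCoh_pushforward f hF
  have h := subobject_eq_of_cover (isQCoh_idealMul I hP)
    (isQCoh_pushforward f (isQCoh_idealMul (I.comap f) hF)) hP (Dual3.idealMulι I (P.obj F))
    (P.map (Dual3.idealMulι (I.comap f) F)) (fun V : X.affineOpens => V.1) (fun V => V.2)
    (fun x => by
      obtain ⟨V, hV, hxV⟩ := exists_affine_mem x
      exact ⟨⟨V, hV⟩, hxV⟩) fun V => by
    rw [range_idealMul I hP V.2]
    ext x
    refine (smul_range_push f F I V x).symm.trans ?_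
    rw [← range_idealMul (I.comap f) hF (V.2.preimage f)]
    rfl
  exact ⟨Subobject.isoOfMkEqMk _ _ h, Subobject.ofMkLEMk_comp h.le⟩

end Groth.Agent.CohCore23
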