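import Groth.Agent.QCoh.DevissageP

/-! # Coherent modules with prescribed support after a finite direct image -/

universe u

set_option backward.isDefEq.respectTransparency false
set_option backward.isDefEq.respectTransparency.types false

open CategoryTheory CategoryTheory.Limits AlgebraicGeometry TopologicalSpace Opposite

namespace Groth.Agent.CohCore23

open Groth.Agent.QCoh

variable {X T : Scheme.{u}} [IsIntegral T] (h : T ⟶ X)

/-- The direct image of the structure sheaf of an integral scheme by a closed map. -/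
theorem support_push_structure (hc : IsClosed (Set.range h)) :
    CohB1.support ((Coh.push h).obj (Coh.structureModule T)) = Set.range h := by
  let P := (Coh.push h).obj (Coh.structureModule T)
  refine Set.Subset.antisymm (fun x hx => ?_) ?_
  · by_contra hxr
    let W : X.Opens := ⟨(Set.range h)ᶜ, hc.isOpen_compl⟩
    refine hx ⟨fun a b => ?_⟩
    suffices e : ∀ m : P.presheaf.stalk x, m = 0 by rw [e a, e b]
    intro m
    obtain ⟨V, hxV, s, rfl⟩ := P.presheaf.exists_germ_eq m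
    have h0 : P.presheaf.map (homOfLE (inf_le_left : V ⊓ W ≤ V)).op s = 0 :=
      eq_zero_of_locally (M := Coh.structureModule T) (h ⁻¹ᵁ (V ⊓ W)) _ fun p hp => absurd ⟨p, rfl⟩ hp.2
    rw [← TopCat.Presheaf.germ_res_apply P.presheaf (homOfLE (inf_le_left : V ⊓ W ≤ V)) x ⟨hxV, hxr⟩ s,
      h0, map_zero]
  · rintro _ ⟨z, rfl⟩ hs
    obtain ⟨W, hzW, i, j, hW⟩ := P.presheaf.germ_eq (h z) (show h z ∈ (⊤ : X.Opens) from trivial)
      (show h z ∈ (⊤ : X.Opens) from trivial) (show Γ(T, h ⁻¹ᵁ ⊤) from 1) (0 : Γ(T, h ⁻¹ᵁ ⊤))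
      (Subsingleton.elim _ _)
    have h1 : T.presheaf.map ((Opens.map h.base).map i).op (1 : Γ(T, h ⁻¹ᵁ ⊤)) = 0 :=
      hW.trans (map_zero _)
    rw [map_one] at h1
    have hne : Nonempty (h ⁻¹ᵁ W : T.Opens) := ⟨⟨z, hzW⟩⟩
    exact one_ne_zero h1

omit h in
theorem smul_stalk_push_eq_zero (h : T ⟶ X) {ξ : X} (hξ : h (genericPoint T) = ξ)
    (a : X.presheaf.stalk ξ) (ha : a ∈ IsLocalRing.maximalIdeal (X.presheaf.stalk ξ))
    (m : ↑(((Coh.push h).obj (Coh.structureModule T)).presheaf.stalk ξ)) : a • m = 0 := by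
  let P := (Coh.push h).obj (Coh.structureModule T)
  obtain ⟨V₁, hV₁, a', rfl⟩ := X.presheaf.exists_germ_eq a
  obtain ⟨V₂, hV₂, s, rfl⟩ := P.presheaf.exists_germ_eq m
  rw [← TopCat.Presheaf.germ_res_apply X.presheaf (homOfLE (inf_le_left : V₁ ⊓ V₂ ≤ V₁)) ξ ⟨hV₁, hV₂⟩ a',
    ← TopCat.Presheaf.germ_res_apply P.presheaf (homOfLE (inf_le_right : V₁ ⊓ V₂ ≤ V₂)) ξ ⟨hV₁, hV₂⟩ s,
    ← germ_smul' P]
  set b := X.presheaf.map (homOfLE (inf_le_left : V₁ ⊓ V₂ ≤ V₁)).op a'
  set t := P.presheaf.map (homOfLE (inf_le_right : V₁ ⊓ V₂ ≤ V₂)).op s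
  have hb : h.app (V₁ ⊓ V₂) b = 0 := by
    by_contra hne
    have h1 := (ne_zero_iff_mem_basicOpen _).1 hne
    rw [← Scheme.preimage_basicOpen] at h1
    have h2 : ξ ∈ X.basicOpen b := hξ ▸ h1
    rw [X.mem_basicOpen _ ξ (show ξ ∈ V₁ ⊓ V₂ from ⟨hV₁, hV₂⟩),
      TopCat.Presheaf.germ_res_apply X.presheaf (homOfLE (inf_le_left : V₁ ⊓ V₂ ≤ V₁))] at h2
    exact (IsLocalRing.mem_maximalIdeal _).1 ha h2
  have h0 : b • t = 0 := by
    show (h.app (V₁ ⊓ V₂) b * (show Γ(T, h ⁻¹ᵁ (V₁ ⊓ V₂)) from t) : Γ(T, h ⁻¹ᵁ (V₁ ⊓ V₂))) = 0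
    rw [hb, zero_mul]
  rw [h0, map_zero]

omit [IsIntegral T] in
theorem exists_coherent_pushforward_with_support {Y : Scheme.{u}} (f : Y ⟶ X) [IsFinite f]
    [Surjective f] [IsLocallyNoetherian X] (Z : Scheme.{u}) (i : Z ⟶ X) [IsClosedImmersion i]
    [IsIntegral Z] :
    ∃ F : Y.Modules, Coh.IsCoh F ∧ CohB1.support ((Coh.push f).obj F) = Set.range i ∧
      ∀ a ∈ IsLocalRing.maximalIdeal (X.presheaf.stalk (i (genericPoint Z))),
        ∀ m : ↑(((Coh.push f).obj F).presheaf.stalk (i (genericPoint Z))), a • m = 0 := by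
  obtain ⟨y, hy⟩ := f.surjective (i (genericPoint Z))
  let J := Scheme.IdealSheafData.vanishingIdeal (Closeds.closure {y})
  haveI : IsIntegral J.subscheme := isIntegral_closure_point y
  have hr : Set.range J.subschemeι = closure {y} := Groth.Agent.H23.RedSub.range_vanishingIdeal _
  haveI : IsLocallyNoetherian Y := LocallyOfFiniteType.isLocallyNoetherian f
  haveI : IsLocallyNoetherian J.subscheme := LocallyOfFiniteType.isLocallyNoetherian J.subschemeι
  have hF : Coh.IsCoh ((Coh.push J.subschemeι).obj (Coh.structureModule J.subscheme)) :=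
    isCoh_pushforward_finite J.subschemeι isCoh_structureModule'
  have hgen : (J.subschemeι ≫ f) (genericPoint J.subscheme) = i (genericPoint Z) := by
    have h1 : closure {J.subschemeι (genericPoint J.subscheme)} = closure {y} :=
      (range_eq_closure J.subschemeι).symm.trans hr
    exact (congrArg f (inseparable_iff_closure_eq.2 h1).eq).trans hy
  have hrange : Set.range (J.subschemeι ≫ f) = Set.range i := by
    show Set.range (f ∘ J.subschemeι) = _
    rw [Set.range_comp, hr, ← f.isClosedMap.closure_image_eq_of_continuous f.continuous,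
      Set.image_singleton, hy, range_eq_closure i]
  refine ⟨_, hF, ?_, fun a ha m => smul_stalk_push_eq_zero (J.subschemeι ≫ f) hgen a ha m⟩
  exact (support_push_structure (J.subschemeι ≫ f) (hrange ▸ i.isClosedEmbedding.isClosed_range)).trans
    hrange

end Groth.Agent.CohCore23
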