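import Groth.Agent.CohCore23.GenFree
import Groth.Agent.CohCore23.IdealPush
import Groth.Agent.CohCore23.PushSupport
import Groth.Agent.QCoh.LocFree
import Groth.Agent.S9515

/-! # Maps from direct images to powers of a module, generically isomorphisms -/

universe u

set_option backward.isDefEq.respectTransparency false
set_option backward.isDefEq.respectTransparency.types false

open CategoryTheory CategoryTheory.Limits AlgebraicGeometry TopologicalSpace Opposite

namespace Groth.Agent.CohCore23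

open Groth.Agent.QCoh

attribute [local instance] Groth.Agent.QCoh.hasFiniteBiproducts

/-- Additive functors preserve finite biproducts indexed in any universe. -/
theorem preservesBiproduct_of_additive {C D : Type*} [Category C] [Category D] [Preadditive C]
    [Preadditive D] (F : C ⥤ D) [F.Additive] {J : Type*} [Finite J] (T : J → C) :
    PreservesBiproduct T F where
  preserves := fun hb => by
    let ⟨_⟩ := nonempty_fintype J
    refine ⟨isBilimitOfTotal _ ?_⟩
    simp_rw [F.mapBicone_π, F.mapBicone_ι, ← F.map_comp]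
    erw [← F.map_sum, ← F.map_id, IsBilimit.total hb]

variable {Y : Scheme.{u}}

/-- A coherent module on an integral scheme is free on a neighbourhood of the generic point. -/
theorem exists_free_generic [IsIntegral Y] [IsLocallyNoetherian Y] {M : Y.Modules} (hM : Coh.IsCoh M) :
    ∃ (U : Y.Opens) (n : ℕ), genericPoint ↥Y ∈ U ∧
      Nonempty (M.restrict U.ι ≅ FlatMod.freeMod (U : Scheme.{u}) n) := by
  haveI : Module.Free (Y.presheaf.stalk (genericPoint ↥Y)) (M.presheaf.stalk (genericPoint ↥Y)) :=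
    Module.Free.of_divisionRing Y.functionField (M.presheaf.stalk (genericPoint ↥Y))
  exact exists_free_nhd_of_free_stalk (isCoh_iff_isFP.1 hM) _

theorem nonempty_restrict_free_le {M : Y.Modules} (hM : Coh.IsQCoh M) {U V : Y.Opens} (hV : IsAffineOpen V)
    (hle : V ≤ U) {n : ℕ} (e : M.restrict U.ι ≅ FlatMod.freeMod (U : Scheme.{u}) n) :
    Nonempty (M.restrict V.ι ≅ FlatMod.freeMod (V : Scheme.{u}) n) :=
  let ⟨l⟩ := free_sections hV hle e
  exists_free_restrict hM hV l

/-- Sums of sums of copies of an object, reindexed. -/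
theorem nonempty_biproduct_comm {C : Type*} [Category C] [HasZeroMorphisms C] [HasFiniteBiproducts C]
    [HasFiniteCoproducts C] (A : C) (n r : ℕ) :
    Nonempty ((⨁ fun _ : ULift.{u} (Fin n) => ∐ fun _ : Fin r => A) ≅
      ⨁ fun _ : ULift.{u} (Fin r) => ∐ fun _ : Fin n => A) := by
  let e₁ := biproduct.mapIso fun _ : ULift.{u} (Fin n) => (biproduct.isoCoproduct fun _ : Fin r => A).symm
  let e₂ := biproduct.mapIso fun _ : ULift.{u} (Fin r) => (biproduct.isoCoproduct fun _ : Fin n => A).symm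
  let σ : (Σ _ : ULift.{u} (Fin n), Fin r) ≃ Σ _ : ULift.{u} (Fin r), Fin n :=
    { toFun := fun p => ⟨⟨p.2⟩, p.1.down⟩
      invFun := fun p => ⟨⟨p.2⟩, p.1.down⟩
      left_inv := fun ⟨⟨_⟩, _⟩ => rfl
      right_inv := fun ⟨⟨_⟩, _⟩ => rfl }
  exact ⟨e₁ ≪≫ biproductBiproductIso (fun _ : ULift.{u} (Fin n) => Fin r) (fun _ _ => A) ≪≫
    biproduct.whiskerEquiv σ (fun _ => Iso.refl A) ≪≫
    (biproductBiproductIso (fun _ : ULift.{u} (Fin r) => Fin n) (fun _ _ => A)).symm ≪≫ e₂.symm⟩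

theorem ideal_vanishingIdeal_compl_eq_top (W : Y.Opens) (V : Y.affineOpens) (hVW : V.1 ≤ W) :
    (Scheme.IdealSheafData.vanishingIdeal (⟨(W : Set Y)ᶜ, W.2.isClosed_compl⟩ : Closeds Y)).ideal V = ⊤ := by
  rw [Scheme.IdealSheafData.vanishingIdeal_ideal]
  convert PrimeSpectrum.vanishingIdeal_empty
  exact Set.eq_empty_iff_forall_notMem.2 fun p hp =>
    hp (hVW (V.2.range_fromSpec.le (Set.mem_range_self p)))

/-- On `W`, the hypothesis `rF.map ψ = rF.map ι ≫ φ` with `φ` an isomorphism makes `ψ` bijective. -/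
theorem app_bijective_of_restrict {A A' B : Y.Modules} (W : Y.Opens) (ι : A' ⟶ A) (ψ : A' ⟶ B)
    (φ : (Scheme.Modules.restrictFunctor W.ι).obj A ≅ (Scheme.Modules.restrictFunctor W.ι).obj B)
    (h : (Scheme.Modules.restrictFunctor W.ι).map ψ = (Scheme.Modules.restrictFunctor W.ι).map ι ≫ φ.hom)
    {V : Y.Opens} (hVW : V ≤ W) (hι : Function.Bijective (ι.app V)) : Function.Bijective (ψ.app V) := by
  suffices key : ∀ V', W.ι ''ᵁ (W.ι ⁻¹ᵁ V) = V' → Function.Bijective (ι.app V') →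
      Function.Bijective (ψ.app V') from key V (by
    rw [W.ι.image_preimage_eq_opensRange_inf, Scheme.Opens.opensRange_ι, inf_eq_right.2 hVW]) hι
  rintro _ rfl hι
  have hφ : Function.Bijective (φ.hom.app (W.ι ⁻¹ᵁ V)) :=
    ⟨app_injective φ.hom _, fun y => ⟨φ.inv.app _ y, congr(($(φ.inv_hom_id)).app _ y)⟩⟩
  have he : ∀ z, ψ.app (W.ι ''ᵁ (W.ι ⁻¹ᵁ V)) z = φ.hom.app (W.ι ⁻¹ᵁ V) (ι.app _ z) :=
    fun z => congr(($h).app (W.ι ⁻¹ᵁ V) z)
  exact ⟨fun a b hab => hι.1 (hφ.1 ((he a).symm.trans (hab.trans (he b)))), fun y => by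
    obtain ⟨x, hx⟩ := hφ.2 y
    obtain ⟨z, rfl⟩ := hι.2 x
    exact ⟨z, (he z).trans hx⟩⟩

theorem exists_pushforward_to_pow {X : Scheme.{u}} [IsIntegral X] [IsNoetherian X] [IsIntegral Y]
    [IsNoetherian Y] (f : X ⟶ Y) [IsFinite f] [Surjective f] (F : Y.Modules) (hF : Coh.IsCoh F) :
    ∃ (r : ℕ) (G : X.Modules)
      (β : (Scheme.Modules.pushforward f).obj G ⟶ ∐ fun _ : ULift.{u} (Fin r) => F),
      0 < r ∧ Coh.IsCoh G ∧
      IsIso ((TopCat.Presheaf.stalkFunctor AddCommGrpCat.{u} (genericPoint ↥Y)).map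
        ((SheafOfModules.toSheaf Y.ringCatSheaf).map β).hom) := by
  classical
  let P := Scheme.Modules.pushforward f
  have hfO : Coh.IsCoh (P.obj (Coh.structureModule X)) := isCoh_pushforward_finite f isCoh_structureModule'
  obtain ⟨U₁, r, hη₁, ⟨e₁⟩⟩ := exists_free_generic hfO
  obtain ⟨U₂, n, hη₂, ⟨e₂⟩⟩ := exists_free_generic hF
  obtain ⟨_, ⟨W', hW', rfl⟩, hηW, hle⟩ :=
    Y.isBasis_affineOpens.exists_subset_of_mem_open (show genericPoint ↥Y ∈ U₁ ⊓ U₂ from ⟨hη₁, hη₂⟩) (U₁ ⊓ U₂).2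
  obtain ⟨W, hWeq⟩ : ∃ W : Y.Opens, W = W' := ⟨_, rfl⟩
  subst hWeq
  have hW : IsAffineOpen W := hW'
  obtain ⟨e₁'⟩ := nonempty_restrict_free_le hfO.1 hW (fun y hy => (hle hy).1) e₁
  obtain ⟨e₂'⟩ := nonempty_restrict_free_le hF.1 hW (fun y hy => (hle hy).2) e₂
  have hr : 0 < r := by
    refine Nat.pos_of_ne_zero fun h0 => ?_
    obtain ⟨l⟩ := free_sections hW le_rfl e₁'
    haveI : Module.Free (Y.presheaf.stalk (genericPoint ↥Y))
        ((P.obj (Coh.structureModule X)).presheaf.stalk (genericPoint ↥Y)) :=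
      Module.Free.of_divisionRing Y.functionField _
    have h1 := finrank_stalk_of_freeChart hW hfO.1 l hηW
    have hmem : genericPoint ↥Y ∈ CohB1.support ((Coh.push f).obj (Coh.structureModule X)) := by
      rw [support_push_structure f (by rw [f.surjective.range_eq]; exact isClosed_univ)]
      exact f.surjective _
    haveI : Nontrivial ((P.obj (Coh.structureModule X)).presheaf.stalk (genericPoint ↥Y)) :=
      not_subsingleton_iff_nontrivial.1 hmem
    haveI := finite_stalk_of_isFT hfO.1 hfO.2 (genericPoint ↥Y)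
    have := Module.finrank_pos (R := Y.presheaf.stalk (genericPoint ↥Y))
      (M := (P.obj (Coh.structureModule X)).presheaf.stalk (genericPoint ↥Y))
    omega
  let T : ULift.{u} (Fin n) → X.Modules := fun _ => Coh.structureModule X
  let TF : ULift.{u} (Fin r) → Y.Modules := fun _ => F
  let G₀ := ⨁ T
  have hG₀ : Coh.IsCoh G₀ := isCoh_biproduct T fun _ => isCoh_structureModule'
  have hfG : Coh.IsCoh (P.obj G₀) := isCoh_pushforward_finite f hG₀
  have hQ : Coh.IsQCoh (∐ TF) :=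
    (isQCoh_iff_iso (biproduct.isoCoproduct TF)).1 (isQCoh_biproduct TF fun _ => hF.1)
  let rF := Scheme.Modules.restrictFunctor W.ι
  haveI := preservesBiproduct_of_additive P T
  haveI := preservesBiproduct_of_additive rF TF
  haveI := preservesBiproduct_of_additive rF (fun _ : ULift.{u} (Fin n) => P.obj (Coh.structureModule X))
  let φ : rF.obj (P.obj G₀) ≅ rF.obj (∐ TF) :=
    rF.mapIso (P.mapBiproduct T) ≪≫ rF.mapBiproduct (fun _ => P.obj (Coh.structureModule X)) ≪≫
      biproduct.mapIso (fun _ => e₁') ≪≫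
      (nonempty_biproduct_comm (Coh.structureModule (W : Scheme.{u})) n r).some ≪≫
      biproduct.mapIso (fun _ => e₂'.symm) ≪≫ (rF.mapBiproduct TF).symm ≪≫
      rF.mapIso (biproduct.isoCoproduct TF)
  let I := Scheme.IdealSheafData.vanishingIdeal (⟨(W : Set Y)ᶜ, W.2.isClosed_compl⟩ : Closeds Y)
  have hWI : (W : Set Y) = (I.support : Set Y)ᶜ := by
    rw [Scheme.IdealSheafData.coe_support_vanishingIdeal]
    exact (compl_compl _).symm
  obtain ⟨k, ψ, hψ⟩ := Groth.Agent.S9515.result Y (∐ TF) (P.obj G₀) hQ hfG I W hWI φ.hom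
  obtain ⟨J, hJ⟩ : ∃ J, J = I ^ k := ⟨_, rfl⟩
  subst hJ
  obtain ⟨e, he⟩ := exists_idealMul_pushforward_iso f G₀ hG₀.1 (I ^ k)
  let G := (Dual3.idealMul ((I ^ k).comap f)).obj G₀
  have hG : Coh.IsCoh G := isCoh_of_mono (Dual3.idealMulι _ G₀) hG₀ (isQCoh_idealMul _ hG₀.1)
  refine ⟨r, G, e.inv ≫ ψ, hr, hG, ?_⟩
  have hJV : (I ^ k).ideal ⟨W, hW⟩ = ⊤ := by
    rw [Scheme.IdealSheafData.ideal_pow, Pi.pow_apply, ideal_vanishingIdeal_compl_eq_top W ⟨W, hW⟩ le_rfl,
      ← Ideal.one_eq_top, one_pow]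
  have hι : Function.Bijective ((Dual3.idealMulι (I ^ k) (P.obj G₀)).app W) := by
    refine ⟨app_injective _ _, fun y => ?_⟩
    have h1 := range_idealMul (I ^ k) hfG.1 hW
    rw [hJV, Submodule.top_smul] at h1
    exact h1.ge Submodule.mem_top
  have hbij := app_bijective_of_restrict W _ ψ φ hψ le_rfl hι
  have h1η : genericPoint ↥Y ∈ Y.basicOpen (1 : Γ(Y, W)) := by
    rw [Scheme.basicOpen_of_isUnit _ isUnit_one]; exact hηW
  refine isIso_stalk_of_sections (isQCoh_pushforward f hG.1) hQ _ hW hηW (fun p hp => ⟨1, h1η, ?_⟩)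
    (fun q => ⟨1, h1η, ?_⟩)
  · rw [one_smul]
    exact app_injective e.inv W (hbij.1 (hp.trans (map_zero _).symm) |>.trans (map_zero _).symm)
  · obtain ⟨z, hz⟩ := hbij.2 q
    refine ⟨e.hom.app W z, ?_⟩
    rw [one_smul]
    exact (congrArg (ψ.app W) congr(($(e.hom_inv_id)).app W z)).trans hz

end Groth.Agent.CohCore23
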