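import Groth.Agent.CExt24.BCTheory
import Groth.Agent.CExt24.Models
import Groth.Agent.FlatCxLib.Field

/-!
# A Čech model over an affine base: cohomology and fibres
-/

set_option autoImplicit false
set_option backward.isDefEq.respectTransparency false
set_option backward.isDefEq.respectTransparency.types false
set_option linter.style.haveILetI false
set_option maxHeartbeats 1000000

universe u

open CategoryTheory CategoryTheory.Limits AlgebraicGeometry TopologicalSpace Opposite

noncomputable section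

namespace Groth.Agent.CohCore23

open Groth.Agent.QCoh (overSpec modHH)
open Groth.Agent.FlatCxLib (Coker Hom')

variable {A : Type u} [CommRing A] {X : Scheme.{u}} {pA : X ⟶ Spec (CommRingCat.of A)} {F : X.Modules}
  {P : ChainComplex (ModuleCat.{u} A) ℤ}

/-- The cohomology of `F` is the homology of a model. -/
theorem nonempty_HH_equiv_hom' (hF : Coh.IsQCoh F) (hP : CExt24.HasCechModel pA F P) (p : ℕ) :
    letI := modHH (Coh.toGlobal pA) F p
    Nonempty (Coh.HH X F p ≃ₗ[A] Hom' P (-(p : ℤ) + 1) (-(p : ℤ)) (-(p : ℤ) - 1)) := by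
  letI := modHH (Coh.toGlobal pA) F p
  have hsq : IsPullback (𝟙 X) pA pA (Spec.map (CommRingCat.ofHom (algebraMap A A))) :=
    by
    rw [Algebra.algebraMap_self, CommRingCat.ofHom_id, Spec.map_id]
    exact IsPullback.of_horiz_isIso ⟨by simp⟩
  obtain ⟨θ, -, h1, -, -⟩ := CExt24.exists_bc_core (B := A) hsq hF hP p
  let e := FlatCxLib.hom'EquivT (P := P) (p := -(p : ℤ) + 1) (q := -(p : ℤ)) (r := -(p : ℤ) - 1)
    (by lia) (by lia)
  exact ⟨({ θ with map_smul' := h1 } : Coh.HH X F p ≃ₗ[A] CohIII.T P (-(p : ℤ)) (ModuleCat.of A A)).trans e.symm⟩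

theorem specMap_toEval (z : ↥(Spec (CommRingCat.of A))) :
    Spec.map ((Scheme.ΓSpecIso (CommRingCat.of A)).inv ≫ (Spec (CommRingCat.of A)).evaluation ⊤ z trivial) =
      (Spec (CommRingCat.of A)).fromSpecResidueField z := by
  rw [Spec.map_comp, ← CExt24.specMap_evaluation (isAffineOpen_top (Spec (CommRingCat.of A))) (s := z) trivial,
    IsAffineOpen.fromSpec_top, Scheme.isoSpec_Spec_inv]

/-- The rank of a fibre is read off the model. -/
theorem fiberRank_eq_dRank_global (hF : Coh.IsQCoh F) (hP : CExt24.HasCechModel pA F P) (p : ℕ)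
    (z : ↥(Spec (CommRingCat.of A))) :
    CohIII.fiberRank pA F p z = CohIII.dRank P (-(p : ℤ)) z := by
  let S := Spec (CommRingCat.of A)
  let φ : CommRingCat.of A ⟶ Γ(S, ⊤) := (Scheme.ΓSpecIso (CommRingCat.of A)).inv
  have hV : IsAffineOpen (⊤ : S.Opens) := isAffineOpen_top S
  have hsq : IsPullback (pA ⁻¹ᵁ ⊤).ι (overSpec pA hV) pA (Spec.map φ) := by
    have h := QCoh.isPullback_overSpec (f := pA) hV
    rwa [IsAffineOpen.fromSpec_top, Scheme.isoSpec_Spec_inv] at h
  have hP' := hP.baseChange φ.hom hsq hF ((Scheme.Modules.restrictFunctorIsoPullback (pA ⁻¹ᵁ ⊤).ι).app F).symm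
  obtain ⟨e⟩ := CExt24.nonempty_fiberH_equiv pA hV (s := z) trivial hF hP' p
  show Module.finrank _ _ = Module.finrank _ _
  rw [e.finrank_eq]
  let ψ := φ ≫ S.evaluation ⊤ z trivial
  have hker : RingHom.ker ψ.hom = z.asIdeal := by
    have h1 : (Spec.map ψ) (IsLocalRing.closedPoint (S.residueField z)) = z := by
      rw [specMap_toEval]
      exact Scheme.fromSpecResidueField_apply z _
    conv_rhs => rw [← h1]
    show _ = Ideal.comap ψ.hom (IsLocalRing.maximalIdeal _)
    rw [IsLocalRing.maximalIdeal_eq_bot]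
    rfl
  let ι : z.asIdeal.ResidueField →+* S.residueField z := Ideal.ResidueField.lift z.asIdeal ψ.hom hker.ge
    fun a ha => (IsUnit.mk0 _ fun h0 => ha (hker.le h0))
  refine FlatCxLib.finrank_homology_bcCx_comp ι P φ.hom _ (algebraMap A z.asIdeal.ResidueField) ?_ _
  refine RingHom.ext fun a => Eq.symm ?_
  exact Ideal.ResidueField.lift_algebraMap z.asIdeal ψ.hom hker.ge
    (fun a ha => (IsUnit.mk0 _ fun h0 => ha (hker.le h0))) a

theorem flat_hom'_of_flat_coker [IsDomain A] [IsPrincipalIdealRing A] (p q r : ℤ)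
    [Module.Flat A (Coker P p q)] : Module.Flat A (Hom' P p q r) := by
  rw [Module.Flat.flat_iff_torsion_eq_bot_of_isBezout, eq_bot_iff]
  rintro m ⟨a, ha⟩
  refine (Submodule.mem_bot _).2 (FlatCxLib.hom'ToCoker_injective P p q r ?_)
  rw [map_zero]
  refine (Module.Flat.isSMulRegular_of_nonZeroDivisors (M := Coker P p q) a.2).right_eq_zero_of_smul ?_
  exact ((map_smul (FlatCxLib.hom'ToCoker P p q r) (a : A) m).symm.trans (congrArg _ ha)).trans (map_zero _)

theorem flat_coker_of_flat_hom' [IsDomain A] [IsPrincipalIdealRing A] (hP : CExt24.IsFinModel P) (p q r : ℤ)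
    [Module.Flat A (Hom' P p q r)] : Module.Flat A (Coker P p q) := by
  rw [Module.Flat.flat_iff_torsion_eq_bot_of_isBezout, eq_bot_iff]
  rintro m ⟨a, ha⟩
  refine (Submodule.mem_bot _).2 ?_
  haveI := hP.flat r
  have h0 : FlatCxLib.cokerDesc P p q r m = 0 := by
    refine (Module.Flat.isSMulRegular_of_nonZeroDivisors (M := P.X r) a.2).right_eq_zero_of_smul ?_
    exact ((map_smul (FlatCxLib.cokerDesc P p q r) (a : A) m).symm.trans (congrArg _ ha)).trans (map_zero _)
  obtain ⟨h, rfl⟩ := (FlatCxLib.exact_hom'ToCoker P p q r m).1 (Subtype.ext h0)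
  have : h = 0 := (Module.Flat.isSMulRegular_of_nonZeroDivisors (M := Hom' P p q r) a.2).right_eq_zero_of_smul <| by
    apply FlatCxLib.hom'ToCoker_injective P p q r
    exact ((map_smul (FlatCxLib.hom'ToCoker P p q r) (a : A) h).trans ha).trans (map_zero _).symm
  rw [this, map_zero]

end Groth.Agent.CohCore23
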