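import Groth.Agent.QCoh.GodRestrict

/-!
# Functoriality of the Godement cokernels in commutative squares
-/

universe u

set_option backward.isDefEq.respectTransparency false
set_option backward.isDefEq.respectTransparency.types false

open CategoryTheory CategoryTheory.Limits AlgebraicGeometry TopologicalSpace Opposite

namespace Groth.Agent.CohCore23

open Groth.Agent.QCoh

section single

variable {X X' : Scheme.{u}} (φ : X' ⟶ X) {M : X.Modules} {M' : X'.Modules}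
  (η : M ⟶ (Scheme.Modules.pushforward φ).obj M')

theorem germM_secMap (y : X') {U : X.Opens} {W : X'.Opens} (h : W ≤ φ ⁻¹ᵁ U) (hy : y ∈ W) (s : Γ(M, U)) :
    germM M' W hy (secMap φ η h s) = stkMap φ η y (germM M U (h hy) s) :=
  ((stkMap_germM φ η y U (h hy) s).trans (germM_res M' (homOfLE h) hy (η.app U s)).symm).symm

theorem godVal_secMap {U : X.Opens} {W : X'.Opens} (h : W ≤ φ ⁻¹ᵁ U) (t : Γ(God M, U)) (y : X') (hy : y ∈ W) :
    godVal (secMap φ (godMap φ η) h t) y hy = stkMap φ η y (godVal t (φ.base y) (h hy)) :=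
  (godVal_res (homOfLE h) _ y hy).trans (godVal_godMap φ η t y (h hy))

theorem secMap_godπ (n : ℕ) {U : X.Opens} {W : X'.Opens} (h : W ≤ φ ⁻¹ᵁ U) (a : Γ(God (godQ M n), U)) :
    secMap φ (godQMap φ η (n + 1)) h ((godπ M n).app U a) =
      (godπ M' n).app W (secMap φ (godMap φ (godQMap φ η n)) h a) := by
  unfold secMap
  refine (congrArg (rs _ h) ?_).trans (map_app_comm (godπ M' n) (homOfLE h) _).symm
  exact congr(($(godπ_godQMap φ η n)).app U a)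

theorem secMap_toGod (n : ℕ) {U : X.Opens} {W : X'.Opens} (h : W ≤ φ ⁻¹ᵁ U) (a : Γ(godQ M n, U)) :
    secMap φ (godMap φ (godQMap φ η n)) h ((toGod (godQ M n)).app U a) =
      (toGod (godQ M' n)).app W (secMap φ (godQMap φ η n) h a) := by
  unfold secMap
  refine (congrArg (rs _ h) ?_).trans (map_app_comm (toGod (godQ M' n)) (homOfLE h) _).symm
  exact congr(($(toGod_godMap φ (godQMap φ η n))).app U a)

end single

theorem exists_common_rep {X : Scheme.{u}} {N : X.Modules} {U : X.Opens} (t : Γ(God N, U)) {p q : X}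
    (e : p = q) (hp : p ∈ U) (hq : q ∈ U) :
    ∃ (V : X.Opens) (hpV : p ∈ V) (hqV : q ∈ V) (s : Γ(N, V)),
      godVal t p hp = germM N V hpV s ∧ godVal t q hq = germM N V hqV s := by
  subst e
  obtain ⟨V, hV, s, hs⟩ := exists_germM N (godVal t p hp)
  exact ⟨V, hV, hV, s, hs.symm, hs.symm⟩

variable {X X₁ X₂ Z : Scheme.{u}} {a : X₁ ⟶ X} {b : Z ⟶ X₁} {c : X₂ ⟶ X} {d : Z ⟶ X₂}
  {M : X.Modules} {M₁ : X₁.Modules} {M₂ : X₂.Modules} {N : Z.Modules}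
  (ηa : M ⟶ (Scheme.Modules.pushforward a).obj M₁) (ηb : M₁ ⟶ (Scheme.Modules.pushforward b).obj N)
  (ηc : M ⟶ (Scheme.Modules.pushforward c).obj M₂) (ηd : M₂ ⟶ (Scheme.Modules.pushforward d).obj N)

/-- The two composites of a square of maps to direct images agree on sections. -/
def Comm : Prop :=
  ∀ (U : X.Opens) (U₁ : X₁.Opens) (U₂ : X₂.Opens) (W : Z.Opens) (h₁ : U₁ ≤ a ⁻¹ᵁ U) (h₂ : U₂ ≤ c ⁻¹ᵁ U)
    (k₁ : W ≤ b ⁻¹ᵁ U₁) (k₂ : W ≤ d ⁻¹ᵁ U₂) (x : Γ(M, U)),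
    secMap b ηb k₁ (secMap a ηa h₁ x) = secMap d ηd k₂ (secMap c ηc h₂ x)

variable {ηa ηb ηc ηd}

theorem comm_godMap (hw : b ≫ a = d ≫ c) (h : Comm ηa ηb ηc ηd) :
    Comm (godMap a ηa) (godMap b ηb) (godMap c ηc) (godMap d ηd) := by
  intro U U₁ U₂ W h₁ h₂ k₁ k₂ t
  refine god_ext fun z hz => ?_
  rw [godVal_secMap, godVal_secMap, godVal_secMap, godVal_secMap]
  have e : a.base (b.base z) = c.base (d.base z) := congr($hw z)
  obtain ⟨V, hpV, hqV, s, hs₁, hs₂⟩ := exists_common_rep t e (h₁ (k₁ hz)) (h₂ (k₂ hz))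
  rw [hs₁, hs₂]
  let W' : Z.Opens := b ⁻¹ᵁ (a ⁻¹ᵁ V) ⊓ d ⁻¹ᵁ (c ⁻¹ᵁ V)
  rw [← germM_secMap a ηa (b.base z) le_rfl hpV s, ← germM_secMap c ηc (d.base z) le_rfl hqV s,
    ← germM_secMap b ηb z (inf_le_left : W' ≤ _) ⟨hpV, hqV⟩, ← germM_secMap d ηd z (inf_le_right : W' ≤ _) ⟨hpV, hqV⟩,
    h V _ _ W' le_rfl le_rfl inf_le_left inf_le_right s]

theorem comm_godQMap (hw : b ≫ a = d ≫ c) (h : Comm ηa ηb ηc ηd) :
    ∀ n, Comm (godQMap a ηa n) (godQMap b ηb n) (godQMap c ηc n) (godQMap d ηd n)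
  | 0 => h
  | n + 1 => by
    intro U U₁ U₂ W h₁ h₂ k₁ k₂ x
    haveI : Epi (godπ M n) := inferInstanceAs (Epi (cokernel.π _))
    refine sub_eq_zero.1 (eq_zero_of_locally W _ fun z hz => ?_)
    obtain ⟨V, i, hpV, t, ht⟩ := exists_local_preimage (godπ M n) x (show a.base (b.base z) ∈ U from h₁ (k₁ hz))
    have hzc : c.base (d.base z) ∈ V := (show a.base (b.base z) = c.base (d.base z) from congr($hw z)) ▸ hpV
    let W' : Z.Opens := W ⊓ (b ⁻¹ᵁ (U₁ ⊓ a ⁻¹ᵁ V) ⊓ d ⁻¹ᵁ (U₂ ⊓ c ⁻¹ᵁ V))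
    refine ⟨W', homOfLE inf_le_left, ⟨hz, ⟨k₁ hz, hpV⟩, k₂ hz, hzc⟩, ?_⟩
    rw [map_sub, map_secMap, map_secMap, sub_eq_zero]
    have l₁ : W' ≤ b ⁻¹ᵁ (U₁ ⊓ a ⁻¹ᵁ V) := inf_le_right.trans inf_le_left
    have l₂ : W' ≤ d ⁻¹ᵁ (U₂ ⊓ c ⁻¹ᵁ V) := inf_le_right.trans inf_le_right
    have e₁ : rs (godQ M₁ (n + 1)) (inf_le_left : U₁ ⊓ a ⁻¹ᵁ V ≤ U₁) (secMap a (godQMap a ηa (n + 1)) h₁ x) =
        secMap a (godQMap a ηa (n + 1)) (inf_le_right : U₁ ⊓ a ⁻¹ᵁ V ≤ a ⁻¹ᵁ V) ((godπ M n).app V t) := by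
      rw [ht, rs, map_secMap, rs, secMap_map]
    have e₂ : rs (godQ M₂ (n + 1)) (inf_le_left : U₂ ⊓ c ⁻¹ᵁ V ≤ U₂) (secMap c (godQMap c ηc (n + 1)) h₂ x) =
        secMap c (godQMap c ηc (n + 1)) (inf_le_right : U₂ ⊓ c ⁻¹ᵁ V ≤ c ⁻¹ᵁ V) ((godπ M n).app V t) := by
      rw [ht, rs, map_secMap, rs, secMap_map]
    refine ((secMap_map b (godQMap b ηb (n + 1)) inf_le_left l₁ _).symm.trans ?_).trans
      (secMap_map d (godQMap d ηd (n + 1)) inf_le_left l₂ _)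
    refine (congrArg (secMap b (godQMap b ηb (n + 1)) l₁) e₁).trans (Eq.trans ?_
      (congrArg (secMap d (godQMap d ηd (n + 1)) l₂) e₂).symm)
    rw [secMap_godπ, secMap_godπ, secMap_godπ, secMap_godπ,
      comm_godMap hw (comm_godQMap hw h n) V _ _ W' inf_le_right inf_le_right l₁ l₂ t]

end Groth.Agent.CohCore23
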