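import Groth.Agent.QCoh.CechComparison
import Groth.Agent.QCoh.ExtendFT
import Groth.Agent.QCoh.Support
import Groth.Agent.QCoh.Serre
import Mathlib.AlgebraicGeometry.Morphisms.Separated

/-!
# Vanishing for coherent modules implies vanishing for quasi-coherent modules
-/

set_option autoImplicit false
set_option linter.style.haveILetI false
set_option backward.isDefEq.respectTransparency false
set_option backward.isDefEq.respectTransparency.types false

universe u

open CategoryTheory CategoryTheory.Limits AlgebraicGeometry TopologicalSpace Opposite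

noncomputable section

namespace Groth.Agent.CohCore23.CohVan

open Groth.Agent Groth.Agent.QCoh

variable {X : Scheme.{u}}

/-- Finitely many sections on affine opens of a quasi-coherent module lie in one coherent submodule. -/
theorem exists_coh_sub [IsNoetherian X] {G : X.Modules} (hG : Coh.IsQCoh G) {κ : Type u} [Finite κ]
    (V : κ → X.Opens) (hV : ∀ k, IsAffineOpen (V k)) (t : ∀ k, Γ(G, V k)) :
    ∃ (G' : X.Modules) (i : G' ⟶ G), Mono i ∧ Coh.IsCoh G' ∧ ∀ k, ∃ z, i.app (V k) z = t k := by
  classical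
  haveI := hasFiniteBiproducts X
  haveI := Fintype.ofFinite κ
  have h : ∀ k, ∃ N : SubMod G, FTOn N ⊤ ∧ t k ∈ N.mem (V k) := fun k => by
    obtain ⟨N, hN, hsub⟩ := exists_ftOn_contains hG (hV k) (extStep_qcqs (hV k).isCompact) {t k}
      (Set.finite_singleton _)
    exact ⟨N, hN, hsub rfl⟩
  choose N hN ht using h
  let F : κ → X.Modules := fun k => (N k).toModules
  have hF : ∀ k, Coh.IsCoh (F k) := fun k =>
    ⟨isQCoh_of_ftOn hG (hN k), isFT_of_ftOn hG (hN k)⟩
  have hS : Coh.IsCoh (⨁ F) := isCoh_biproduct F hF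
  let f : (⨁ F) ⟶ G := biproduct.desc fun k => (N k).ι
  refine ⟨Abelian.coimage f, Abelian.factorThruCoimage f, inferInstance,
    isCoh_cokernel (isQCoh_kernel hS.1 hG f) hS (kernel.ι f), fun k => ?_⟩
  obtain ⟨z, hz⟩ := (N k).exists_app_eq (ht k)
  refine ⟨(Abelian.coimage.π f).app (V k) ((biproduct.ι F k).app (V k) z), ?_⟩
  show (Abelian.coimage.π f ≫ Abelian.factorThruCoimage f).app (V k) ((biproduct.ι F k).app (V k) z) = _
  rw [Abelian.coimage.fac]
  show (biproduct.ι F k ≫ f).app (V k) z = _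
  rw [biproduct.ι_desc]
  exact hz

/-- If all coherent modules have no cohomology in degree `p + 1`, then neither have quasi-coherent ones. -/
theorem subsingleton_HH_succ [IsNoetherian X] [X.IsSeparated] (p : ℕ)
    (h : ∀ F : X.Modules, Coh.IsCoh F → Subsingleton (Coh.HH X F (p + 1)))
    {G : X.Modules} (hG : Coh.IsQCoh G) : Subsingleton (Coh.HH X G (p + 1)) := by
  classical
  obtain ⟨s, hs, hsT⟩ := isCompact_iff_finite_and_eq_biUnion_affineOpens.mp
    (show IsCompact ((⊤ : X.Opens) : Set X) by simpa using isCompact_univ)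
  haveI := hs.to_subtype
  let U : s → X.Opens := fun i => i.1.1
  have hU : ∀ {q : ℕ} (σ : Fin (q + 1) → s), IsAffineOpen (⨅ a, U (σ a)) := fun σ =>
    isAffineOpen_iInf_tuple (U := U) (fun T hT => by
      induction hT using Finset.Nonempty.cons_induction with
      | singleton a => rw [Finset.iInf_singleton]; exact a.1.2
      | cons a T ha hT ih =>
        rw [Finset.cons_eq_insert, Finset.iInf_insert]
        exact a.1.2.inf ih) σ
  have hcov : ⨆ i, U i = ⊤ := by rw [hsT]; exact iSup_subtype' (p := fun i => i ∈ s) (f := fun i _ => i.1) |>.symm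
  have heq : ∀ M : X.Modules, Coh.IsQCoh M →
      Nonempty ((((Ab.natCx (abSheaf M).obj U).homology (p + 1) : AddCommGrpCat.{u})) ≃+ Coh.HH X M (p + 1)) :=
    fun M hM => Ab.natCx_H_equiv (X := X.toPresheafedSpace.carrier) hcov (stdCovers_sectionClass hU)
      (abSheaf M) (stdCovers_acyclic hM) (p + 1)
  obtain ⟨e⟩ := heq G hG
  suffices hz : ((Ab.natCx (abSheaf G).obj U)).ExactAt (p + 1) by
    haveI := AddCommGrpCat.subsingleton_of_isZero hz.isZero_homology
    exact e.symm.toEquiv.subsingleton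
  rw [HomologicalComplex.exactAt_iff' _ p (p + 1) (p + 2) (by simp) (by simp), ShortComplex.ab_exact_iff]
  simp only [HomologicalComplex.sc', HomologicalComplex.shortComplexFunctor'_obj_f,
    HomologicalComplex.shortComplexFunctor'_obj_g, Ab.natCx_d]
  intro c hc
  let W : (Fin (p + 2) → s) → X.Opens := fun σ => ⨅ a, U (σ a)
  have hW : ∀ σ, Ab.Le (X := X.toPresheafedSpace.carrier) U σ (W σ) := fun σ a => iInf_le _ a
  obtain ⟨G', i, hi, hG', ht⟩ := exists_coh_sub hG W (fun σ => hU σ) fun σ => c.1 σ ⟨W σ, hW σ⟩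
  choose y hy using ht
  let φ : (abSheaf G').obj ⟶ (abSheaf G).obj := ((toAbFunctor X).map i).hom
  have hφ : ∀ (O : X.Opens) (z : Γ(G', O)), φ.app (op O) z = i.app O z := fun O z => rfl
  let c' : Ab.Cochain (X := X.toPresheafedSpace.carrier) (abSheaf G').obj U (p + 2) := fun σ O =>
    (abSheaf G').obj.map (homOfLE (show O.1 ≤ W σ from le_iInf O.2)).op (y σ)
  have hc'n : Ab.IsNatural c' := fun σ O O' hO hO' j => Ab.map_map'' _ _ j _ (y σ)
  have hpush : Ab.push φ c' = c.1 := by
    funext σ O
    refine (congr($(φ.naturality (homOfLE (show O.1 ≤ W σ from le_iInf O.2)).op) (y σ)) : _).trans ?_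
    exact (congrArg ((abSheaf G).obj.map _) ((hφ _ _).trans (hy σ))).trans (c.2 σ (W σ) O.1 (hW σ) O.2 _)
  have hinj : ∀ {q : ℕ} (a b : Ab.Cochain (X := X.toPresheafedSpace.carrier) (abSheaf G').obj U q),
      Ab.push φ a = Ab.push φ b → a = b := fun a b hab => by
    funext σ O
    exact app_injective i O.1 (congrFun (congrFun hab σ) O)
  have hdc' : Ab.d c' = 0 := by
    refine hinj _ _ ?_
    rw [← Ab.d_push, hpush]
    funext σ O
    exact (congrArg (fun z => z.1 σ O) hc).trans (map_zero (φ.app (op O.1)).hom).symm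
  haveI := h G' hG'
  obtain ⟨e'⟩ := heq G' hG'.1
  have hz' : (Ab.natCx (abSheaf G').obj U).ExactAt (p + 1) := by
    rw [HomologicalComplex.exactAt_iff_isZero_homology]
    haveI := e'.toEquiv.subsingleton
    exact AddCommGrpCat.isZero_of_subsingleton _
  rw [HomologicalComplex.exactAt_iff' _ p (p + 1) (p + 2) (by simp) (by simp), ShortComplex.ab_exact_iff] at hz'
  simp only [HomologicalComplex.sc', HomologicalComplex.shortComplexFunctor'_obj_f,
    HomologicalComplex.shortComplexFunctor'_obj_g, Ab.natCx_d] at hz'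
  obtain ⟨b, hb⟩ := hz' ⟨c', hc'n⟩ (Subtype.ext hdc')
  refine ⟨⟨Ab.push φ b.1, Ab.push_natural φ b.2⟩, Subtype.ext ?_⟩
  show Ab.d (Ab.push φ b.1) = c.1
  rw [Ab.d_push, ← hpush]
  exact congrArg (Ab.push φ) (congrArg Subtype.val hb)

/-- Vanishing above `n` for coherent modules gives it for quasi-coherent modules. -/
theorem subsingleton_HH_of_coh [IsNoetherian X] [X.IsSeparated] (n : ℕ)
    (h : ∀ F : X.Modules, Coh.IsCoh F → ∀ i : ℕ, n < i → Subsingleton (Coh.HH X F i))
    {G : X.Modules} (hG : Coh.IsQCoh G) {i : ℕ} (hi : n < i) : Subsingleton (Coh.HH X G i) := by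
  obtain ⟨p, rfl⟩ : ∃ p, i = p + 1 := ⟨i - 1, by omega⟩
  exact subsingleton_HH_succ p (fun F hF => h F hF _ hi) hG

end Groth.Agent.CohCore23.CohVan
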