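import Groth.Agent.AmpleVan.AffineCrit
import Groth.Agent.AmpleVan.Pull
import Groth.Agent.PnCoh.Chow.Proper
import Groth.Agent.AmpleVan.Vanish
import Groth.Agent.SheafHomX.Coherent
import Groth.Agent.H23.PicInv

/-! # Vanishing for locally free sheaves on quasi-projective schemes implies it for coherent ones -/

set_option linter.style.haveILetI false
set_option backward.isDefEq.respectTransparency false
set_option backward.isDefEq.respectTransparency.types false

universe u

open CategoryTheory CategoryTheory.Limits AlgebraicGeometry TopologicalSpace Opposite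
open Groth.Agent.H23.PicMul

attribute [local instance] HasDerivedCategory.standard
attribute [local instance] Groth.Agent.QCoh.hasFiniteBiproducts

noncomputable section

namespace Groth.Agent.CohCore23

open Groth.Agent Groth.Agent.AmpleVan

variable {X : Scheme.{u}}

set_option maxHeartbeats 1000000 in
/-- With an ample module, coherent modules are quotients of finite locally free ones. -/
theorem exists_epi_finLocFree [IsLocallyNoetherian X] {L : X.Modules} (hL : CohB1.IsAmple L) {F : X.Modules} (hF : Coh.IsCoh F) :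
    ∃ (E : X.Modules) (q : E ⟶ F), FlatMod.IsFinLocFree E ∧ Epi q := by
  haveI : CompactSpace X := hL.2.1
  haveI := AmpleX.isSeparated_of_isAmple hL
  obtain ⟨D, hD, ⟨eD⟩⟩ := H23.PicInv.exists_inverse hL.1
  have hinv : PicF.cl L * PicF.cl D = 1 := by
    rw [← cl_tensor, cl_eq_iff.2 ⟨eD⟩, H23.PicMul.one_def]
  obtain ⟨N, hN⟩ := AmpleX.eventually_generated hL hF.1 hF.2
  obtain ⟨G, φ, ι, s, hs⟩ := hN N le_rfl
  have hGc : Coh.IsCoh G := SheafHomX.isCoh_of_iso φ.symm
    (isCoh_tensor hF (isCoh_invertible (InvX.isInvertible_tensorPow hL.1 _)))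
  obtain ⟨c, f, hf⟩ := exists_fin_generatedBy hGc s hs
  obtain ⟨g, hg⟩ := InvX.exists_epi_freeMod hf
  let P := CohB1.tensorPow D N
  have hP : PicF.IsInvertible P := InvX.isInvertible_tensorPow hD _
  haveI := isEquivalence_tw hP
  obtain ⟨ψ⟩ : Nonempty ((tw P).obj G ≅ F) := cl_eq_iff.1 (by
    show PicF.cl (CohB1.tensorMod G P) = _
    rw [cl_tensor, cl_eq_iff.2 ⟨φ⟩, cl_tensor, cl_tensorPow, cl_tensorPow, mul_assoc, ← mul_pow, hinv,
      one_pow, mul_one])
  let q₀ : (⨁ fun _ : Fin c => Coh.structureModule X) ⟶ G :=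
    (biproduct.isoCoproduct (fun _ : Fin c => Coh.structureModule X)).hom ≫ g
  haveI : Epi q₀ := epi_comp _ g
  exact ⟨twSum P c, (tw P).map q₀ ≫ ψ.hom, isFinLocFree_twSum hP c, epi_comp _ _⟩

/-- If finite locally free modules are acyclic above `n`, so are coherent ones. -/
theorem subsingleton_HH_of_ample [IsLocallyNoetherian X] {L : X.Modules} (hL : CohB1.IsAmple L) (n : ℕ)
    (h : ∀ E : X.Modules, FlatMod.IsFinLocFree E → ∀ i, n < i → Subsingleton (Coh.HH X E i))
    {F : X.Modules} (hF : Coh.IsCoh F) {i : ℕ} (hi : n < i) : Subsingleton (Coh.HH X F i) := by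
  haveI : CompactSpace X := hL.2.1
  haveI := AmpleX.isSeparated_of_isAmple hL
  obtain ⟨d, hd⟩ := QCoh.exists_HH_bound (X := X)
  suffices H : ∀ (j : ℕ) (F : X.Modules), Coh.IsCoh F → ∀ i, n < i → d ≤ i + j →
      Subsingleton (Coh.HH X F i) from H d F hF i hi (by omega)
  intro j
  induction j with
  | zero => intro F hF i _ hid; exact hd F hF.1 i (by omega)
  | succ j ih =>
    intro F hF i hi hid
    obtain ⟨E, q, hE, hq⟩ := exists_epi_finLocFree hL hF
    haveI := hq
    let S : ShortComplex X.Modules := ShortComplex.mk (kernel.ι q) q (kernel.condition q)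
    have hS : S.ShortExact := { exact := ShortComplex.exact_of_f_is_kernel _ (kernelIsKernel q) }
    have hEq := QCoh.isQCoh_of_isFinLocFree hE
    have hK : Coh.IsCoh (kernel q) := QCoh.isCoh_of_mono (kernel.ι q)
      ⟨hEq, QCoh.isFT_of_isFP (QCoh.isFP_of_isFinLocFree hE)⟩ (QCoh.isQCoh_kernel hEq hF.1 q)
    exact PnCoh.Finite.subsingleton_HH_X₃ hS i (h E hE i hi) (ih _ hK (i + 1) (by omega) (by omega))

/-- The quasi-projective case. -/
theorem subsingleton_HH_of_immersion_projSpace {k : Type u} [Field k] {N : ℕ}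
    (ι : X ⟶ CohB1.ProjSpace N k) [IsImmersion ι]
    (n : ℕ) (h : ∀ E : X.Modules, FlatMod.IsFinLocFree E → ∀ i, n < i → Subsingleton (Coh.HH X E i))
    {F : X.Modules} (hF : Coh.IsCoh F) {i : ℕ} (hi : n < i) : Subsingleton (Coh.HH X F i) := by
  haveI : IsProper (CohB1.ProjSpace.toSpec N k) := PnCoh.Chow.isProper_toSpec N k
  haveI : IsLocallyNoetherian (CohB1.ProjSpace N k) :=
    LocallyOfFiniteType.isLocallyNoetherian (CohB1.ProjSpace.toSpec N k)
  haveI : IsLocallyNoetherian X := LocallyOfFiniteType.isLocallyNoetherian ι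
  haveI : CompactSpace (CohB1.ProjSpace N k) :=
    QuasiCompact.compactSpace_of_compactSpace (CohB1.ProjSpace.toSpec N k)
  haveI : IsNoetherian (CohB1.ProjSpace N k) := {}
  haveI : NoetherianSpace X := ι.isEmbedding.isInducing.noetherianSpace
  obtain ⟨L₀, hL₀⟩ := exists_ample_of_closedImmersion_projSpace (𝟙 (CohB1.ProjSpace N k))
  exact subsingleton_HH_of_ample (isAmple_pullback_of_isEmbedding ι ι.isEmbedding hL₀) n h hF hi

end Groth.Agent.CohCore23
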