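import Groth.Agent.QCoh.FlatBC
import Mathlib.AlgebraicGeometry.Morphisms.Flat
import Mathlib.LinearAlgebra.TensorProduct.Pi

/-! # Sections of inverse images over fibre products, after flat base change -/

set_option backward.isDefEq.respectTransparency false
set_option backward.isDefEq.respectTransparency.types false
set_option linter.style.haveILetI false

universe u

open CategoryTheory CategoryTheory.Limits AlgebraicGeometry TopologicalSpace Opposite
open scoped TensorProduct

noncomputable section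

namespace Groth.Agent.CohCore23.BC

open Groth.Agent.QCoh

variable {X : Scheme.{u}} {A : Type u} [CommRing A]

/-- Sections of `M` over `P`, as a module over a ring mapping to the functions on `P`. -/
def Sec (M : X.Modules) (P : X.Opens) (_φ : A →+* Γ(X, P)) : Type u := Γ(M, P)

instance (M : X.Modules) (P : X.Opens) (φ : A →+* Γ(X, P)) : AddCommGroup (Sec M P φ) :=
  inferInstanceAs (AddCommGroup Γ(M, P))

instance (M : X.Modules) (P : X.Opens) (φ : A →+* Γ(X, P)) : Module A (Sec M P φ) :=
  Module.compHom (R := Γ(X, P)) (Γ(M, P)) φ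

/-- Sections as a module over the functions on the open set. -/
instance secModule (M : X.Modules) (P : X.Opens) (φ : A →+* Γ(X, P)) : Module Γ(X, P) (Sec M P φ) :=
  inferInstanceAs (Module Γ(X, P) Γ(M, P))

/-- Scalars on an open inside `T`. -/
abbrev sc {T P : X.Opens} (φ : A →+* Γ(X, T)) (h : P ≤ T) : A →+* Γ(X, P) :=
  (X.presheaf.map (homOfLE h).op).hom.comp φ

/-- Sections over opens inside `T`. -/
abbrev S {T : X.Opens} (M : X.Modules) (φ : A →+* Γ(X, T)) (P : X.Opens) (h : P ≤ T) : Type u :=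
  Sec M P (sc φ h)

/-- Restriction. -/
def res {T : X.Opens} (M : X.Modules) (φ : A →+* Γ(X, T)) {P P' : X.Opens} (h : P ≤ T) (h' : P' ≤ T)
    (i : P' ≤ P) : S M φ P h →ₗ[A] S M φ P' h' where
  toFun := M.presheaf.map (homOfLE i).op
  map_add' := map_add _
  map_smul' a x := (map_smul' (homOfLE i) (sc φ h a) (show Γ(M, P) from x)).trans
    (congrArg (fun r : Γ(X, P') => r • M.presheaf.map (homOfLE i).op (show Γ(M, P) from x))
      (ringMap_map (homOfLE i) (homOfLE h) (φ a)))

variable {X' : Scheme.{u}} (g : X' ⟶ X) {B : Type u} [CommRing B] [Algebra A B]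
  {T : X.Opens} {Q : X'.Opens} (hQ : Q ≤ g ⁻¹ᵁ T) (φ : A →+* Γ(X, T)) (φ' : B →+* Γ(X', Q))
  (M : X.Modules)

/-- The open over `P`. -/
abbrev up (Q : X'.Opens) (P : X.Opens) : X'.Opens := g ⁻¹ᵁ P ⊓ Q

/-- Sections upstairs. -/
abbrev N (P : X.Opens) : Type u :=
  Sec ((Scheme.Modules.pullback g).obj M) (up g Q P) (sc φ' inf_le_right)

/-- Sections upstairs as a module downstairs. -/
instance moduleA (P : X.Opens) : Module A (N g (Q := Q) φ' M P) :=
  Module.compHom _ (algebraMap A B)

instance (P : X.Opens) : IsScalarTower A B (N g (Q := Q) φ' M P) :=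
  .of_algebraMap_smul fun _ _ => rfl

/-- Compatibility of the scalars. -/
def Compat : Prop := ∀ a, g.appLE T Q hQ (φ a) = φ' (algebraMap A B a)

variable {g hQ φ φ'} (hc : Compat g hQ φ φ')

include hc in
theorem compat_le {P : X.Opens} (h : P ≤ T) (a : A) :
    g.appLE P (up g Q P) inf_le_left (sc φ h a) = sc φ' inf_le_right (algebraMap A B a) := by
  show g.appLE P (up g Q P) inf_le_left (X.presheaf.map (homOfLE h).op (φ a)) =
    X'.presheaf.map (homOfLE (inf_le_right : up g Q P ≤ Q)).op (φ' (algebraMap A B a))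
  rw [← hc a, ← ConcreteCategory.comp_apply, ← ConcreteCategory.comp_apply, Scheme.Hom.map_appLE,
    Scheme.Hom.appLE_map]

/-- Pullback of sections. -/
def alpha (P : X.Opens) (h : P ≤ T) : S M φ P h →ₗ[A] N g (Q := Q) φ' M P where
  toFun x := pullSec g M (inf_le_left : up g Q P ≤ g ⁻¹ᵁ P) (show Γ(M, P) from x)
  map_add' := pullSec_add g M _
  map_smul' a x := (pullSec_smul g M _ (sc φ h a) (show Γ(M, P) from x)).trans
    (congrArg (fun r : Γ(X', up g Q P) => r • pullSec g M (inf_le_left : up g Q P ≤ g ⁻¹ᵁ P) (show Γ(M, P) from x))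
      (compat_le hc h a))

/-- The comparison map. -/
def psi (P : X.Opens) (h : P ≤ T) : B ⊗[A] S M φ P h →ₗ[B] N g (Q := Q) φ' M P :=
  LinearMap.liftBaseChange B (alpha M hc P h)

/-- Restriction upstairs. -/
def resN (φ' : B →+* Γ(X', Q)) {P P' : X.Opens} (i : P' ≤ P) :
    N g (Q := Q) φ' M P →ₗ[B] N g (Q := Q) φ' M P' :=
  res ((Scheme.Modules.pullback g).obj M) φ' inf_le_right inf_le_right
    (inf_le_inf_right Q (g.preimage_mono i))

theorem resN_psi {P P' : X.Opens} (h : P ≤ T) (h' : P' ≤ T) (i : P' ≤ P) (z : B ⊗[A] S M φ P h) :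
    resN M φ' i (psi M hc P h z) = psi M hc P' h' ((res M φ h h' i).baseChange B z) := by
  induction z using TensorProduct.induction_on with
  | zero => simp
  | tmul b x =>
    rw [psi, psi, LinearMap.baseChange_tmul, LinearMap.liftBaseChange_tmul,
      LinearMap.liftBaseChange_tmul, map_smul]
    refine congrArg (b • ·) ?_
    let M' := (Scheme.Modules.pullback g).obj M
    show M'.presheaf.map (homOfLE (inf_le_inf_right Q (g.preimage_mono i))).op
      (pullSec g M _ (show Γ(M, P) from x)) =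
        pullSec g M _ (M.presheaf.map (homOfLE i).op (show Γ(M, P) from x))
    simp only [pullSec]
    refine Eq.trans ?_ (congrArg (M'.presheaf.map (homOfLE inf_le_left).op)
      (map_app_comm ((Scheme.Modules.pullbackPushforwardAdjunction g).unit.app M) (homOfLE i)
        (show Γ(M, P) from x))).symm
    exact (map_map (M := M') _ _ _).trans ((map_map (M := M')
      (homOfLE (inf_le_left : up g Q P' ≤ g ⁻¹ᵁ P')) (homOfLE (g.preimage_mono i))
      (show Γ(M', g ⁻¹ᵁ P) from ((Scheme.Modules.pullbackPushforwardAdjunction g).unit.app M).app P x)).symm)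
  | add a b ha hb => simp [ha, hb]

theorem piRight_baseChange {ι : Type*} [Fintype ι] [DecidableEq ι] {W : Type u} [AddCommGroup W]
    [Module A W] (N : ι → Type u) [∀ i, AddCommGroup (N i)] [∀ i, Module A (N i)]
    (r : ∀ i, W →ₗ[A] N i) (z : B ⊗[A] W) (i : ι) :
    TensorProduct.piRight A B B N ((LinearMap.pi r).baseChange B z) i = (r i).baseChange B z := by
  induction z using TensorProduct.induction_on with
  | zero => simp
  | tmul b x => simp
  | add a b ha hb => rw [map_add, map_add, Pi.add_apply, ha, hb, map_add]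

/-- On affine opens inside `T`. -/
def AffBC : Prop :=
  ∀ (U : X.Opens) (h : U ≤ T), IsAffineOpen U → Function.Bijective (psi M hc U h)

variable [Module.Flat A B] (ha : AffBC M hc)

include ha in
theorem psi_injective {P : X.Opens} (hP : IsCompact (P : Set X)) (h : P ≤ T) :
    Function.Injective (psi M hc P h) := by
  classical
  obtain ⟨s, hs, hcov⟩ := isCompact_iff_finite_and_eq_biUnion_affineOpens.mp hP
  haveI : Fintype s := hs.fintype
  have hU : ∀ U : s, U.1.1 ≤ P := fun U =>
    (le_iSup₂ (f := fun (W : X.affineOpens) (_ : W ∈ s) => W.1) U.1 U.2).trans hcov.ge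
  let r : S M φ P h →ₗ[A] ∀ U : s, S M φ U.1.1 ((hU U).trans h) :=
    LinearMap.pi fun U => res M φ h _ (hU U)
  have hr : Function.Injective r := (injective_iff_map_eq_zero _).2 fun x hx =>
    eq_zero_of_locally (M := M) P x fun p hp => by
      obtain ⟨U, hpU⟩ := Opens.mem_iSup.1 (hcov.le hp)
      obtain ⟨hUs, hpU⟩ := Opens.mem_iSup.1 hpU
      exact ⟨U.1, homOfLE (hU ⟨U, hUs⟩), hpU, congrFun hx ⟨U, hUs⟩⟩
  refine (injective_iff_map_eq_zero _).2 fun z hz => ?_
  refine Module.Flat.lTensor_preserves_injective_linearMap (M := B) r hr ?_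
  rw [map_zero]
  refine (TensorProduct.piRight A B B _).injective (funext fun U => ?_)
  rw [map_zero]
  refine (piRight_baseChange _ _ z U).trans ((ha _ _ U.1.2).1 ?_)
  rw [← resN_psi M hc h ((hU U).trans h) (hU U), hz, map_zero]
  exact (map_zero _).symm

include ha in
theorem psi_bijective {P : X.Opens} (hP : IsCompact (P : Set X))
    (hqs : ∀ U U' : X.affineOpens, U.1 ≤ P → U'.1 ≤ P → IsCompact ((U.1 ⊓ U'.1 : X.Opens) : Set X))
    (h : P ≤ T) : Function.Bijective (psi M hc P h) := by
  classical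
  refine ⟨psi_injective M hc ha hP h, fun y => ?_⟩
  obtain ⟨s, hs, hcov⟩ := isCompact_iff_finite_and_eq_biUnion_affineOpens.mp hP
  haveI : Fintype s := hs.fintype
  have hU : ∀ U : s, U.1.1 ≤ P := fun U =>
    (le_iSup₂ (f := fun (W : X.affineOpens) (_ : W ∈ s) => W.1) U.1 U.2).trans hcov.ge
  have hUT : ∀ U : s, U.1.1 ≤ T := fun U => (hU U).trans h
  have hV : ∀ p : s × s, p.1.1.1 ⊓ p.2.1.1 ≤ T := fun p => inf_le_left.trans (hUT p.1)
  let r : S M φ P h →ₗ[A] ∀ U : s, S M φ U.1.1 (hUT U) :=
    LinearMap.pi fun U => res M φ h _ (hU U)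
  let δ : (∀ U : s, S M φ U.1.1 (hUT U)) →ₗ[A] ∀ p : s × s, S M φ (p.1.1.1 ⊓ p.2.1.1) (hV p) :=
    LinearMap.pi fun p => (res M φ (hUT p.1) (hV p) inf_le_left).comp (LinearMap.proj p.1) -
      (res M φ (hUT p.2) (hV p) inf_le_right).comp (LinearMap.proj p.2)
  have hex : Function.Exact r δ := by
    intro m
    constructor
    · intro hm
      let sec : ∀ U : s, Γ(M, U.1.1) := m
      have hcompat : TopCat.Presheaf.IsCompatible (X := X.toPresheafedSpace.carrier) M.presheaf
          (fun U : s => U.1.1) sec := fun U U' => sub_eq_zero.1 (congrFun hm (U, U'))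
      obtain ⟨x, hx, -⟩ := TopCat.Sheaf.existsUnique_gluing' (X := X.toPresheafedSpace.carrier)
        (⟨M.presheaf, M.isSheaf⟩ : TopCat.Sheaf AddCommGrpCat.{u} X.toPresheafedSpace.carrier)
        (fun U : s => U.1.1) P (fun U => homOfLE (hU U)) (fun p hp => by
          obtain ⟨U, hpU⟩ := Opens.mem_iSup.1 (hcov.le hp)
          obtain ⟨hUs, hpU⟩ := Opens.mem_iSup.1 hpU
          exact Opens.mem_iSup.2 ⟨⟨U, hUs⟩, hpU⟩) sec hcompat
      exact ⟨x, funext fun U => hx U⟩
    · rintro ⟨x, rfl⟩
      funext p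
      show M.presheaf.map _ (M.presheaf.map _ (show Γ(M, P) from x)) -
        M.presheaf.map _ (M.presheaf.map _ (show Γ(M, P) from x)) = 0
      rw [map_map, map_map]
      exact sub_eq_zero.2 rfl
  choose z hz using fun U : s => (ha _ (hUT U) U.1.2).2 (resN M φ' (hU U) y)
  let w := (TensorProduct.piRight A B B fun U : s => S M φ U.1.1 (hUT U)).symm z
  have hw : ∀ U, ((LinearMap.proj U : (∀ U : s, S M φ U.1.1 (hUT U)) →ₗ[A] _)).baseChange B w = z U := by
    intro U
    have key : ∀ v, ((LinearMap.proj U : (∀ U : s, S M φ U.1.1 (hUT U)) →ₗ[A] _)).baseChange B v =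
        TensorProduct.piRight A B B (fun U : s => S M φ U.1.1 (hUT U)) v U := fun v => by
      induction v using TensorProduct.induction_on with
      | zero => simp
      | tmul b x => simp
      | add a b ha hb => simp [ha, hb]
    rw [key]
    exact congrFun ((TensorProduct.piRight A B B _).apply_symm_apply z) U
  have hδ : δ.lTensor B w = 0 := by
    refine (TensorProduct.piRight A B B _).injective (funext fun p => ?_)
    rw [map_zero]
    refine (piRight_baseChange _ _ w p).trans ((psi_injective M hc ha (hqs p.1.1 p.2.1 (hU _) (hU _)) (hV p)) ?_)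
    rw [LinearMap.baseChange_sub, LinearMap.baseChange_comp, LinearMap.baseChange_comp,
      LinearMap.sub_apply, LinearMap.comp_apply, LinearMap.comp_apply, hw, hw, map_sub,
      ← resN_psi M hc (hUT p.1) (hV p), ← resN_psi M hc (hUT p.2) (hV p), hz, hz]
    refine Eq.trans (sub_eq_zero.2 ?_) (map_zero _).symm
    let M' := (Scheme.Modules.pullback g).obj M
    show M'.presheaf.map _ (M'.presheaf.map _ (show Γ(M', up g Q P) from y)) =
      M'.presheaf.map _ (M'.presheaf.map _ (show Γ(M', up g Q P) from y))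
    rw [map_map, map_map]
    rfl
  obtain ⟨v, hv⟩ := (Module.Flat.lTensor_exact B hex w).1 hδ
  refine ⟨v, sub_eq_zero.1 ?_⟩
  refine eq_zero_of_locally (M := (Scheme.Modules.pullback g).obj M) (up g Q P) _ fun p hp => ?_
  obtain ⟨U, hpU⟩ := Opens.mem_iSup.1 (hcov.le hp.1)
  obtain ⟨hUs, hpU⟩ := Opens.mem_iSup.1 hpU
  refine ⟨up g Q U.1, homOfLE (inf_le_inf_right Q (g.preimage_mono (hU ⟨U, hUs⟩))), ⟨hpU, hp.2⟩, ?_⟩
  show resN M φ' (hU ⟨U, hUs⟩) (psi M hc P h v - y) = 0
  rw [map_sub, sub_eq_zero, resN_psi M hc h (hUT ⟨U, hUs⟩), ← hz ⟨U, hUs⟩]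
  refine congrArg _ (Eq.trans ?_ (hw ⟨U, hUs⟩))
  rw [← hv]
  show _ = ((LinearMap.proj (⟨U, hUs⟩ : s)).baseChange B) (r.baseChange B v)
  rw [← LinearMap.comp_apply, ← LinearMap.baseChange_comp]
  rfl

end Groth.Agent.CohCore23.BC
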