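import Groth.Agent.QCoh.Serre
import Groth.Agent.QCoh.ExtendFT
import Groth.Agent.QCoh.GodHH
import Groth.Agent.QCoh.DevissageSum

/-! # Serre's criterion with ideals of finite type -/

universe u

set_option backward.isDefEq.respectTransparency false
set_option backward.isDefEq.respectTransparency.types false

open CategoryTheory CategoryTheory.Limits AlgebraicGeometry TopologicalSpace Opposite CategoryTheory.Abelian

namespace Groth.Agent.CohCore23

open Groth.Agent.QCoh

attribute [local instance] Groth.Agent.QCoh.hasFiniteBiproducts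

variable {X : Scheme.{u}}

/-- An epimorphism of modules lifts sections locally. -/
theorem exists_local_lift {M N : X.Modules} (g : M ⟶ N) [Epi g] {U : X.Opens} (z : Γ(N, U)) {x : X}
    (hx : x ∈ U) : ∃ (V : X.Opens) (i : V ≤ U), x ∈ V ∧
      ∃ m : Γ(M, V), g.app V m = N.presheaf.map (homOfLE i).op z := by
  obtain ⟨V, i, hV, hxV⟩ := (((Sheaf.isLocallySurjective_iff_epi' _
    ((SheafOfModules.toSheaf X.ringCatSheaf).map g)).2 inferInstance).imageSieve_mem z) x hx
  exact ⟨V, leOfHom i, hxV, hV⟩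

/-- Lifting global sections for all extensions by `F` kills the first cohomology of `F`. -/
theorem subsingleton_HH_one (F : X.Modules)
    (h : ∀ S : ShortComplex X.Modules, S.ShortExact → S.X₁ = F → Function.Surjective (S.g.app ⊤)) :
    Subsingleton (Coh.HH X F 1) := by
  let S : ShortComplex X.Modules :=
    ShortComplex.mk (toGod F) (cokernel.π (toGod F)) (cokernel.condition _)
  have hS : S.ShortExact :=
    { exact := ShortComplex.exact_of_g_is_cokernel _ (cokernelIsCokernel _) }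
  let T := S.map (toAbFunctor X)
  have hT : T.ShortExact := toAb_shortExact hS
  haveI : Subsingleton (Coh.HH X (God F) 1) := subsingleton_HH_God F 0
  refine subsingleton_of_forall_eq 0 fun y => ?_
  obtain ⟨x, hx⟩ := Ext.covariant_sequence_exact₁ _ hT (n₁ := 1) y
    (Subsingleton.elim (α := Coh.HH X (God F) 1) _ _) (zero_add 1)
  obtain ⟨p, hp⟩ := h S hS rfl (Sheaf.H.equiv₀ T.X₃ isTerminalTop x)
  have hx' : Sheaf.H.map T.g 0 ((Sheaf.H.equiv₀ T.X₂ isTerminalTop).symm p) = x := by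
    refine (Sheaf.H.equiv₀ T.X₃ isTerminalTop).injective ?_
    refine (Sheaf.H.equiv₀_naturality isTerminalTop T.g _).symm.trans ?_
    rw [AddEquiv.apply_symm_apply]
    exact hp
  rw [← hx, ← hx']
  exact (Ext.comp_assoc _ (Ext.mk₀ T.g) hT.extClass (add_zero 0) (zero_add 1) (by omega)).trans
    ((congrArg (Ext.comp _ · _) hT.comp_extClass).trans (Ext.comp_zero _ _ _ _ _))

/-- On a quasi-compact quasi-separated scheme, a quasi-coherent module whose finite type submodules
have no `H¹` has no `H¹`. -/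
theorem subsingleton_HH_one_of_ft [CompactSpace X] [QuasiSeparatedSpace X] {F : X.Modules}
    (hF : Coh.IsQCoh F)
    (h : ∀ (N : X.Modules) (j : N ⟶ F), Mono j → Coh.IsCoh N → Subsingleton (Coh.HH X N 1)) :
    Subsingleton (Coh.HH X F 1) := by
  classical
  refine subsingleton_HH_one F ?_
  intro S hS hSF
  subst hSF
  intro q
  let g := S.g
  let f := S.f
  let A := S.X₁
  let B := S.X₂
  let C := S.X₃
  have w : f ≫ g = 0 := S.zero
  haveI : Epi g := hS.epi_g
  haveI : Mono f := hS.mono_f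
  -- finitely many affine opens with lifts
  have hlift : ∀ x : X, ∃ V : X.Opens, IsAffineOpen V ∧ x ∈ V ∧
      ∃ e : Γ(B, V), g.app V e = C.presheaf.map (homOfLE le_top).op q := by
    intro x
    obtain ⟨W, i, hxW, e, he⟩ := exists_local_lift g q (x := x) trivial
    obtain ⟨_, ⟨V, hV, rfl⟩, hxV, hle⟩ := X.isBasis_affineOpens.exists_subset_of_mem_open hxW W.2
    refine ⟨V, hV, hxV, B.presheaf.map (homOfLE hle).op e, ?_⟩
    exact (map_app_comm g _ e).trans ((congrArg _ he).trans (map_map _ _ _))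
  choose V hV hxV e he using hlift
  obtain ⟨t, ht⟩ := isCompact_univ.elim_finite_subcover (fun x => (V x : Set X))
    (fun x => (V x).2) fun x _ => Set.mem_iUnion.2 ⟨x, hxV x⟩
  -- the differences, on finitely many affine pieces of the overlaps
  let P := {p : X × X // p.1 ∈ t ∧ p.2 ∈ t}
  haveI : Fintype P := Fintype.subtype (t ×ˢ t) fun p => Finset.mem_product
  have hov : ∀ p : P, ∃ s : Set X.affineOpens, s.Finite ∧
      V p.1.1 ⊓ V p.1.2 = ⨆ i ∈ s, (i : X.Opens) := by
    intro p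
    have hc : IsCompact ((V p.1.1 ⊓ V p.1.2 : X.Opens) : Set X) :=
      QuasiSeparatedSpace.inter_isCompact _ _ (V p.1.1).2 (hV p.1.1).isCompact
        (V p.1.2).2 (hV p.1.2).isCompact
    refine (isCompact_iff_finite_and_eq_biUnion_affineOpens.mp hc).imp fun s hs => ⟨hs.1, ?_⟩
    exact hs.2
  choose s hsfin hseq using hov
  haveI : ∀ p, Fintype (s p) := fun p => (hsfin p).fintype
  have hle : ∀ (p : P) (W : s p), (W.1 : X.Opens) ≤ V p.1.1 ⊓ V p.1.2 := fun p W =>
    (hseq p).symm ▸ le_iSup₂ (f := fun i (_ : i ∈ s p) => (i : X.Opens)) W.1 W.2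
  have hd : ∀ k : (Σ p : P, s p), ∃ a : Γ(A, k.2.1.1), f.app k.2.1.1 a =
      B.presheaf.map (homOfLE ((hle k.1 k.2).trans inf_le_left)).op (e k.1.1.1) -
      B.presheaf.map (homOfLE ((hle k.1 k.2).trans inf_le_right)).op (e k.1.1.2) := by
    rintro ⟨p, W⟩
    refine exists_app_f_eq hS W.1.1 _ ?_
    show g.app _ _ = 0
    rw [map_sub, map_app_comm, map_app_comm, he, he, map_map, map_map]
    exact sub_eq_zero.2 rfl
  choose d hd using hd
  -- a submodule of finite type containing them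
  have hN : ∀ k : (Σ p : P, s p), ∃ (N : X.Modules) (j : N ⟶ A), Mono j ∧ Coh.IsCoh N ∧
      ∃ z, j.app k.2.1.1 z = d k := by
    intro k
    obtain ⟨N, hN, hsub⟩ := exists_ftOn_contains hF k.2.1.2 (extStep_qcqs k.2.1.2.isCompact) {d k}
      (Set.finite_singleton _)
    exact ⟨N.toModules, N.ι, inferInstance, ⟨isQCoh_of_ftOn hF hN, isFT_of_ftOn hF hN⟩,
      N.exists_app_eq (hsub rfl)⟩
  choose N j hj hNc z hz using hN
  let τ : ULift.{u} (Σ p : P, s p) → X.Modules := fun k => N k.down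
  let σ : (⨁ τ) ⟶ A := biproduct.desc fun k => j k.down
  have hτ : Coh.IsCoh (⨁ τ) := isCoh_biproduct τ fun k => hNc k.down
  let π := Abelian.coimage.π σ
  let jM := Abelian.factorThruCoimage σ
  have hjM : π ≫ jM = σ := Abelian.coimage.fac σ
  have hMc : Coh.IsCoh (Abelian.coimage σ) :=
    isCoh_cokernel (isQCoh_kernel hτ.1 hF σ) hτ _
  let ι' := jM ≫ f
  let S' : ShortComplex X.Modules := ShortComplex.mk ι' (cokernel.π ι') (cokernel.condition _)
  have hS' : S'.ShortExact :=
    { exact := ShortComplex.exact_of_g_is_cokernel _ (cokernelIsCokernel _) }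
  -- the lifts agree modulo it
  let c : ∀ a : t, Γ(cokernel ι', V a.1) := fun a => (cokernel.π ι').app (V a.1) (e a.1)
  have hcompat : TopCat.Presheaf.IsCompatible (X := X.toPresheafedSpace.carrier) (cokernel ι').presheaf
      (fun a : t => V a.1) c := by
    intro a b
    refine sub_eq_zero.1 (eq_zero_of_locally _ _ fun p hp => ?_)
    have hp' : p ∈ ⨆ i ∈ s ⟨(a.1, b.1), a.2, b.2⟩, (i : X.Opens) := hseq ⟨(a.1, b.1), a.2, b.2⟩ ▸ hp
    obtain ⟨W, hW, hpW⟩ : ∃ W, W ∈ s ⟨(a.1, b.1), a.2, b.2⟩ ∧ p ∈ (W : X.Opens) := by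
      obtain ⟨W, hpW⟩ := Opens.mem_iSup.1 hp'
      obtain ⟨hW, hpW⟩ := Opens.mem_iSup.1 hpW
      exact ⟨W, hW, hpW⟩
    let k : (Σ p : P, s p) := ⟨⟨(a.1, b.1), a.2, b.2⟩, ⟨W, hW⟩⟩
    refine ⟨W.1, homOfLE (hle k.1 k.2), hpW, ?_⟩
    rw [map_sub]
    have h1 : ι'.app W.1 (π.app W.1 ((biproduct.ι τ ⟨k⟩).app W.1 (z k))) = f.app W.1 (d k) := by
      refine congrArg (f.app W.1) ?_
      refine (congr(($hjM).app W.1 _) : _).trans ?_
      exact (congr(($(biproduct.ι_desc (fun k : ULift.{u} (Σ p : P, s p) => j k.down) ⟨k⟩)).app W.1 (z k)) : _).trans (hz k)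
    have h2 : (cokernel.π ι').app W.1 (f.app W.1 (d k)) = 0 := by
      rw [← h1]
      exact congr(($(cokernel.condition ι')).app W.1 _)
    rw [show f.app W.1 (d k) = _ from hd k, map_sub, map_app_comm, map_app_comm] at h2
    refine Eq.trans ?_ h2
    exact congrArg₂ (· - ·) (map_map (M := cokernel ι') _ _ _) (map_map (M := cokernel ι') _ _ _)
  obtain ⟨q', hq', -⟩ := TopCat.Sheaf.existsUnique_gluing' (X := X.toPresheafedSpace.carrier)
    (⟨(cokernel ι').presheaf, (cokernel ι').isSheaf⟩ : TopCat.Sheaf AddCommGrpCat.{u} X.toPresheafedSpace.carrier)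
    _ ⊤ (fun _ => homOfLE le_top)
    (fun p _ => by
      obtain ⟨x, hx, hp⟩ := Set.mem_iUnion₂.1 (ht (Set.mem_univ p))
      exact Opens.mem_iSup.2 ⟨⟨x, hx⟩, hp⟩) _ hcompat
  obtain ⟨E, hE⟩ := app_top_surjective_of_HH_one hS' (h _ jM inferInstance hMc) q'
  refine ⟨E, sub_eq_zero.1 (eq_zero_of_locally _ _ fun p _ => ?_)⟩
  obtain ⟨x, hx, hp⟩ := Set.mem_iUnion₂.1 (ht (Set.mem_univ p))
  refine ⟨V x, homOfLE le_top, hp, ?_⟩
  show C.presheaf.map _ (g.app ⊤ E - q) = 0
  have h0 : (cokernel.π ι').app (V x) (B.presheaf.map (homOfLE le_top).op E - e x) = 0 := by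
    rw [map_sub, map_app_comm, sub_eq_zero]
    exact (congrArg _ hE).trans (hq' ⟨x, hx⟩)
  obtain ⟨m, hm⟩ := exists_app_f_eq hS' (V x) _ h0
  rw [map_sub, ← map_app_comm, ← he x, ← map_sub, ← hm]
  exact congr(($(show ι' ≫ g = 0 by rw [Category.assoc, w, comp_zero])).app (V x) m)

theorem isAffine_of_HH_one_ft [CompactSpace X] [QuasiSeparatedSpace X]
    (h : ∀ (I : X.Modules) (i : I ⟶ Coh.structureModule X), Mono i →
      Coh.IsQCoh I → CohB1.IsFT I → Subsingleton (Coh.HH X I 1)) : IsAffine X :=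
  isAffine_of_HH_one fun F i _ hF => subsingleton_HH_one_of_ft hF fun N j _ hN =>
    h N (j ≫ i) inferInstance hN.1 hN.2

end Groth.Agent.CohCore23
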