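import Groth.Agent.KZ.PerfCoh
import Groth.Agent.RelTildeX.SheafCrit
import Groth.Agent.PnCoh.Unit
import Groth.Agent.QCoh.Tilde
import Groth.Agent.SheafHomX.Coherent

/-! # Direct images from an open of coherent modules supported in a closed subset -/

set_option linter.style.haveILetI false

universe u

open CategoryTheory CategoryTheory.Limits AlgebraicGeometry TopologicalSpace Opposite

noncomputable section

namespace Groth.Agent.CohCore23

open Groth.Agent

variable {X : Scheme.{u}}

/-- The zero module is coherent, on any scheme. -/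
theorem isCoh_of_isZero {M : X.Modules} (h : IsZero M) : Coh.IsCoh M := by
  have hq : Coh.IsQCoh M := (QCoh.isQCoh_iff_iso
    (h.iso (isZero_kernel_of_mono (𝟙 (Coh.structureModule X))))).2
    (QCoh.isQCoh_kernel (PnCoh.isQCoh_structureModule X) (PnCoh.isQCoh_structureModule X) _)
  refine QCoh.isCoh_iff.2 ⟨hq, fun U => ?_⟩
  haveI : Subsingleton Γ(M, U.1) := by
    refine ⟨fun a b => ?_⟩
    have e : ∀ c : Γ(M, U.1), c = 0 := fun c =>
      (show c = (𝟙 M : M ⟶ M).app U.1 c from rfl).trans (by rw [(IsZero.iff_id_eq_zero M).1 h]; rfl)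
    exact (e a).trans (e b).symm
  exact inferInstance

theorem isCoh_push_of_support_subset (U : X.Opens) (T : Set X) (hT : IsClosed T) (hTU : T ⊆ (U : Set X))
    {F : (↑U : Scheme.{u}).Modules} (hF : Coh.IsCoh F)
    (hs : ∀ x : U.toScheme, x ∈ CohB1.support F → U.ι.base x ∈ T) :
    Coh.IsCoh ((Scheme.Modules.pushforward U.ι).obj F) := by
  refine KZ.isCoh_of_local fun x => ?_
  by_cases hx : x ∈ U
  · refine ⟨U.toScheme, U.ι, inferInstance, ⟨⟨x, hx⟩, rfl⟩, ?_⟩
    exact SheafHomX.isCoh_of_iso ((asIso ((Scheme.Modules.restrictAdjunction U.ι).counit.app F)).symm) hF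
  · let V : X.Opens := ⟨Tᶜ, hT.isOpen_compl⟩
    refine ⟨V.toScheme, V.ι, inferInstance, ⟨⟨x, fun h => hx (hTU h)⟩, rfl⟩, ?_⟩
    refine isCoh_of_isZero (RelTildeX.isZero_of_locally _ fun p => ⟨⊤, trivial, fun W _ => ⟨fun a b => ?_⟩⟩)
    have e : ∀ c : Γ(F, U.ι ⁻¹ᵁ (V.ι ''ᵁ W)), c = 0 := fun c => by
      refine QCoh.eq_zero_of_locally _ c fun q hq => ?_
      have hqT : U.ι.base q ∉ T := by
        obtain ⟨r, -, hr⟩ := hq
        rw [← hr]; exact r.2
      haveI : Subsingleton (F.presheaf.stalk q) := by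
        by_contra h
        exact hqT (hs q h)
      obtain ⟨W', hqW', i, j, hW'⟩ := F.presheaf.germ_eq q hq hq c 0 (Subsingleton.elim _ _)
      exact ⟨W', i, hqW', hW'.trans (map_zero _)⟩
    exact (e a).trans (e b).symm

end Groth.Agent.CohCore23
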