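import Groth.Agent.KFlatLib.Scheme.Exact
import Groth.Agent.QCoh.LocFree
import Groth.Agent.RegLoc6.Serre
import Groth.Agent.SchTop.Closed
import Groth.Prelude
import Mathlib.Algebra.Homology.ExactSequence

/-! # Syzygies of a coherent module on a regular scheme -/

universe u

set_option backward.isDefEq.respectTransparency false
set_option backward.isDefEq.respectTransparency.types false

open CategoryTheory CategoryTheory.Limits AlgebraicGeometry

namespace Groth.Agent.CohCore23

open Groth.Agent.QCoh Groth.Agent.RegLoc6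

section algebra

variable {A : Type u} [CommRing A] {n : ℕ} (S : ComposableArrows (ModuleCat.{u} A) n)

/-- The range of the `i`-th map. -/
abbrev rng (i : ℕ) (hi : i + 1 ≤ n) : Submodule A (S.obj' (i + 1) (by omega)) :=
  LinearMap.range (S.map' i (i + 1) (by omega) hi).hom

theorem projective_left_of_pdLE {m : ℕ} (S : ComposableArrows (ModuleCat.{u} A) (m + 1)) (hS : S.Exact)
    (hmono : Function.Injective (S.map' 0 1 (Nat.zero_le 1) (Nat.le_add_left 1 m)).hom)
    (hepi : Function.Surjective (S.map' m (m + 1) (Nat.le_succ m) (le_refl (m + 1))).hom)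
    (hE : ∀ i (hi : i < m), Module.Projective A (S.obj' (i + 1) (by omega)))
    (hF : PdLE A m (S.obj' (m + 1) le_rfl)) : Module.Projective A (S.obj' 0 (Nat.zero_le _)) := by
  have key : ∀ j i (h : i + j = m), PdLE A i (rng S i (by omega)) := by
    intro j
    induction j with
    | zero =>
      rintro i rfl
      exact pdLE_of_equiv (LinearEquiv.ofTop _ (LinearMap.range_eq_top.2 hepi)).symm hF
    | succ j ih =>
      intro i h
      have h1 := ih (i + 1) (by omega)
      let g := (S.map' (i + 1) (i + 2) (by omega) (by omega)).hom.rangeRestrict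
      haveI : Module.Projective A (S.obj' (i + 1) (by omega)) := hE i (by omega)
      have h2 := (pdLE_succ_iff g (LinearMap.surjective_rangeRestrict _)).1 h1
      refine pdLE_of_equiv (LinearEquiv.ofEq _ _ ?_) h2
      rw [LinearMap.ker_rangeRestrict]
      exact ((ShortComplex.moduleCat_exact_iff_range_eq_ker _).1 (hS.exact i (by omega))).symm
  exact pdLE_zero_iff.1 (pdLE_of_equiv
    (LinearEquiv.ofInjective _ hmono).symm (key m 0 (by omega)))

end algebra

theorem isFinLocFree_syzygy (X : Scheme.{u}) [IsNoetherian X]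
    (hreg : ∀ x : X, IsRegularLocalRing (X.presheaf.stalk x)) (m : ℕ)
    (hdim : topologicalKrullDim X ≤ (m : WithBot ℕ∞))
    (S : ComposableArrows X.Modules (m + 1)) (hS : S.Exact)
    (hmono : Mono (S.map' 0 1 (Nat.zero_le 1) (Nat.le_add_left 1 m)))
    (hepi : Epi (S.map' m (m + 1) (Nat.le_succ m) (le_refl (m + 1))))
    (hE : ∀ i (hi : i < m), FlatMod.IsFinLocFree (S.obj' (i + 1) (by omega)))
    (hF : Coh.IsCoh (S.obj' (m + 1) le_rfl)) :
    FlatMod.IsFinLocFree (S.obj' 0 (Nat.zero_le _)) := by
  haveI := hmono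
  haveI := hepi
  have hG : Coh.IsCoh (S.obj' 0 (Nat.zero_le _)) := by
    rcases Nat.eq_zero_or_pos m with rfl | hm
    · haveI : IsIso (S.map' 0 1 (Nat.zero_le 1) (Nat.le_add_left 1 0)) := isIso_of_mono_of_epi _
      exact isCoh_of_mono (S.map' 0 1 (Nat.zero_le 1) (Nat.le_add_left 1 0)) hF
        ((isQCoh_iff_iso (asIso (S.map' 0 1 (Nat.zero_le 1) (Nat.le_add_left 1 0)))).2 hF.1)
    · have hfree := hE 0 hm
      have hq : Coh.IsCoh (S.obj' 1 (by omega)) :=
        ⟨isQCoh_of_isFinLocFree hfree, isFT_of_isFP (isFP_of_isFinLocFree hfree)⟩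
      refine isCoh_of_mono (S.map' 0 1 (Nat.zero_le 1) (Nat.le_add_left 1 m)) hq ?_
      have hq2 : Coh.IsQCoh (S.obj' 2 (by omega)) := by
        rcases Nat.lt_or_ge 1 m with h | h
        · exact isQCoh_of_isFinLocFree (hE 1 h)
        · obtain rfl : m = 1 := by omega
          exact hF.1
      haveI : Mono (S.sc hS.toIsComplex 0 (by omega)).f := hmono
      exact (isQCoh_iff_iso (IsLimit.conePointUniqueUpToIso
        (ShortComplex.Exact.fIsKernel (hS.exact 0 _)) (kernelIsKernel _))).2
        (isQCoh_kernel hq.1 hq2 _)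
  refine isFinLocFree_iff.2 ⟨isCoh_iff_isFP.1 hG, fun x => ?_⟩
  haveI := hreg x
  let F := DerSch.stalkFunctor X x
  let T : ComposableArrows (ModuleCat.{u} (X.presheaf.stalk x)) (m + 1) := S ⋙ F
  have hT : T.Exact :=
    { zero := fun i hi => by
        show F.map (S.map' i (i + 1) (by omega) (by omega)) ≫
          F.map (S.map' (i + 1) (i + 2) (by omega) (by omega)) = 0
        rw [← F.map_comp, hS.zero i hi, F.map_zero]
      exact := fun i hi => (KFlatLib.exact_iff_stalk _).1 (hS.exact i hi) x }
  haveI := finite_stalk_of_isFT hG.1 hG.2 x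
  haveI := finite_stalk_of_isFT hF.1 hF.2 x
  haveI : Module.Projective (X.presheaf.stalk x) ((S.obj' 0 (Nat.zero_le _)).presheaf.stalk x) := by
    refine projective_left_of_pdLE T hT ((ModuleCat.mono_iff_injective _).1 (inferInstanceAs
        (Mono (F.map (S.map' 0 1 (Nat.zero_le 1) (Nat.le_add_left 1 m))))))
      ((ModuleCat.epi_iff_surjective _).1 (inferInstanceAs
        (Epi (F.map (S.map' m (m + 1) (Nat.le_succ m) (le_refl (m + 1)))))))
      (fun i hi => ?_) ?_
    · haveI := free_stalk_of_isFinLocFree (hE i hi) x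
      exact (inferInstance : Module.Projective (X.presheaf.stalk x)
        ((S.obj' (i + 1) (by omega)).presheaf.stalk x))
    · refine pdLE_mono (M := (S.obj' (m + 1) le_rfl).presheaf.stalk x) ?_
        (pdLE_of_isRegularLocalRing (X.presheaf.stalk x) _)
      have h1 := (IsRegularLocalRing.spanFinrank_maximalIdeal (R := X.presheaf.stalk x)).le.trans
        ((SchTop.ringKrullDim_stalk_le x).trans hdim)
      exact_mod_cast h1
  exact Module.free_of_flat_of_isLocalRing

end Groth.Agent.CohCore23
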